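import Cfsg.Agent.OddHalf.NI3.Ex.Defs
import Cfsg.Agent.KFacts.RgdLieCharP
import Cfsg.Agent.OddHalf.D8.WreathLam
import Cfsg.Agent.OddHalf.NI.Ex.Descend
import Cfsg.Agent.OddHalf.D9.Cut
import Cfsg.Agent.S0270
import Cfsg.Agent.S0814

-- merged: Cfsg.Agent.OddHalf.NI3.Ex.Core
section

/-!
# (EX3): components of the centralizer of an involutory automorphism of a group of characteristic 2 type

`X` of characteristic 2 type, `Z(X) = 1`, `α ∈ Aut X`, `α² = 1`, `J` a component of `C_X(α)`.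

* `no_cent`: no involution of `C_X(α)` centralises `J` (Thompson's `A × B` lemma).
* `inner_false`: `α` is not inner.
* `conj_eq`: if `|J|` is even then `J` is normal in `C_X(α)`.
* `odd_cent`: `C_{C(α)}(J)` has odd order; `pow_dvd`: the 2-part of `|C_X(α)|` divides `|Aut (J / Z(J))|`.
-/

set_option autoImplicit false

namespace Cfsg.Agent.OddHalf.NI3.Ex

open Subgroup Cfsg Cfsg.Agent.OddHalf.Iface Cfsg.Agent.OddHalf.NI Cfsg.Agent.OddHalf.NI.Ex
open Cfsg.Agent.SignalizersComponents Cfsg.Agent.OddHalf.D3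
open scoped commutatorElement

universe u

variable {X : Type u} [Group X]

theorem conj_inj (hZ : center X = ⊥) : Function.Injective (MulAut.conj : X →* MulAut X) := by
  rw [injective_iff_map_eq_one]
  intro y hy
  have h1 : y ∈ center X := by
    rw [mem_center_iff]
    intro g
    have h2 := DFunLike.congr_fun hy g
    rw [MulAut.conj_apply, MulAut.one_apply] at h2
    calc g * y = y * g * y⁻¹ * y := by rw [h2]
      _ = y * g := by group
  rwa [hZ, mem_bot] at h1

theorem mul_conj (α : MulAut X) (x : X) : α * MulAut.conj x = MulAut.conj (α x) * α := by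
  ext k
  simp [MulAut.mul_apply, MulAut.conj_apply, map_mul, map_inv]

theorem conj_comm_iff (hZ : center X = ⊥) (α : MulAut X) (x : X) :
    MulAut.conj x * α = α * MulAut.conj x ↔ α x = x := by
  rw [mul_conj, mul_left_inj]
  exact ⟨fun h => (conj_inj hZ h).symm, fun h => by rw [h]⟩

/-- the image of the 2-core of a subgroup under an automorphism fixing the subgroup -/
theorem map_pCore {M : Subgroup X} {α : MulAut X} (h : ∀ x, x ∈ M → α x ∈ M) (h' : ∀ x, x ∈ M → α⁻¹ x ∈ M) {q : X}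
    (hq : q ∈ (pCore 2 ↥M).map M.subtype) : α q ∈ (pCore 2 ↥M).map M.subtype := by
  let β : ↥M ≃* ↥M :=
    { toFun := fun x => ⟨α x, h x x.2⟩
      invFun := fun x => ⟨α⁻¹ x, h' x x.2⟩
      left_inv := fun x => Subtype.ext (MulAut.inv_apply_self X α x)
      right_inv := fun x => Subtype.ext (MulAut.apply_inv_self X α x)
      map_mul' := fun x y => Subtype.ext (map_mul α (x : X) y) }
  obtain ⟨x, hx, rfl⟩ := hq
  have h1 := Lib.Cores.map_equiv_pCore β 2
  have h2 : β x ∈ pCore 2 ↥M := by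
    rw [← h1]
    exact mem_map_of_mem _ hx
  exact ⟨β x, h2, rfl⟩

/-- **`A × B`**: no involution of `C_X(α)` centralises a component `J` of `C_X(α)`. -/
theorem no_cent [Finite X] (hC : IsCharacteristicTwoType X) (hZ : center X = ⊥) {α : MulAut X} (hα : α * α = 1)
    {J : Subgroup X} (hJ : CompIn (fix α) J) {r : X} (hr : α r = r) (hr2 : r * r = 1) (hr1 : r ≠ 1)
    (hc : ∀ j ∈ J, j * r = r * j) : False := by
  have : Fact (Nat.Prime 2) := ⟨Nat.prime_two⟩
  have hR : IsPGroup 2 (zpowers r) := by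
    rintro ⟨a, ha⟩
    obtain ⟨i, rfl⟩ := mem_zpowers_iff.1 ha
    refine ⟨1, Subtype.ext ?_⟩
    show (r ^ i) ^ (2 ^ 1) = 1
    rw [pow_one, pow_two, ← (Commute.refl r).mul_zpow, hr2, one_zpow]
  have hR1 : zpowers r ≠ ⊥ := by
    rw [Ne, zpowers_eq_bot]
    exact hr1
  set M : Subgroup X := normalizer ((zpowers r : Subgroup X) : Set X) with hM
  have hchar : centralizer (pCore 2 ↥M : Set ↥M) ≤ pCore 2 ↥M := hC.2 _ hR hR1
  set Q : Subgroup X := (pCore 2 ↥M).map M.subtype with hQ
  have hQ2 : IsPGroup 2 ↥Q := (Lib.Cores.pCore_isPGroup 2).map _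
  have hQM : Q ≤ M := map_subtype_le _
  have hinv : α⁻¹ = α := inv_eq_of_mul_eq_one_right hα
  have hαα : ∀ x, α (α x) = x := fun x => by
    rw [← MulAut.mul_apply, hα, MulAut.one_apply]
  -- `M` is invariant
  have hcM : ∀ x, x ∈ M ↔ x * r * x⁻¹ = r := by
    intro x
    rw [hM, mem_normalizer_iff]
    constructor
    · intro h
      have h1 := (h r).1 (mem_zpowers r)
      obtain ⟨i, hi⟩ := mem_zpowers_iff.1 h1
      rcases Int.even_or_odd i with ⟨k, rfl⟩ | ⟨k, rfl⟩
      · exfalso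
        have h2 : r ^ (k + k) = 1 := by rw [zpow_add, ← (Commute.refl r).mul_zpow, hr2, one_zpow]
        rw [h2] at hi
        apply hr1
        have h3 : r = x⁻¹ * (x * r * x⁻¹) * x := by group
        rw [h3, ← hi]; group
      · have h2 : r ^ (2 * k + 1) = r := by
          rw [two_mul, zpow_add, zpow_add, ← (Commute.refl r).mul_zpow, hr2, one_zpow, one_mul, zpow_one]
        rw [h2] at hi
        exact hi.symm
    · intro h y
      have h0 : ∀ i : ℤ, x * r ^ i * x⁻¹ = r ^ i := fun i => by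
        rw [← conj_zpow, h]
      constructor
      · intro hy
        obtain ⟨i, rfl⟩ := mem_zpowers_iff.1 hy
        rw [h0]
        exact hy
      · intro hy
        obtain ⟨i, hi⟩ := mem_zpowers_iff.1 hy
        have h1 : y = x⁻¹ * (x * y * x⁻¹) * x := by group
        have h2 : y = r ^ i := by
          rw [h1, ← hi]
          nth_rewrite 1 [← h0 i]
          group
        rw [h2]
        exact mem_zpowers_iff.2 ⟨i, rfl⟩
  have hαM : ∀ x, x ∈ M → α x ∈ M := by
    intro x hx
    rw [hcM] at hx ⊢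
    have := congrArg α hx
    rwa [map_mul, map_mul, map_inv, hr] at this
  have hαM' : ∀ x, x ∈ M → α⁻¹ x ∈ M := by rw [hinv]; exact hαM
  have hαQ : ∀ q ∈ Q, α q ∈ Q := fun q hq => map_pCore hαM hαM' hq
  have hMQ : ∀ x ∈ M, ∀ q ∈ Q, x * q * x⁻¹ ∈ Q := by
    rintro x hx _ ⟨q, hq, rfl⟩
    exact ⟨⟨x, hx⟩ * q * ⟨x, hx⟩⁻¹, (Lib.Cores.pCore_normal 2).conj_mem q hq ⟨x, hx⟩, rfl⟩
  have hJM : J ≤ M := by
    intro j hj
    rw [hcM, hc j hj]
    group
  -- `J` centralises `C_Q(α)`
  have hcen : ∀ q ∈ Q, α q = q → ∀ j ∈ J, q * j = j * q := by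
    have h1 : (J.subgroupOf (fix α)) ≤ normalizer (((Q ⊓ fix α).subgroupOf (fix α) : Subgroup ↥(fix α)) :
        Set ↥(fix α)) := by
      intro j hj
      rw [mem_normalizer_iff]
      have hj' : (j : X) ∈ M := hJM hj
      intro y
      rw [mem_subgroupOf, mem_subgroupOf, mem_inf, mem_inf]
      constructor
      · rintro ⟨h2, h3⟩
        exact ⟨hMQ _ hj' _ h2, (j * y * j⁻¹ : ↥(fix α)).2⟩
      · rintro ⟨h2, h3⟩
        refine ⟨?_, y.2⟩
        have h4 := hMQ _ (inv_mem hj') _ h2
        have h5 : (j : X)⁻¹ * ((j * y * j⁻¹ : ↥(fix α)) : X) * ((j : X)⁻¹)⁻¹ = y := by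
          push_cast
          group
        rwa [h5] at h4
    have hs : Group.IsSolvable ↥((Q ⊓ fix α).subgroupOf (fix α)) := by
      have h2 : IsPGroup 2 ↥((Q ⊓ fix α).subgroupOf (fix α)) :=
        (hQ2.to_le inf_le_left).comap_subtype
      have := h2.isNilpotent
      infer_instance
    have h2 := Components.component_commutator_solvable hJ.comp h1 hs
    rw [commutator_eq_bot_iff_le_centralizer] at h2
    intro q hq hqα j hj
    have h3 := h2 (show (⟨j, hJ.le hj⟩ : ↥(fix α)) ∈ J.subgroupOf (fix α) from hj)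
    have h4 := mem_centralizer_iff.1 h3 (⟨q, hqα⟩ : ↥(fix α)) ⟨hq, hqα⟩
    exact congrArg Subtype.val h4
  -- the `A × B` lemma in `Aut X`
  have key := D8.WreathLam.axb (G := MulAut X) (P := J.map MulAut.conj) (C := Q.map MulAut.conj) (t := α) hα
    (by rw [← map_commutator, hJ.perfect])
    (by
      rintro _ ⟨j, hj, rfl⟩
      exact (conj_comm_iff hZ α j).2 (hJ.le hj))
    (hQ2.map _)
    (by
      rintro _ ⟨j, hj, rfl⟩ _ ⟨q, hq, rfl⟩
      exact ⟨j * q * j⁻¹, hMQ j (hJM hj) q hq, by rw [map_mul, map_mul, map_inv]⟩)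
    (by
      rintro _ ⟨q, hq, rfl⟩
      refine ⟨α q, hαQ q hq, ?_⟩
      rw [mul_conj]
      group)
    (by
      rintro _ ⟨q, hq, rfl⟩ hy _ ⟨j, hj, rfl⟩
      rw [← map_mul, ← map_mul, hcen q hq ((conj_comm_iff hZ α q).1 hy) j hj])
  have hJQ : ∀ j ∈ J, j ∈ Q := by
    intro j hj
    have h1 : (⟨j, hJM hj⟩ : ↥M) ∈ centralizer (pCore 2 ↥M : Set ↥M) := by
      rw [mem_centralizer_iff]
      intro q hq
      apply Subtype.ext
      have h2 := key (MulAut.conj (q : X)) ⟨q, ⟨q, hq, rfl⟩, rfl⟩ (MulAut.conj j) ⟨j, hj, rfl⟩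
      rw [← map_mul, ← map_mul] at h2
      exact conj_inj hZ h2
    exact ⟨_, hchar h1, rfl⟩
  -- `J` is a 2-group
  have h1 : IsPGroup 2 ↥J := hQ2.to_le hJQ
  have h2 := h1.isNilpotent
  have h3 : Group.IsSolvable ↥J := inferInstance
  exact Components.quasisimple_not_isSolvable hJ.quasi h3

/-- **No inner automorphism.** -/
theorem inner_false [Finite X] (hC : IsCharacteristicTwoType X) (hZ : center X = ⊥) {x : X}
    (hx : orderOf (MulAut.conj x) = 2) {J : Subgroup X} (hJ : CompIn (fix (MulAut.conj x)) J) : False := by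
  have h1 : MulAut.conj x * MulAut.conj x = 1 := by rw [← pow_two, ← hx, pow_orderOf_eq_one]
  refine no_cent hC hZ h1 hJ (r := x) ?_ ?_ ?_ ?_
  · rw [MulAut.conj_apply]; group
  · apply conj_inj hZ
    rw [map_mul, map_one, h1]
  · rintro rfl
    rw [map_one, orderOf_one] at hx
    omega
  · intro j hj
    have h2 : x * j * x⁻¹ = j := hJ.le hj
    calc j * x = x * j * x⁻¹ * x := by rw [h2]
      _ = x * j := by group

/-- `J` is normal in `C_X(α)` if it contains an involution. -/
theorem conj_eq [Finite X] (hC : IsCharacteristicTwoType X) (hZ : center X = ⊥) {α : MulAut X} (hα : α * α = 1)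
    {J : Subgroup X} (hJ : CompIn (fix α) J) (he : 2 ∣ Nat.card ↥J) {g : X} (hg : α g = g) : cj g J = J := by
  by_contra hne
  have hgf : g ∈ fix α := hg
  have hg1 : cj g (fix α) = fix α := by
    ext y
    rw [mem_cj]
    constructor
    · intro h
      have h1 : y = g * (g⁻¹ * y * g) * g⁻¹ := by group
      rw [h1]
      exact mul_mem (mul_mem hgf h) (inv_mem hgf)
    · intro h
      exact mul_mem (mul_mem (inv_mem hgf) h) hgf
  have hJ' := hJ.conj_of_norm hg1
  have hcomm := hJ'.comm hJ hne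
  have : Fact (Nat.Prime 2) := ⟨Nat.prime_two⟩
  obtain ⟨r, hr⟩ := exists_prime_orderOf_dvd_card' 2 he
  have hr' : orderOf (r : X) = 2 := by rw [Subgroup.orderOf_coe, hr]
  refine no_cent hC hZ hα hJ' (r := (r : X)) (hJ.le r.2) ?_ ?_ ?_
  · rw [← pow_two, ← hr', pow_orderOf_eq_one]
  · intro h
    rw [h, orderOf_one] at hr'
    omega
  · intro j hj
    exact (mem_centralizer_iff.1 (hcomm hj) r r.2).symm

/-- the action of `C_X(α)` on `J / Z(J)` -/
noncomputable def act {α : MulAut X} {J : Subgroup X} (hn : (J.subgroupOf (fix α)).Normal) :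
    ↥(fix α) →* MulAut (↥(J.subgroupOf (fix α)) ⧸ center ↥(J.subgroupOf (fix α))) :=
  haveI := hn
  { toFun := fun g => bar (MulAut.conjNormal g)
    map_one' := by rw [map_one, bar_one]
    map_mul' := fun a b => by rw [map_mul, bar_mul] }

theorem normal [Finite X] (hC : IsCharacteristicTwoType X) (hZ : center X = ⊥) {α : MulAut X} (hα : α * α = 1)
    {J : Subgroup X} (hJ : CompIn (fix α) J) (he : 2 ∣ Nat.card ↥J) : (J.subgroupOf (fix α)).Normal := by
  refine ⟨fun j hj g => ?_⟩
  have h1 := conj_eq hC hZ hα hJ he g.2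
  rw [mem_subgroupOf] at hj ⊢
  have h2 : (g : X) * j * (g : X)⁻¹ ∈ cj (g : X) J := conj_mem_cj hj
  rw [h1] at h2
  exact h2

/-- the kernel of the action on `J / Z(J)` centralises `J` and has odd order -/
theorem act_ker [Finite X] (hC : IsCharacteristicTwoType X) (hZ : center X = ⊥) {α : MulAut X} (hα : α * α = 1)
    {J : Subgroup X} (hJ : CompIn (fix α) J) (hn : (J.subgroupOf (fix α)).Normal) :
    (∀ g ∈ (act hn).ker, ∀ j ∈ J, (g : X) * j = j * g) ∧ Odd (Nat.card ↥(act hn).ker) := by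
  have := hn
  have h0 : ∀ g ∈ (act hn).ker, ∀ j ∈ J, (g : X) * j = j * g := by
    intro g hg j hj
    have hp : commutator ↥(J.subgroupOf (fix α)) = ⊤ := hJ.comp.2.1.commutator_eq_top
    have h1 : bar (MulAut.conjNormal g : MulAut ↥(J.subgroupOf (fix α))) = 1 := hg
    have h2 := eq_one_of_bar hp h1
    have h3 := congrArg (fun x : ↥(J.subgroupOf (fix α)) => ((x : ↥(fix α)) : X))
      (DFunLike.congr_fun h2 (⟨⟨j, hJ.le hj⟩, hj⟩ : ↥(J.subgroupOf (fix α))))
    have h4 : (g : X) * j * (g : X)⁻¹ = j := h3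
    calc (g : X) * j = g * j * (g : X)⁻¹ * g := by group
      _ = j * g := by rw [h4]
  refine ⟨h0, ?_⟩
  by_contra hodd
  rw [Nat.not_odd_iff_even, even_iff_two_dvd] at hodd
  have : Fact (Nat.Prime 2) := ⟨Nat.prime_two⟩
  obtain ⟨r, hr⟩ := exists_prime_orderOf_dvd_card' 2 hodd
  have hr' : orderOf ((r : ↥(fix α)) : X) = 2 := by rw [Subgroup.orderOf_coe, Subgroup.orderOf_coe, hr]
  refine no_cent hC hZ hα hJ (r := ((r : ↥(fix α)) : X)) (r : ↥(fix α)).2 ?_ ?_ ?_
  · rw [← pow_two, ← hr', pow_orderOf_eq_one]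
  · intro h
    rw [h, orderOf_one] at hr'
    omega
  · intro j hj
    exact (h0 r r.2 j hj).symm

/-- **The 2-part of `|C_X(α)|` divides `|Aut (J / Z(J))|`.** -/
theorem pow_dvd [Finite X] (hC : IsCharacteristicTwoType X) (hZ : center X = ⊥) {α : MulAut X} (hα : α * α = 1)
    {J : Subgroup X} (hJ : CompIn (fix α) J) (he : 2 ∣ Nat.card ↥J) {k : ℕ} (hk : 2 ^ k ∣ Nat.card ↥(fix α)) :
    2 ^ k ∣ Nat.card (MulAut (↥J ⧸ center ↥J)) := by
  have hn := normal hC hZ hα hJ he
  obtain ⟨-, h2⟩ := act_ker hC hZ hα hJ hn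
  have e1 : ↥(J.subgroupOf (fix α)) ≃* ↥J := subgroupOfEquivOfLe hJ.le
  have e2 : ↥(J.subgroupOf (fix α)) ⧸ center ↥(J.subgroupOf (fix α)) ≃* ↥J ⧸ center ↥J :=
    QuotientGroup.congr _ _ e1 (by
      ext x
      constructor
      · rintro ⟨z, hz, rfl⟩
        rw [SetLike.mem_coe, mem_center_iff] at hz
        rw [mem_center_iff]
        intro g
        have h := congrArg e1 (hz (e1.symm g))
        rw [map_mul, map_mul, MulEquiv.apply_symm_apply] at h
        exact h
      · intro hx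
        refine ⟨e1.symm x, ?_, e1.apply_symm_apply x⟩
        rw [SetLike.mem_coe, mem_center_iff]
        intro g
        have h := congrArg e1.symm (mem_center_iff.mp hx (e1 g))
        rw [map_mul, map_mul, MulEquiv.symm_apply_apply] at h
        exact h)
  have h3 : Nat.card (MulAut (↥J ⧸ center ↥J)) =
      Nat.card (MulAut (↥(J.subgroupOf (fix α)) ⧸ center ↥(J.subgroupOf (fix α)))) :=
    Nat.card_congr (MulAut.congr e2).symm.toEquiv
  rw [h3]
  have h4 : Nat.card ↥(fix α) = Nat.card ↥(act hn).ker * Nat.card ↥(act hn).range := by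
    rw [← (act hn).ker.card_mul_index, Subgroup.index_ker]
  rw [h4] at hk
  have h5 : 2 ^ k ∣ Nat.card ↥(act hn).range :=
    ((Nat.coprime_two_left.2 h2).pow_left k).dvd_of_dvd_mul_left hk
  exact h5.trans (card_subgroup_dvd_card _)

end Cfsg.Agent.OddHalf.NI3.Ex

end

-- merged: Cfsg.Agent.OddHalf.NI3.Ex.SpSix
section

/-!
# (EX), (EX3): the row `Sp₆(2)` (helper5)

`CT X`: finite, simple, nonabelian, of characteristic 2 type. All automorphisms of `Sp₆(2)` are inner: no component
at all in the centralizer of an involutory automorphism.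
-/

set_option autoImplicit false

namespace Cfsg.Agent.OddHalf.NI3.Ex

open Subgroup Cfsg Cfsg.Agent.OddHalf.Iface Cfsg.Agent.OddHalf.NI Cfsg.Agent.OddHalf.NI.Ex
open Cfsg.Agent.OddHalf.D9.Cut

universe u v

/-- finite, simple, of characteristic 2 type, with trivial centre -/
structure CT (X : Type u) [Group X] : Prop where
  fin : Finite X
  simple : IsSimpleGroup X
  char : IsCharacteristicTwoType X
  center : center X = ⊥

theorem ne_of_na {X : Type u} [Group X] (h : ¬ IsMulCommutative X) : ∃ a b : X, a * b ≠ b * a := by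
  by_contra hcon
  push Not at hcon
  exact h ⟨⟨hcon⟩⟩

theorem CT.of_filt {X : Type u} [Group X] [Finite X] (hs : IsSimpleGroup X) (hna : ¬ IsMulCommutative X)
    (h : KFacts.RgdLieCharP.IsLieFilt 2 X) : CT X := by
  have : Fact (Nat.Prime 2) := ⟨Nat.prime_two⟩
  have hc := ne_of_na hna
  exact ⟨inferInstance, inferInstance, (KFacts.RgdLieCharP.hasFilt_of_lie h).charTwo hc,
    KFacts.RgdLieCharP.center_eq_bot hc⟩

theorem charP_two {F : Type*} [Field F] [Fintype F] {f : ℕ} (hF : Fintype.card F = 2 ^ f) : CharP F 2 := by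
  have : Fact (Nat.Prime 2) := ⟨Nat.prime_two⟩
  exact charP_of_card_eq_prime_pow hF

/-- If all automorphisms are inner then no involutory automorphism has a component. -/
theorem no_comp_of_inner {X : Type u} [Group X] (h : CT X) (hi : ∀ α : MulAut X, ∃ x, α = MulAut.conj x)
    {α : MulAut X} (hα : orderOf α = 2) {J : Subgroup X} (hJ : CompIn (fix α) J) : False := by
  have := h.fin
  obtain ⟨x, rfl⟩ := hi α
  exact inner_false h.char h.center hα hJ

theorem inner_of_card {X : Type u} [Group X] [Finite X] (hZ : center X = ⊥)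
    (h : Nat.card (MulAut X) = Nat.card X) (α : MulAut X) : ∃ x, α = MulAut.conj x := by
  have h1 : Function.Bijective (MulAut.conj : X →* MulAut X) := by
    rw [Nat.bijective_iff_injective_and_card]
    exact ⟨conj_inj hZ, h.symm⟩
  obtain ⟨x, hx⟩ := h1.2 α
  exact ⟨x, hx.symm⟩

theorem ct_sp62 {X : Type u} [Group X] [Finite X] (hs : IsSimpleGroup X) (hna : ¬ IsMulCommutative X)
    (h : XSp62 X) : CT X := by
  obtain ⟨F, i, j, hF, ⟨e⟩⟩ := h
  have h2 := charP_two (F := F) (f := 1) (by rw [hF]; norm_num)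
  exact CT.of_filt hs hna (Or.inr (Or.inl ⟨F, i, j, h2, 3, by norm_num, by norm_num, ⟨e⟩⟩))

/-- all automorphisms of `Sp₆(2)` are inner -/
theorem inner_sp62 {X : Type u} [Group X] [Finite X] (hs : IsSimpleGroup X) (hna : ¬ IsMulCommutative X)
    (h : XSp62 X) (α : MulAut X) : ∃ x, α = MulAut.conj x := by
  refine inner_of_card (ct_sp62 hs hna h).center ?_ α
  obtain ⟨F, i, j, hF, ⟨e⟩⟩ := h
  have : Fact (Nat.Prime 2) := ⟨Nat.prime_two⟩
  have h1 := S0814.result (F := F) 2 1 le_rfl (by rw [hF]; norm_num) 3 (by norm_num) (by norm_num)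
  norm_num at h1
  rw [Nat.card_congr (MulAut.congr e).toEquiv, Nat.card_congr e.toEquiv]
  exact h1

/-- **The row `Sp₆(2)`.** -/
theorem no3_sp62 {X : Type u} [Group X] [Finite X] (hs : IsSimpleGroup X) (hna : ¬ IsMulCommutative X)
    (h : XSp62 X) : No3 X :=
  fun _ hα _ hJ _ _ => (no_comp_of_inner (ct_sp62 hs hna h) (inner_sp62 hs hna h) hα hJ).elim

end Cfsg.Agent.OddHalf.NI3.Ex

end
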