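import Cfsg.Agent.FourTwo.AutF4
import Cfsg.Agent.FourTwo.Perf
import Cfsg.Agent.OddHalf.NI.Ex.Defs
import Cfsg.Agent.OddHalf.NI3.Ex.SpSix
import Cfsg.Agent.OddHalf.NI3.Ex.Three
import Cfsg.Agent.OddHalf.NI3.Ex.Cut
import Cfsg.Agent.UGT.SL.FactsL2
import Cfsg.Agent.OddHalf.D9.FFour.MultTwo
import Cfsg.Agent.SmallSimple.PSLTwoPart
import Cfsg.Agent.ClassicalGeometry.PSL2Basic
import Cfsg.Agent.S0813

-- merged: Cfsg.Agent.OddHalf.NI3.Ex.FFour
section

/-!
# (EX), (EX3): outer involutory automorphisms of `F₄(2)` (helper233)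

* `card_ge`: `α² = 1`, `α(S) = S`, `A ≤ S`, `A ∩ α(A) = 1`, `|A|² = |S|` imply `|A| ≤ |C_S(α)|`;
* `exists_conj`: an involutory automorphism normalises a Sylow 2-subgroup;
* `pow_dvd_outer`: `2 ^ 12` divides `|C_L(α)|`, `L = F₄(2)`, `α` an outer automorphism of order 2.
-/

set_option autoImplicit false

namespace Cfsg.Agent.OddHalf.NI3.Ex.FFour

open Subgroup Cfsg.Agent.OddHalf.NI.Ex

section general

variable {G : Type*} [Group G]

/-- `A B = S` for subgroups with trivial intersection and `|A| |B| = |S|` -/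
theorem exists_mul [Finite G] {S A B : Subgroup G} (hA : A ≤ S) (hB : B ≤ S) (hd : ∀ x ∈ A, x ∈ B → x = 1)
    (hc : Nat.card A * Nat.card B = Nat.card S) {s : G} (hs : s ∈ S) : ∃ a ∈ A, ∃ b ∈ B, s = a * b := by
  classical
  let f : A × B → S := fun p => ⟨p.1 * p.2, mul_mem (hA p.1.2) (hB p.2.2)⟩
  have hf : Function.Injective f := by
    rintro ⟨a, b⟩ ⟨c, d⟩ h
    have h1 : (a : G) * b = c * d := congrArg Subtype.val h
    have h2 : (c : G)⁻¹ * a = d * (b : G)⁻¹ := by
      calc (c : G)⁻¹ * a = (c : G)⁻¹ * (a * b) * (b : G)⁻¹ := by group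
        _ = d * (b : G)⁻¹ := by rw [h1]; group
    have h3 : (c : G)⁻¹ * a = 1 := hd _ (mul_mem (inv_mem c.2) a.2) (by
      rw [h2]; exact mul_mem d.2 (inv_mem b.2))
    have h4 : (a : G) = c := by
      have := congrArg (fun y => (c : G) * y) h3
      simpa using this
    have h5 : (b : G) = d := by
      rw [h4] at h1
      exact mul_left_cancel h1
    exact Prod.ext (Subtype.ext h4) (Subtype.ext h5)
  have hb : Function.Bijective f := by
    rw [Nat.bijective_iff_injective_and_card]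
    exact ⟨hf, by rw [Nat.card_prod, hc]⟩
  obtain ⟨⟨a, b⟩, h⟩ := hb.2 ⟨s, hs⟩
  exact ⟨a, a.2, b, b.2, (congrArg Subtype.val h).symm⟩

theorem card_ge [Finite G] {α : MulAut G} (hα : α * α = 1) {S A : Subgroup G} (hS : ∀ s ∈ S, α s ∈ S) (hA : A ≤ S)
    (hd : ∀ x ∈ A, α x ∈ A → x = 1) (hc : Nat.card A * Nat.card A = Nat.card S) :
    Nat.card A ≤ Nat.card ↥(S ⊓ fix α) := by
  classical
  have hαα : ∀ x, α (α x) = x := fun x => by
    rw [← MulAut.mul_apply, hα, MulAut.one_apply]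
  set B : Subgroup G := A.map α.toMonoidHom with hB
  have hmB : ∀ x, x ∈ B ↔ α x ∈ A := by
    intro x
    constructor
    · rintro ⟨a, ha, rfl⟩
      show α (α a) ∈ A
      rw [hαα]; exact ha
    · intro h
      exact ⟨α x, h, hαα x⟩
  have hcB : Nat.card B = Nat.card A := card_map_of_injective α.injective
  have hBS : B ≤ S := by
    rintro _ ⟨a, ha, rfl⟩
    exact hS a (hA ha)
  have hd' : ∀ x ∈ A, x ∈ B → x = 1 := fun x hx h => hd x hx ((hmB x).1 h)
  -- the elements inverted by `α`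
  let T : Set G := {s | s ∈ S ∧ α s = s⁻¹}
  have hT : ∀ s ∈ T, ∃ a ∈ A, s = a * (α a)⁻¹ := by
    rintro s ⟨hs, h1⟩
    obtain ⟨a, ha, b, hb, rfl⟩ := exists_mul hA hBS hd' (by rw [hcB, hc]) hs
    refine ⟨a, ha, ?_⟩
    rw [map_mul, mul_inv_rev] at h1
    have h2 : b * α a = a⁻¹ * (α b)⁻¹ := by
      calc b * α a = b * (α a * α b) * (α b)⁻¹ := by group
        _ = a⁻¹ * (α b)⁻¹ := by rw [h1]; group
    have h3 : b * α a = 1 := by
      apply hd'
      · rw [h2]
        exact mul_mem (inv_mem ha) (inv_mem ((hmB b).1 hb))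
      · exact mul_mem hb ((hmB _).2 (by rw [hαα]; exact ha))
    rw [eq_inv_of_mul_eq_one_left h3]
  have hTA : Nat.card T ≤ Nat.card A := by
    let f : T → A := fun s => ⟨(hT s s.2).choose, (hT s s.2).choose_spec.1⟩
    have hf : Function.Injective f := by
      intro s s' h
      have h1 := (hT s s.2).choose_spec.2
      have h2 := (hT s' s'.2).choose_spec.2
      have h3 : (hT s s.2).choose = (hT s' s'.2).choose := congrArg Subtype.val h
      apply Subtype.ext
      rw [h1, h2, h3]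
    exact Nat.card_le_card_of_injective f hf
  -- cosets
  have h1 : Nat.card (↥S ⧸ (fix α).subgroupOf S) ≤ Nat.card T := by
    let f : ↥S ⧸ (fix α).subgroupOf S → T := Quotient.lift
      (fun s : ↥S => (⟨(s : G) * (α (s : G))⁻¹, mul_mem s.2 (inv_mem (hS _ s.2)), by
        rw [map_mul, map_inv, hαα]; group⟩ : T)) (by
        intro s s' h
        have h1 : s⁻¹ * s' ∈ (fix α).subgroupOf S := QuotientGroup.leftRel_apply.1 h
        have h2 : α ((s : G)⁻¹ * s') = (s : G)⁻¹ * s' := h1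
        rw [map_mul, map_inv] at h2
        apply Subtype.ext
        show (s : G) * (α (s : G))⁻¹ = (s' : G) * (α (s' : G))⁻¹
        have h3 : α (s' : G) = α (s : G) * ((s : G)⁻¹ * s') := by rw [← h2]; group
        rw [h3]; group)
    have hf : Function.Injective f := by
      intro a b
      obtain ⟨s, rfl⟩ := QuotientGroup.mk_surjective a
      obtain ⟨s', rfl⟩ := QuotientGroup.mk_surjective b
      intro h
      have h1 : (s : G) * (α (s : G))⁻¹ = (s' : G) * (α (s' : G))⁻¹ := congrArg Subtype.val h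
      apply QuotientGroup.eq.2
      show α ((s : G)⁻¹ * s') = (s : G)⁻¹ * s'
      rw [map_mul, map_inv]
      have h2 : (s' : G) = (s : G) * (α (s : G))⁻¹ * α (s' : G) := by rw [h1]; group
      conv_rhs => rw [h2]
      group
    exact Nat.card_le_card_of_injective f hf
  have h2 : Nat.card ↥S = Nat.card (↥S ⧸ (fix α).subgroupOf S) * Nat.card ↥((fix α).subgroupOf S) :=
    Subgroup.card_eq_card_quotient_mul_card_subgroup _
  have h3 : Nat.card ↥((fix α).subgroupOf S) = Nat.card ↥(S ⊓ fix α) := by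
    rw [← inf_subgroupOf_left]
    exact Nat.card_congr (subgroupOfEquivOfLe inf_le_left).toEquiv
  rw [h3] at h2
  have h4 : Nat.card A * Nat.card A ≤ Nat.card A * Nat.card ↥(S ⊓ fix α) := by
    rw [hc, h2]
    exact Nat.mul_le_mul_right _ (h1.trans hTA)
  exact Nat.le_of_mul_le_mul_left h4 Nat.card_pos

/-- an involutory automorphism normalises a Sylow 2-subgroup -/
theorem exists_conj [Finite G] (P : Sylow 2 G) {α : MulAut G} (hα : α * α = 1) :
    ∃ g : G, ∀ s ∈ (P : Subgroup G), g⁻¹ * α (g * s * g⁻¹) * g ∈ (P : Subgroup G) := by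
  classical
  have : Fact (Nat.Prime 2) := ⟨Nat.prime_two⟩
  have hp : IsPGroup 2 (zpowers α) := by
    rintro ⟨a, ha⟩
    obtain ⟨i, rfl⟩ := mem_zpowers_iff.1 ha
    refine ⟨1, Subtype.ext ?_⟩
    show (α ^ i) ^ (2 ^ 1) = 1
    rw [pow_one, pow_two, ← (Commute.refl α).mul_zpow, hα, one_zpow]
  have hodd : ¬ 2 ∣ Nat.card (Sylow 2 G) := by
    have h := card_sylow_modEq_one 2 G
    intro h2
    have h4 : 1 ≡ 0 [MOD 2] := h.symm.trans (Nat.modEq_zero_iff_dvd.2 h2)
    exact absurd h4 (by decide)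
  obtain ⟨Q, hQ⟩ := hp.nonempty_fixed_point_of_prime_not_dvd_card (α := Sylow 2 G) hodd
  have hQ1 : α • Q = Q := hQ ⟨α, mem_zpowers α⟩
  obtain ⟨g, hg⟩ := MulAction.exists_smul_eq G P Q
  refine ⟨g, fun s hs => ?_⟩
  have h1 : g * s * g⁻¹ ∈ (Q : Subgroup G) := by
    rw [← hg, Sylow.coe_subgroup_smul, mem_pointwise_smul_iff_inv_smul_mem]
    have e : (MulAut.conj g)⁻¹ • (g * s * g⁻¹) = s := by
      rw [← map_inv, MulAut.smul_def, MulAut.conj_apply]; group
    rw [e]; exact hs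
  have h2 : α (g * s * g⁻¹) ∈ (Q : Subgroup G) := by
    rw [← hQ1, Sylow.pointwise_smul_def]
    exact smul_mem_pointwise_smul _ _ _ h1
  rw [← hg, Sylow.coe_subgroup_smul, mem_pointwise_smul_iff_inv_smul_mem] at h2
  have e : (MulAut.conj g)⁻¹ • (α (g * s * g⁻¹)) = g⁻¹ * α (g * s * g⁻¹) * g := by
    rw [← map_inv, MulAut.smul_def, MulAut.conj_apply, inv_inv]
  rwa [e] at h2

/-- the conjugate `g⁻¹ α g` -/
theorem conj_aut (α : MulAut G) (hα : α * α = 1) (g : G) : ∃ β : MulAut G, β * β = 1 ∧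
    (∀ h, β h = g⁻¹ * α (g * h * g⁻¹) * g) ∧ Nat.card ↥(fix α) = Nat.card ↥(fix β) := by
  have hβ : ∀ h, ((MulAut.conj g)⁻¹ * α * MulAut.conj g) h = g⁻¹ * α (g * h * g⁻¹) * g := fun h => by
    rw [MulAut.mul_apply, MulAut.mul_apply, ← map_inv, MulAut.conj_apply, MulAut.conj_apply, inv_inv]
  refine ⟨(MulAut.conj g)⁻¹ * α * MulAut.conj g, ?_, hβ, ?_⟩
  · calc (MulAut.conj g)⁻¹ * α * MulAut.conj g * ((MulAut.conj g)⁻¹ * α * MulAut.conj g)
        = (MulAut.conj g)⁻¹ * (α * α) * MulAut.conj g := by group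
      _ = 1 := by rw [hα]; group
  · set β := (MulAut.conj g)⁻¹ * α * MulAut.conj g
    have h4 : fix α = (fix β).map (MulAut.conj g).toMonoidHom := by
      ext y
      constructor
      · intro hy
        refine ⟨g⁻¹ * y * g, ?_, ?_⟩
        · show β _ = _
          rw [hβ]
          have e : g * (g⁻¹ * y * g) * g⁻¹ = y := by group
          rw [e, show α y = y from hy]
        · show g * (g⁻¹ * y * g) * g⁻¹ = y
          group
      · rintro ⟨y, hy, rfl⟩
        have h5 : β y = y := hy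
        rw [hβ] at h5
        show α (g * y * g⁻¹) = g * y * g⁻¹
        calc α (g * y * g⁻¹) = g * (g⁻¹ * α (g * y * g⁻¹) * g) * g⁻¹ := by group
          _ = _ := by rw [h5]
    rw [h4, card_map_of_injective (MulAut.conj g).injective]

/-- `2 ^ 12` divides the orders of the centralizers of the outer involutory automorphisms -/
def Outer12 (X : Type*) [Group X] : Prop :=
  ∀ α : MulAut X, α * α = 1 → (¬ ∃ l : X, ∀ h, α h = l * h * l⁻¹) → 2 ^ 12 ∣ Nat.card ↥(fix α)

theorem outer12 [Finite G] (gam : G ≃* G) (P : Sylow 2 G) {A B : Subgroup G} (hA : A ≤ (P : Subgroup G))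
    (hB : B ≤ (P : Subgroup G)) (hAB : ∀ x ∈ A, x ∈ B → x = 1) (hcA : Nat.card A = 2 ^ 12) (hcB : Nat.card B = 2 ^ 12)
    (hcP : Nat.card (P : Subgroup G) = 2 ^ 24) (hgam : ∀ x ∈ A, gam x ∈ B)
    (ho : ∀ α : MulAut G, (∀ g, α g ∈ (P : Subgroup G) ↔ g ∈ (P : Subgroup G)) →
      (¬ ∃ l : G, ∀ h, α h = l * h * l⁻¹) → ∃ u ∈ (P : Subgroup G), ∀ h, α h = u * gam h * u⁻¹) : Outer12 G := by
  intro α hα hno
  have : Fact (Nat.Prime 2) := ⟨Nat.prime_two⟩
  obtain ⟨g, hg⟩ := exists_conj P hα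
  -- the conjugate of `α` which normalises `P`
  obtain ⟨β, hββ, hβ, hcard⟩ := conj_aut α hα g
  have hβb : ∀ h, β (β h) = h := fun h => by rw [← MulAut.mul_apply, hββ, MulAut.one_apply]
  have hβU : ∀ s ∈ (P : Subgroup G), β s ∈ (P : Subgroup G) := fun s hs => by rw [hβ]; exact hg s hs
  have hβo : ¬ ∃ l : G, ∀ h, β h = l * h * l⁻¹ := by
    rintro ⟨l, hl⟩
    refine hno ⟨g * l * g⁻¹, fun h => ?_⟩
    have h1 := hl (g⁻¹ * h * g)
    rw [hβ] at h1
    have e : g * (g⁻¹ * h * g) * g⁻¹ = h := by group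
    rw [e] at h1
    calc α h = g * (g⁻¹ * α h * g) * g⁻¹ := by group
      _ = _ := by rw [h1]; group
  obtain ⟨u, hu, hu'⟩ := ho β (fun s => ⟨fun h => by
    have := hβU _ h
    rwa [hβb] at this, hβU s⟩) hβo
  have hcU : Nat.card A * Nat.card B = Nat.card (P : Subgroup G) := by
    rw [hcA, hcB, hcP]; norm_num
  have hd : ∀ y ∈ A, β y ∈ A → y = 1 := by
    intro y hy hy'
    obtain ⟨a, ha, b, hb, rfl⟩ := exists_mul hA hB hAB hcU hu
    rw [hu'] at hy'
    have h1 : b * gam y * b⁻¹ ∈ B := mul_mem (mul_mem hb (hgam y hy)) (inv_mem hb)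
    have h2 : b * gam y * b⁻¹ ∈ A := by
      have h3 : b * gam y * b⁻¹ = a⁻¹ * (a * b * gam y * (a * b)⁻¹) * a := by group
      rw [h3]
      exact mul_mem (mul_mem (inv_mem ha) hy') ha
    have h4 := hAB _ h2 h1
    have h5 : gam y = 1 := by
      have : gam y = b⁻¹ * (b * gam y * b⁻¹) * b := by group
      rw [this, h4]; group
    exact (map_eq_one_iff gam gam.injective).1 h5
  have h1 := card_ge hββ hβU hA hd (by rw [← hcU, hcA, hcB])
  rw [hcA] at h1
  -- a 2-group
  have h2 : IsPGroup 2 ↥((P : Subgroup G) ⊓ fix β) := (IsPGroup.of_card hcP).to_le inf_le_left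
  obtain ⟨n, hn⟩ := IsPGroup.iff_card.1 h2
  rw [hn] at h1
  rw [hcard]
  refine (pow_dvd_pow 2 ((Nat.pow_le_pow_iff_right (by norm_num)).1 h1)).trans ?_
  rw [← hn]
  exact card_dvd_of_le inf_le_right

end general

section f4

open Cfsg.Lie
open Cfsg.Agent.FourTwo.Base hiding bar_lt
open Cfsg.Agent.FourTwo.BN Cfsg.Agent.FourTwo.Par Cfsg.Agent.FourTwo.Cent
open Cfsg.Agent.FourTwo.AutF4 (gam gam_x gam_mem_U aut_gam_U)
open Cfsg.Agent.ChevalleyStructure.TwF4.Tables Cfsg.Agent.ChevalleyStructure.F4TwU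

/-- the positive long roots -/
def lng (r : ℕ) : Bool := [24, 25, 26, 30, 31, 32, 41, 42, 43, 45, 46, 47].contains r

/-- the positive short roots -/
def sht (r : ℕ) : Bool := [27, 28, 29, 33, 34, 35, 36, 37, 38, 39, 40, 44].contains r

theorem closed_lng : closedB lng = true := by decide +kernel

theorem closed_sht : closedB sht = true := by decide +kernel

theorem bar_lng : ∀ r < 48, lng r = true → sht (bar r) = true := by decide +kernel

theorem bar_sht : ∀ r < 48, sht r = true → lng (bar r) = true := by decide +kernel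

theorem disj : ∀ r < 48, lng r = true → sht r = true → False := by decide +kernel

theorem card_A : Nat.card (RG lng) = 2 ^ 12 := by
  rw [card_RG closed_lng]
  rfl

theorem card_B : Nat.card (RG sht) = 2 ^ 12 := by
  rw [card_RG closed_sht]
  rfl

theorem inf_eq {g : LL} (h : g ∈ RG lng) (h' : g ∈ RG sht) : g = 1 := by
  obtain ⟨S, hS⟩ := nf_RG closed_lng h
  rw [hS, mem_RG_iff closed_sht] at h'
  have h1 : ((posList 24).filter fun r => lng r && S r) = [] := by
    rw [List.filter_eq_nil_iff]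
    intro r hr hr'
    rw [Bool.and_eq_true] at hr'
    have h2 := mem_posList.1 hr
    exact disj r h2.2 hr'.1 (h' r h2.1 h2.2 (by rw [Bool.and_eq_true]; exact hr'))
  rw [hS, h1]
  rfl

theorem gam_lng {g : LL} (h : g ∈ RG lng) : gam g ∈ RG sht := by
  have h1 : RG lng ≤ (RG sht).comap gam.toMonoidHom := RG_le fun r hr hr' => by
    rw [mem_comap]
    show gam (x r) ∈ RG sht
    rw [gam_x hr]
    exact x_mem_RG (Cfsg.Agent.FourTwo.Base.bar_lt hr) (bar_lng r hr hr')
  exact h1 h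

theorem gam_outer {α : MulAut LL} (hU : ∀ g, α g ∈ U ↔ g ∈ U) (ho : ¬ ∃ l : LL, ∀ h, α h = l * h * l⁻¹) :
    ∃ u ∈ U, ∀ h, α h = u * gam h * u⁻¹ := by
  obtain ⟨u, hu, h1 | h1⟩ := aut_gam_U hU
  · exact absurd ⟨u, h1⟩ ho
  · exact ⟨u, hu, h1⟩

/-- **`2 ^ 12` divides the order of the centralizer of an outer involutory automorphism of `F₄(2)`.** -/
theorem pow_dvd_outer : Outer12 LL := by
  have hA : RG lng ≤ U := RG_le_U closed_lng
  have hB : RG sht ≤ U := RG_le_U closed_sht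
  have hcU : Nat.card (RG lng) * Nat.card (RG sht) = Nat.card U := by
    rw [card_A, card_B, Cfsg.Agent.FourTwo.Perf.card_U]; rfl
  refine outer12 (G := LL) gam Cfsg.Agent.FourTwo.Perf.sylU hA hB (fun g h h' => inf_eq h h') card_A card_B
    Cfsg.Agent.FourTwo.Perf.card_U (fun g h => gam_lng h) fun α hα ho => ?_
  exact gam_outer hα ho

end f4

end Cfsg.Agent.OddHalf.NI3.Ex.FFour

end

-- merged: Cfsg.Agent.OddHalf.NI3.Ex.FFourRow
section

/-!
# The rows `F₄(2)` of (EX) and (EX3) (helper233)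

* `outer_false`: the 2-part of `|C_X(α)|` is at least `2 ^ 12` for every outer involutory automorphism of `X = F₄(2)`;
* `row`: `NoL2 X`; `f42 : XRow XF42`.
-/

set_option autoImplicit false

namespace Cfsg.Agent.OddHalf.NI3.Ex.FFour

open Subgroup Cfsg Cfsg.Agent.OddHalf.Iface Cfsg.Agent.OddHalf.NI Cfsg.Agent.OddHalf.NI.Ex
open Cfsg.Agent.OddHalf.D9.Cut

universe u

theorem Outer12.congr {X Y : Type*} [Group X] [Group Y] (e : X ≃* Y) (h : Outer12 Y) : Outer12 X := by
  intro α hα ho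
  let β : MulAut Y := (e.symm.trans α).trans e
  have hβ : ∀ y, β y = e (α (e.symm y)) := fun y => rfl
  have h1 : β * β = 1 := by
    ext y
    rw [MulAut.mul_apply, hβ, hβ, e.symm_apply_apply, ← MulAut.mul_apply, hα, MulAut.one_apply, MulAut.one_apply,
      e.apply_symm_apply]
  have h2 : ¬ ∃ l : Y, ∀ h, β h = l * h * l⁻¹ := by
    rintro ⟨l, hl⟩
    refine ho ⟨e.symm l, fun x => e.injective ?_⟩
    have h3 := hl (e x)
    rw [hβ, e.symm_apply_apply] at h3
    rw [h3, map_mul, map_mul, map_inv, e.apply_symm_apply]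
  have h3 := h β h1 h2
  have h4 : fix β = (fix α).map e.toMonoidHom := by
    ext y
    constructor
    · intro hy
      have hy' : e (α (e.symm y)) = y := hy
      refine ⟨e.symm y, ?_, e.apply_symm_apply y⟩
      show α (e.symm y) = e.symm y
      apply e.injective
      rw [hy', e.apply_symm_apply]
    · rintro ⟨x, hx, rfl⟩
      show e (α (e.symm (e x))) = e x
      rw [e.symm_apply_apply, show α x = x from hx]
  rw [h4, card_map_of_injective e.injective] at h3
  exact h3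

theorem num {p f : ℕ} (hp : p.Prime) (hf : 0 < f) (hodd : Odd (p ^ f))
    (h : p ^ f * ((p ^ f) ^ 2 - 1) ∣ 2 * 3311126603366400) : ¬ 2 ^ 12 ∣ f * (p ^ f * ((p ^ f) ^ 2 - 1)) := by
  have hpf : p ^ f ∣ 2 * 3311126603366400 := (Dvd.intro _ rfl).trans h
  have hpd : p ∣ 2 * 3311126603366400 := (dvd_pow_self p hf.ne').trans hpf
  have hp2 : p ≠ 2 := by
    rintro rfl
    exact absurd hodd (Nat.not_odd_iff_even.2 (Nat.even_pow.2 ⟨even_two, hf.ne'⟩))
  have e : 2 * 3311126603366400 = 2 ^ 25 * 3 ^ 6 * 5 ^ 2 * 7 ^ 2 * 13 * 17 := by norm_num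
  have hp5 : p = 3 ∨ p = 5 ∨ p = 7 ∨ p = 13 ∨ p = 17 := by
    rw [e, hp.dvd_mul, hp.dvd_mul, hp.dvd_mul, hp.dvd_mul, hp.dvd_mul] at hpd
    rcases hpd with ((((h | h) | h) | h) | h) | h
    · exact absurd ((Nat.prime_dvd_prime_iff_eq hp Nat.prime_two).1 (hp.dvd_of_dvd_pow h)) hp2
    · exact Or.inl ((Nat.prime_dvd_prime_iff_eq hp Nat.prime_three).1 (hp.dvd_of_dvd_pow h))
    · exact Or.inr (Or.inl ((Nat.prime_dvd_prime_iff_eq hp Nat.prime_five).1 (hp.dvd_of_dvd_pow h)))
    · exact Or.inr (Or.inr (Or.inl ((Nat.prime_dvd_prime_iff_eq hp (by norm_num)).1 (hp.dvd_of_dvd_pow h))))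
    · exact Or.inr (Or.inr (Or.inr (Or.inl ((Nat.prime_dvd_prime_iff_eq hp (by norm_num)).1 h))))
    · exact Or.inr (Or.inr (Or.inr (Or.inr ((Nat.prime_dvd_prime_iff_eq hp (by norm_num)).1 h))))
  have key : ∀ m, ¬ p ^ m ∣ 2 * 3311126603366400 → f < m := by
    intro m hm
    by_contra hmf
    exact hm ((pow_dvd_pow p (not_lt.1 hmf)).trans hpf)
  rcases hp5 with rfl | rfl | rfl | rfl | rfl
  · have := key 7 (by norm_num)
    interval_cases f <;> norm_num
  · have := key 3 (by norm_num)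
    interval_cases f <;> norm_num
  · have := key 3 (by norm_num)
    interval_cases f <;> norm_num
  · have := key 2 (by norm_num)
    interval_cases f <;> norm_num
  · have := key 2 (by norm_num)
    interval_cases f <;> norm_num

theorem card_aut_l2 {J : Type*} [Group J] [Finite J] (h : IsL2 J) (hJ : Nat.card J ∣ 3311126603366400) :
    ¬ 2 ^ 12 ∣ Nat.card (MulAut J) := by
  obtain ⟨F, i1, i2, hodd, h3, ⟨e⟩⟩ := h
  obtain ⟨p, f, hp, hf, hq⟩ := (isPrimePow_nat_iff _).1 (Fintype.isPrimePow_card_of_field (α := F))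
  have : Fact p.Prime := ⟨hp⟩
  have hcard : Nat.card (MulAut J) = f * (p ^ f * ((p ^ f) ^ 2 - 1)) := by
    rw [Nat.card_congr (MulAut.congr e).toEquiv, Cfsg.Agent.S0813.result p f hf hq.symm 2 le_rfl
      (fun _ => by rw [hq]; omega), if_pos rfl, one_mul, Cfsg.Agent.ClassicalGeometry.PSL2Basic.card_PGL2, ← hq]
  have hcJ : p ^ f * ((p ^ f) ^ 2 - 1) ∣ 2 * 3311126603366400 := by
    rw [hq, ← Cfsg.Agent.SmallSimple.PSLTwoPart.card_psl_two_odd hodd, ← Nat.card_congr e.toEquiv]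
    exact Nat.mul_dvd_mul_left 2 hJ
  rw [hcard]
  rw [← hq] at hodd
  exact num hp hf hodd hcJ

/-- An isomorphic group has isomorphic automorphism groups, also modulo a trivial centre. -/
theorem card_aut_quo {J : Type*} [Group J] (h : center J = ⊥) : Nat.card (MulAut (J ⧸ center J)) = Nat.card (MulAut J) :=
  Nat.card_congr (MulAut.congr ((QuotientGroup.quotientMulEquivOfEq h).trans QuotientGroup.quotientBot)).toEquiv

variable {X : Type u} [Group X] [Finite X]

theorem card_dvd (h : XF42 X) : Nat.card X ∣ 3311126603366400 := by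
  obtain ⟨F, _, _, hF, ⟨e⟩⟩ := h
  rw [Nat.card_congr e.toEquiv, Cfsg.Agent.S1062.result hF]
  norm_num

theorem outer_of {Y : Type} [Group Y] (hY : Outer12 Y) (h : Nonempty (X ≃* Y)) : Outer12 X := by
  obtain ⟨e⟩ := h
  exact Outer12.congr e hY

theorem outer (h : XF42 X) : Outer12 X :=
  outer_of pow_dvd_outer (Cfsg.Agent.OddHalf.D9.FFour.MultTwo.exists_equiv h)

theorem ct (hs : IsSimpleGroup X) (hna : ¬ IsMulCommutative X) (h : XF42 X) : CT X := by
  obtain ⟨F, i, j, hF, ⟨e⟩⟩ := h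
  have h2 := charP_two (F := F) (f := 1) (by rw [hF]; norm_num)
  exact CT.of_filt hs hna (Or.inr (Or.inr (Or.inr (Or.inr (Or.inr (Or.inr (Or.inl ⟨F, i, j, h2,
    Or.inr (Or.inl ⟨e⟩)⟩)))))))

/-- **Component of the centralizer of an involutory automorphism of `F₄(2)`**: the automorphism is outer, `2 ^ 12`
divides `|Aut (J / Z(J))|`. -/
theorem pow_dvd_aut (hs : IsSimpleGroup X) (hna : ¬ IsMulCommutative X) (h : XF42 X) {α : MulAut X}
    (hα : orderOf α = 2) {J : Subgroup X} (hJ : CompIn (fix α) J) (he : 2 ∣ Nat.card ↥J) :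
    2 ^ 12 ∣ Nat.card (MulAut (↥J ⧸ center ↥J)) := by
  have hC := ct hs hna h
  have hαα : α * α = 1 := by rw [← pow_two, ← hα, pow_orderOf_eq_one]
  refine pow_dvd hC.char hC.center hαα hJ he (outer h α hαα ?_)
  rintro ⟨l, hl⟩
  have e : α = MulAut.conj l := by
    ext x
    rw [hl, MulAut.conj_apply]
  subst e
  exact inner_false hC.char hC.center hα hJ

theorem two_dvd_l2 {J : Type*} [Group J] (h : IsL2 J) : 2 ∣ Nat.card J := by
  obtain ⟨F, i, j, hodd, h3, ⟨e⟩⟩ := h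
  have h1 := Cfsg.Agent.SmallSimple.PSLTwoPart.card_psl_two_odd hodd
  rw [← Nat.card_congr e.toEquiv] at h1
  obtain ⟨k, hk⟩ := hodd
  have h2 : Fintype.card F ^ 2 - 1 = 4 * (k * (k + 1)) := by
    rw [hk]
    have : (2 * k + 1) ^ 2 = 4 * (k * (k + 1)) + 1 := by ring
    omega
  rw [h2] at h1
  refine ⟨Fintype.card F * (k * (k + 1)), ?_⟩
  have h4 : 2 * Nat.card J = 2 * (2 * (Fintype.card F * (k * (k + 1)))) := by rw [h1]; ring
  omega

theorem center_l2 {J : Type*} [Group J] (h : IsL2 J) : center J = ⊥ := by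
  obtain ⟨F, i, j, hF, -, ⟨e⟩⟩ := h
  exact (GH.L2Aut.Rep.ofEquiv (GH.L2Aut.two_ne_zero_of_odd hF) e).center_eq_bot

/-- **Row (1)** of `F₄(2)`. -/
theorem noL2 (hs : IsSimpleGroup X) (hna : ¬ IsMulCommutative X) (h : XF42 X) : NoL2 X := by
  intro α hα J hJ hL
  have h3 := pow_dvd_aut hs hna h hα hJ (two_dvd_l2 hL)
  rw [card_aut_quo (center_l2 hL)] at h3
  exact card_aut_l2 hL ((card_subgroup_dvd_card J).trans (card_dvd h)) h3

/-- The row `F₄(2)` of (EX). -/
theorem f42 : XRow.{u} (fun X _ => XF42 X) := fun _ _ _ hs hna h => (noL2 hs hna h).noCov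

/-- **(EX3), the row `F₄(2)`.** -/
theorem no3 (hs : IsSimpleGroup X) (hna : ¬ IsMulCommutative X) (h : XF42 X) : No3 X := by
  intro α hα J hJ h81 hR
  by_contra hg
  have hdvd : Nat.card (↥J ⧸ center ↥J) ∣ 3311126603366400 :=
    (Subgroup.card_quotient_dvd_card _).trans ((card_subgroup_dvd_card J).trans (card_dvd h))
  have key : 2 ∣ Nat.card (↥J ⧸ center ↥J) → 2 ^ 12 ∣ Nat.card (MulAut (↥J ⧸ center ↥J)) := fun he =>
    pow_dvd_aut hs hna h hα hJ (he.trans (Subgroup.card_quotient_dvd_card _))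
  rcases Three.cases hR h81 hg with ⟨-, h3, h4⟩ | ⟨h3, h4⟩ | ⟨h3, h4⟩ | ⟨h3, -⟩ | h3
  · have h5 := key (by rw [h3]; norm_num)
    rw [h4] at h5
    exact absurd h5 (by norm_num)
  · have h5 := key (by rw [h3]; norm_num)
    rw [h4] at h5
    exact absurd h5 (by norm_num)
  · have h5 := key (by rw [h3]; norm_num)
    rw [h4] at h5
    exact absurd h5 (by norm_num)
  · rw [h3] at hdvd
    exact absurd hdvd (by norm_num)
  · have h4 := h3.trans hdvd
    exact absurd h4 (by norm_num)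

/-- The row `F₄(2)` of (EX3). -/
theorem f42' : XRow3.{u} (fun X _ => XF42 X) := fun _ _ _ hs hna h => no3 hs hna h

end Cfsg.Agent.OddHalf.NI3.Ex.FFour

end
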