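import Cfsg.Agent.StdO8.EvenLin
import Cfsg.Agent.StdO8.Frame
import Cfsg.Agent.UGT.SL.FactsL2
import Cfsg.Agent.OddHalf.NI3.Ex.SpSix
import Cfsg.Agent.OddHalf.NI3.Ex.Three
import Cfsg.Agent.S0243

-- merged: Cfsg.Agent.OddHalf.NI3.Ex.OEightGrp
section

/-!
# Centralizers of the outer involutions of `Ω₈⁺(2)` (helper88)

`C0`: the common centralizer in `Om` of the reflection `sw` and the root element `xb 0 1`.

* `card_C0`: `2 ^ 8 ∣ |C0|`; `E0 ≤ C0` is elementary abelian, `16 ≤ |E0|`;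
* `main`: an involutory automorphism of `Om` is inner or centralises the image of `C0` under an automorphism.
-/

set_option autoImplicit false

namespace Cfsg.Agent.OddHalf.NI3.Ex.OEight

open Cfsg.Agent.StdO8.Model Cfsg.Agent.StdO8.Bas Cfsg.Agent.StdO8.Graph Cfsg.Agent.StdO8.Aut
open Cfsg.Agent.StdO8.EvenLin

instance : Finite (V ≃ₗ[ZMod 2] V) := Finite.of_injective (fun e => (e : V → V)) DFunLike.coe_injective

/-- the nonsingular vector of the reflection -/
abbrev n0 : V := bv 3 + bv 7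

theorem sw_app (w : V) : sw w = w + B n0 w • n0 := by
  rw [sw_eq, refl_eq]

/-- The common centralizer of `sw` and `xb 0 1` in `Om`. -/
def C0 : Subgroup Om where
  carrier := {g | (g : V ≃ₗ[ZMod 2] V) * sw = sw * g ∧ (g : V ≃ₗ[ZMod 2] V) * xb 0 1 = xb 0 1 * g}
  one_mem' := ⟨by rw [Subgroup.coe_one, one_mul, mul_one], by rw [Subgroup.coe_one, one_mul, mul_one]⟩
  mul_mem' := by
    rintro a b ⟨h1, h2⟩ ⟨h3, h4⟩
    refine ⟨?_, ?_⟩
    · rw [Subgroup.coe_mul, mul_assoc, h3, ← mul_assoc, h1, mul_assoc]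
    · rw [Subgroup.coe_mul, mul_assoc, h4, ← mul_assoc, h2, mul_assoc]
  inv_mem' := by
    rintro a ⟨h1, h2⟩
    refine ⟨?_, ?_⟩
    · rw [Subgroup.coe_inv, inv_mul_eq_iff_eq_mul, ← mul_assoc, h1, mul_assoc, mul_inv_cancel, mul_one]
    · rw [Subgroup.coe_inv, inv_mul_eq_iff_eq_mul, ← mul_assoc, h2, mul_assoc, mul_inv_cancel, mul_one]

/-- The group of the transformations `X a w`, `w ∈ P`. -/
def Eg (a : V) (ha : q a = 0) (P : AddSubgroup V) (hP : ∀ w ∈ P, B a w = 0) : Subgroup Om where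
  carrier := {g | ∃ w ∈ P, (g : V ≃ₗ[ZMod 2] V) = X a w}
  one_mem' := ⟨0, P.zero_mem, (X_zero_right a).symm⟩
  mul_mem' := by
    rintro g h ⟨w, hw, e⟩ ⟨w', hw', e'⟩
    exact ⟨w + w', P.add_mem hw hw', by rw [Subgroup.coe_mul, e, e', X_mul ha (hP _ hw) (hP _ hw')]⟩
  inv_mem' := by
    rintro g ⟨w, hw, e⟩
    exact ⟨w, hw, by rw [Subgroup.coe_inv, e, X_inv]⟩

theorem mem_Eg {a : V} {ha : q a = 0} {P : AddSubgroup V} {hP : ∀ w ∈ P, B a w = 0} {g : Om} :
    g ∈ Eg a ha P hP ↔ ∃ w ∈ P, (g : V ≃ₗ[ZMod 2] V) = X a w := Iff.rfl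

theorem Eg_sq {a : V} {ha : q a = 0} {P : AddSubgroup V} {hP : ∀ w ∈ P, B a w = 0} {g : Om}
    (hg : g ∈ Eg a ha P hP) : g * g = 1 := by
  obtain ⟨w, -, e⟩ := hg
  apply Subtype.ext
  rw [Subgroup.coe_mul, e, X_mul_self, Subgroup.coe_one]

/-- `⟨bv 0, n0⟩^⊥` -/
def P0 : AddSubgroup V where
  carrier := {w | B (bv 0) w = 0 ∧ B n0 w = 0}
  zero_mem' := ⟨B_zero_right _, B_zero_right _⟩
  add_mem' := by
    rintro a b ⟨h1, h2⟩ ⟨h3, h4⟩
    exact ⟨by rw [B_add_right, h1, h3, add_zero], by rw [B_add_right, h2, h4, add_zero]⟩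
  neg_mem' := by
    rintro a h
    rw [neg_eq]
    exact h

/-- `⟨bv 0, bv 1, n0⟩^⊥` -/
def P1 : AddSubgroup V where
  carrier := {w | B (bv 1) w = 0 ∧ B (bv 0) w = 0 ∧ B n0 w = 0}
  zero_mem' := ⟨B_zero_right _, B_zero_right _, B_zero_right _⟩
  add_mem' := by
    rintro a b ⟨h1, h2, h5⟩ ⟨h3, h4, h6⟩
    exact ⟨by rw [B_add_right, h1, h3, add_zero], by rw [B_add_right, h2, h4, add_zero],
      by rw [B_add_right, h5, h6, add_zero]⟩
  neg_mem' := by
    rintro a h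
    rw [neg_eq]
    exact h

def E0 : Subgroup Om := Eg (bv 0) (q_bv 0) P0 fun _ h => h.1
def E1 : Subgroup Om := Eg (bv 1) (q_bv 1) P1 fun _ h => h.1

theorem B01 : B (bv 0) (bv 1) = 0 := by rw [B_bv]; decide
theorem B10 : B (bv 1) (bv 0) = 0 := by rw [B_bv]; decide

theorem X_sw {i : Fin 8} (hi : σ i = i) {w : V} (hw : B n0 w = 0) : X (bv i) w * sw = sw * X (bv i) w := by
  have h := X_conj sw_mem (bv i) w
  rw [sw_bv, hi, sw_app, hw, zero_smul, add_zero, mul_inv_eq_iff_eq_mul] at h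
  exact h.symm

theorem E0_le : E0 ≤ C0 := by
  rintro g ⟨w, hw, e⟩
  refine ⟨?_, ?_⟩
  · rw [e]
    exact X_sw (by decide) hw.2
  · rw [e]
    show X (bv 0) w * X (bv 0) (bv 1) = X (bv 0) (bv 1) * X (bv 0) w
    rw [X_mul (q_bv 0) hw.1 B01, X_mul (q_bv 0) B01 hw.1, add_comm]

theorem E1_le : E1 ≤ C0 := by
  rintro g ⟨w, hw, e⟩
  refine ⟨?_, ?_⟩
  · rw [e]
    exact X_sw (by decide) hw.2.2
  · rw [e]
    show X (bv 1) w * X (bv 0) (bv 1) = X (bv 0) (bv 1) * X (bv 1) w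
    rw [X_comm (q_bv 0) (q_bv 1), X_mul (q_bv 1) hw.1 B10, X_mul (q_bv 1) B10 hw.1, add_comm]

theorem isPGroup_of_sq {G : Type*} [Group G] {H : Subgroup G} (h : ∀ g ∈ H, g * g = 1) : IsPGroup 2 ↥H := by
  rintro ⟨g, hg⟩
  exact ⟨1, Subtype.ext (by rw [pow_one, pow_two]; exact h g hg)⟩

theorem norm : E1 ≤ Subgroup.normalizer (E0 : Set Om) := by
  have key : ∀ g ∈ E1, ∀ h ∈ E0, g * h * g⁻¹ ∈ E0 := by
    rintro g ⟨w, hw, e⟩ h ⟨w', hw', e'⟩
    refine ⟨X (bv 1) w w', ⟨?_, ?_⟩, ?_⟩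
    · have h1 : X (bv 1) w (bv 0) = bv 0 := by
        rw [X_apply' (q_bv 1) hw.1, B10, B_comm w, hw.2.1]
        simp
      rw [← h1, O8_B (X_mem_O8 _ _)]
      exact hw'.1
    · have h1 : X (bv 1) w n0 = n0 := by
        have h2 : B (bv 1) n0 = 0 := by rw [B_add_right, B_bv, B_bv]; decide
        rw [X_apply' (q_bv 1) hw.1, h2, B_comm w, hw.2.2]
        simp
      rw [← h1, O8_B (X_mem_O8 _ _)]
      exact hw'.2
    · have h1 : X (bv 1) w (bv 0) = bv 0 := by
        rw [X_apply' (q_bv 1) hw.1, B10, B_comm w, hw.2.1]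
        simp
      rw [Subgroup.coe_mul, Subgroup.coe_mul, Subgroup.coe_inv, e, e', X_conj (X_mem_O8 _ _), h1]
  intro g hg
  rw [Subgroup.mem_normalizer_iff]
  intro h
  refine ⟨key g hg h, fun h1 => ?_⟩
  have h2 := key g⁻¹ (inv_mem hg) _ h1
  rwa [inv_inv, show g⁻¹ * (g * h * g⁻¹) * g = h by group] at h2

/-- the parameters -/
def w0 (c : Fin 5 → ZMod 2) : V := c 0 • bv 1 + c 1 • bv 2 + c 2 • bv 5 + c 3 • bv 6 + c 4 • n0
def w1 (c : Fin 3 → ZMod 2) : V := c 0 • bv 2 + c 1 • bv 6 + c 2 • n0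

theorem w0_mem (c : Fin 5 → ZMod 2) : w0 c ∈ P0 := by
  have h : ∀ j : Fin 8, B (bv j) n0 = if j = 3 ∨ j = 7 then 1 else 0 := by
    intro j
    rw [B_add_right, B_bv, B_bv]
    revert j
    decide
  refine ⟨?_, ?_⟩
  · unfold w0
    simp only [B_add_right, B_smul_right, B_bv, h]
    revert c
    decide +kernel
  · unfold w0
    simp only [n0, B_add_left, B_add_right, B_smul_right, B_bv]
    revert c
    decide +kernel

theorem w1_mem (c : Fin 3 → ZMod 2) : w1 c ∈ P1 := by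
  refine ⟨?_, ?_, ?_⟩ <;>
  · unfold w1
    simp only [n0, B_add_left, B_add_right, B_smul_right, B_bv]
    revert c
    decide +kernel

theorem coX {i k : Fin 8} {w : V} (hw : B (bv i) w = 0) (h1 : k ≠ i) (h2 : i ≠ k + 4) :
    B (bv k) (X (bv i) w (bv (i + 4))) = B (bv k) w := by
  have e1 : B (bv i) (bv (i + 4)) = 1 := by rw [B_bv, if_pos rfl]
  have e2 : B (bv k) (bv (i + 4)) = 0 := by
    rw [B_bv, if_neg]
    intro h
    exact h1 (add_right_cancel h).symm
  have e3 : B (bv k) (bv i) = 0 := by rw [B_bv, if_neg h2]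
  rw [X_apply' (q_bv i) hw, e1, one_smul, B_add_right, B_add_right, B_add_right, B_smul_right, B_smul_right, e2, e3,
    mul_zero, mul_zero, zero_add, add_zero, add_zero]

theorem fix4 (d : Fin 3 → ZMod 2) : X (bv 1) (w1 d) (bv 4) = bv 4 := by
  have e1 : B (bv 1) (bv 4) = 0 := by rw [B_bv]; decide
  have e2 : B (w1 d) (bv 4) = 0 := by
    unfold w1
    simp only [n0, B_add_left, B_smul_left, B_bv]
    revert d
    decide +kernel
  rw [X_apply' (q_bv 1) (w1_mem d).1, e1, e2]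
  simp

theorem co0 (c : Fin 5 → ZMod 2) : B (bv 5) (w0 c) = c 0 ∧ B (bv 6) (w0 c) = c 1 ∧ B (bv 1) (w0 c) = c 2 ∧
    B (bv 2) (w0 c) = c 3 ∧ B (bv 7) (w0 c) = c 4 := by
  unfold w0
  simp only [n0, B_add_right, B_smul_right, B_bv]
  revert c
  decide +kernel

theorem co1 (c : Fin 3 → ZMod 2) : B (bv 6) (w1 c) = c 0 ∧ B (bv 2) (w1 c) = c 1 ∧ B (bv 7) (w1 c) = c 2 := by
  unfold w1
  simp only [n0, B_add_right, B_smul_right, B_bv]
  revert c
  decide +kernel

theorem inj0 {c c' : Fin 5 → ZMod 2} (h : X (bv 0) (w0 c) (bv 4) = X (bv 0) (w0 c') (bv 4)) : c = c' := by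
  have key : ∀ k : Fin 8, k ≠ 0 → (0 : Fin 8) ≠ k + 4 → B (bv k) (w0 c) = B (bv k) (w0 c') := by
    intro k h1 h2
    have h3 := congrArg (B (bv k)) h
    have h4 := coX (w0_mem c).1 h1 h2
    have h5 := coX (w0_mem c').1 h1 h2
    have e : (0 : Fin 8) + 4 = 4 := by decide
    rw [e] at h4 h5
    rw [← h4, ← h5, h3]
  obtain ⟨a0, a1, a2, a3, a4⟩ := co0 c
  obtain ⟨b0, b1, b2, b3, b4⟩ := co0 c'
  have k0 := key 5 (by decide) (by decide)
  have k1 := key 6 (by decide) (by decide)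
  have k2 := key 1 (by decide) (by decide)
  have k3 := key 2 (by decide) (by decide)
  have k4 := key 7 (by decide) (by decide)
  rw [a0, b0] at k0
  rw [a1, b1] at k1
  rw [a2, b2] at k2
  rw [a3, b3] at k3
  rw [a4, b4] at k4
  funext i
  fin_cases i
  · exact k0
  · exact k1
  · exact k2
  · exact k3
  · exact k4

theorem inj1 {c c' : Fin 3 → ZMod 2} (h : X (bv 1) (w1 c) = X (bv 1) (w1 c')) : c = c' := by
  have key : ∀ k : Fin 8, k ≠ 1 → (1 : Fin 8) ≠ k + 4 → B (bv k) (w1 c) = B (bv k) (w1 c') := by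
    intro k h1 h2
    have h4 := coX (w1_mem c).1 h1 h2
    have h5 := coX (w1_mem c').1 h1 h2
    rw [← h4, ← h5, h]
  obtain ⟨a0, a1, a2⟩ := co1 c
  obtain ⟨b0, b1, b2⟩ := co1 c'
  have k0 := key 6 (by decide) (by decide)
  have k1 := key 2 (by decide) (by decide)
  have k2 := key 7 (by decide) (by decide)
  rw [a0, b0] at k0
  rw [a1, b1] at k1
  rw [a2, b2] at k2
  funext i
  fin_cases i
  · exact k0
  · exact k1
  · exact k2

/-- the elements -/
noncomputable def g0 (c : Fin 5 → ZMod 2) : Om := ⟨X (bv 0) (w0 c), X_mem _ _⟩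
noncomputable def g1 (c : Fin 3 → ZMod 2) : Om := ⟨X (bv 1) (w1 c), X_mem _ _⟩

theorem g0_mem (c : Fin 5 → ZMod 2) : g0 c ∈ E0 := ⟨w0 c, w0_mem c, rfl⟩
theorem g1_mem (c : Fin 3 → ZMod 2) : g1 c ∈ E1 := ⟨w1 c, w1_mem c, rfl⟩

theorem card_E0 : 32 ≤ Nat.card E0 := by
  have h := Nat.card_le_card_of_injective (fun c : Fin 5 → ZMod 2 => (⟨g0 c, g0_mem c⟩ : E0)) (fun c c' h => by
    have h1 : X (bv 0) (w0 c) = X (bv 0) (w0 c') := congrArg (fun x : E0 => ((x : Om) : V ≃ₗ[ZMod 2] V)) h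
    exact inj0 (by rw [h1]))
  have h2 : Nat.card (Fin 5 → ZMod 2) = 32 := by
    rw [Nat.card_eq_fintype_card, Fintype.card_fun, ZMod.card, Fintype.card_fin]
    norm_num
  rwa [h2] at h

theorem card_sup : 256 ≤ Nat.card (E0 ⊔ E1 : Subgroup Om) := by
  have h := Nat.card_le_card_of_injective (fun c : (Fin 5 → ZMod 2) × (Fin 3 → ZMod 2) =>
      (⟨g0 c.1 * g1 c.2, mul_mem ((le_sup_left : E0 ≤ E0 ⊔ E1) (g0_mem _)) ((le_sup_right : E1 ≤ E0 ⊔ E1) (g1_mem _))⟩ :
        (E0 ⊔ E1 : Subgroup Om))) (fun c c' h => by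
    have h1 : X (bv 0) (w0 c.1) * X (bv 1) (w1 c.2) = X (bv 0) (w0 c'.1) * X (bv 1) (w1 c'.2) :=
      congrArg (fun x : (E0 ⊔ E1 : Subgroup Om) => ((x : Om) : V ≃ₗ[ZMod 2] V)) h
    have h2 := DFunLike.congr_fun h1 (bv 4)
    rw [LinearEquiv.mul_apply, LinearEquiv.mul_apply, fix4, fix4] at h2
    have h3 := inj0 h2
    rw [h3] at h1
    exact Prod.ext h3 (inj1 (mul_left_cancel h1)))
  have h2 : Nat.card ((Fin 5 → ZMod 2) × (Fin 3 → ZMod 2)) = 256 := by
    rw [Nat.card_prod, Nat.card_eq_fintype_card, Nat.card_eq_fintype_card, Fintype.card_fun, Fintype.card_fun,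
      ZMod.card, Fintype.card_fin, Fintype.card_fin]
    norm_num
  rwa [h2] at h

theorem sup_isPGroup : IsPGroup 2 ↥(E0 ⊔ E1 : Subgroup Om) := by
  have h0 : IsPGroup 2 ↥E0 := isPGroup_of_sq fun g hg => Eg_sq hg
  have h1 : IsPGroup 2 ↥E1 := isPGroup_of_sq fun g hg => Eg_sq hg
  exact IsPGroup.to_sup_of_normal_left' h0 h1 norm

theorem card_C0 : 2 ^ 8 ∣ Nat.card C0 := by
  have : Fact (Nat.Prime 2) := ⟨Nat.prime_two⟩
  refine dvd_trans ?_ (Subgroup.card_dvd_of_le (sup_le E0_le E1_le))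
  obtain ⟨k, hk⟩ := IsPGroup.iff_card.1 sup_isPGroup
  have h1 := card_sup
  rw [hk] at h1 ⊢
  refine pow_dvd_pow 2 ?_
  by_contra h
  push Not at h
  have h2 : 2 ^ k ≤ 2 ^ 7 := Nat.pow_le_pow_right (by norm_num) (by omega)
  omega

/-- **Involutory automorphisms of `Ω₈⁺(2)`.** -/
theorem main {α : MulAut Om} (hα : α * α = 1) :
    (∃ x, α = MulAut.conj x) ∨ ∃ β : MulAut Om, ∀ y ∈ C0, α (β y) = β y := by
  have : Fact (Nat.Prime 2) := ⟨Nat.prime_two⟩
  have hfin : Finite (MulAut Om) := inferInstance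
  obtain ⟨β, hβ⟩ : ∃ β : MulAut Om, β⁻¹ * α * β ∈ cj.range := by
    have hP : IsPGroup 2 (Subgroup.zpowers α) := by
      rintro ⟨a, ha⟩
      obtain ⟨i, rfl⟩ := Subgroup.mem_zpowers_iff.1 ha
      refine ⟨1, Subtype.ext ?_⟩
      show (α ^ i) ^ (2 ^ 1) = 1
      rw [pow_one, pow_two, ← (Commute.refl α).mul_zpow, hα, one_zpow]
    have h1 := hP.card_modEq_card_fixedPoints (MulAut Om ⧸ cj.range)
    have h2 : Nat.card (MulAut Om ⧸ cj.range) = 3 := index_range
    rw [h2] at h1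
    have h3 : Nat.card (MulAction.fixedPoints (Subgroup.zpowers α) (MulAut Om ⧸ cj.range)) ≠ 0 := by
      intro h
      rw [h] at h1
      exact absurd h1 (by decide)
    obtain ⟨⟨x, hx⟩⟩ := (Nat.card_ne_zero.1 h3).1
    obtain ⟨β, rfl⟩ := QuotientGroup.mk_surjective x
    refine ⟨β, ?_⟩
    have h4 := hx ⟨α, Subgroup.mem_zpowers α⟩
    have h5 : ((α * β : MulAut Om) : MulAut Om ⧸ cj.range) = (β : MulAut Om ⧸ cj.range) := h4
    have h6 := QuotientGroup.eq.1 h5.symm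
    rwa [← mul_assoc] at h6
  obtain ⟨M, hM⟩ := hβ
  have hM2 : M * M = 1 := by
    apply StdO8.Frame.Ctx.cj_injective
    rw [map_mul, map_one, hM]
    calc β⁻¹ * α * β * (β⁻¹ * α * β) = β⁻¹ * (α * α) * β := by group
      _ = 1 := by rw [hα]; group
  have hαM : α = β * cj M * β⁻¹ := by rw [hM]; group
  by_cases hMO : (M : V ≃ₗ[ZMod 2] V) ∈ Om
  · left
    refine ⟨β ⟨M, hMO⟩, ?_⟩
    have h1 : cj M = MulAut.conj (⟨M, hMO⟩ : Om) := by
      ext y : 1
      exact Subtype.ext rfl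
    rw [hαM, h1]
    ext y : 1
    rw [MulAut.mul_apply, MulAut.mul_apply, MulAut.conj_apply, MulAut.conj_apply, map_mul, map_mul, map_inv,
      MulAut.apply_inv_self]
  · right
    obtain ⟨g, hg, h⟩ := lin M.2 hMO (by
      have := congrArg Subtype.val hM2
      exact this)
    refine ⟨β * MulAut.conj (⟨g, hg⟩ : Om)⁻¹, ?_⟩
    intro y hy
    have hT : (y : V ≃ₗ[ZMod 2] V) * (g * M * g⁻¹) = (g * M * g⁻¹) * y := by
      rcases h with h | h
      · rw [h]; exact hy.1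
      · rw [h, ← mul_assoc, hy.1, mul_assoc, hy.2, mul_assoc]
    have h2 : cj M (MulAut.conj (⟨g, hg⟩ : Om)⁻¹ y) = MulAut.conj (⟨g, hg⟩ : Om)⁻¹ y := by
      apply Subtype.ext
      rw [cj_coe, MulAut.conj_apply, inv_inv, Subgroup.coe_mul, Subgroup.coe_mul, Subgroup.coe_inv]
      show (M : V ≃ₗ[ZMod 2] V) * (g⁻¹ * y * g) * (M : V ≃ₗ[ZMod 2] V)⁻¹ = g⁻¹ * y * g
      rw [mul_inv_eq_iff_eq_mul]
      calc (M : V ≃ₗ[ZMod 2] V) * (g⁻¹ * y * g) = g⁻¹ * ((g * M * g⁻¹) * y) * g := by group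
        _ = g⁻¹ * (y * (g * M * g⁻¹)) * g := by rw [hT]
        _ = _ := by group
    rw [hαM, MulAut.mul_apply, MulAut.mul_apply, MulAut.mul_apply, MulAut.inv_apply_self, h2]

end Cfsg.Agent.OddHalf.NI3.Ex.OEight

end

-- merged: Cfsg.Agent.OddHalf.NI.Ex.RankAut
section

/-!
# Elementary abelian 2-groups of automorphisms of `L₂(q)`, `q` odd (helper604)

* `card_le_four` : an elementary abelian 2-subgroup of `L ≅ PSL(2,F)`, `2 ≠ 0` in `F`, has order at most 4;
* `card_le_eight` : an elementary abelian 2-subgroup of `Aut(L)`, `F` finite, has order at most 8.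
-/

set_option autoImplicit false

namespace Cfsg.Agent.OddHalf.NI.Ex.RankAut

open Cfsg.Agent.GH.L2Aut

section Four

variable {F : Type*} [Field F] {L : Type*} [Group L] (R : Cfsg.Agent.GH.L2Aut.Rep F L)

local notation "SL2" => Matrix.SpecialLinearGroup (Fin 2) F

include R

theorem exists_lift {a : L} (ha : a * a = 1) (ha1 : a ≠ 1) : ∃ x : SL2, R.π x = a ∧ x * x = -1 := by
  obtain ⟨x, rfl⟩ := R.surj a
  refine ⟨x, rfl, ?_⟩
  rw [← map_mul, R.ker] at ha
  rcases ha with h | h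
  · exfalso
    apply ha1
    exact (R.ker x).2 (Cfsg.Agent.Lib.PSL2Inv.sq_eq_one R.two h)
  · exact h

theorem eq_of_comm {x y : SL2} (hx : x * x = -1) (hy : y * y = -1) (h : x * y = y * x) : R.π x * R.π y = 1 := by
  have h1 : (x * y) * (x * y) = 1 := by
    calc (x * y) * (x * y) = x * (y * x) * y := by group
      _ = x * (x * y) * y := by rw [h]
      _ = (x * x) * (y * y) := by group
      _ = 1 := by rw [hx, hy, neg_mul_neg, one_mul]
  rw [← map_mul]
  exact (R.ker _).2 (Cfsg.Agent.Lib.PSL2Inv.sq_eq_one R.two h1)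

theorem anti {x y : SL2} (hx : x * x = -1) (hy : y * y = -1) (h : R.π x * R.π y = R.π y * R.π x)
    (hne : R.π x * R.π y ≠ 1) : x * y = -(y * x) := by
  rw [← map_mul, ← map_mul, R.π_eq_iff] at h
  rcases h with h | h
  · exact absurd (eq_of_comm R hx hy h) hne
  · exact h

/-- Three pairwise commuting, pairwise different involutions of `PSL(2,F)` have product 1. -/
theorem mul_eq_one {a b c : L} (ha : a * a = 1) (hb : b * b = 1) (hc : c * c = 1) (ha1 : a ≠ 1) (hb1 : b ≠ 1)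
    (hc1 : c ≠ 1) (hab : a * b = b * a) (hac : a * c = c * a) (hbc : b * c = c * b) (h1 : a * b ≠ 1)
    (h2 : a * c ≠ 1) (h3 : b * c ≠ 1) : a * (b * c) = 1 := by
  obtain ⟨x, rfl, hx⟩ := exists_lift R ha ha1
  obtain ⟨y, rfl, hy⟩ := exists_lift R hb hb1
  obtain ⟨z, rfl, hz⟩ := exists_lift R hc hc1
  have e1 := anti R hx hy hab h1
  have e2 := anti R hx hz hac h2
  have e3 := anti R hy hz hbc h3
  have hw : (y * z) * (y * z) = -1 := by
    calc (y * z) * (y * z) = y * (z * y) * z := by group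
      _ = y * (-(y * z)) * z := by rw [e3, neg_neg]
      _ = -((y * y) * (z * z)) := by
          rw [mul_neg, neg_mul]; congr 1; group
      _ = -1 := by rw [hy, hz, neg_mul_neg, one_mul]
  have hc' : x * (y * z) = (y * z) * x := by
    calc x * (y * z) = (x * y) * z := by group
      _ = -(y * x) * z := by rw [e1]
      _ = -(y * (x * z)) := by rw [neg_mul]; congr 1; group
      _ = y * z * x := by rw [e2, mul_neg, neg_neg]; group
  have := eq_of_comm R hx hw hc'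
  rw [map_mul] at this
  exact this

/-- An elementary abelian 2-subgroup of `PSL(2,F)` has order at most 4. -/
theorem card_le_four [Finite L] (E : Subgroup L) (hE : ∀ a ∈ E, a * a = 1) : Nat.card E ≤ 4 := by
  classical
  haveI := Fintype.ofFinite L
  by_contra hcon
  push Not at hcon
  rw [Nat.card_eq_fintype_card] at hcon
  have hcomm : ∀ a ∈ E, ∀ b ∈ E, a * b = b * a := by
    intro a ha b hb
    have h1 := hE _ (mul_mem ha hb)
    have h2 : a⁻¹ = a := inv_eq_of_mul_eq_one_right (hE a ha)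
    have h3 : b⁻¹ = b := inv_eq_of_mul_eq_one_right (hE b hb)
    calc a * b = (a * b)⁻¹ := (inv_eq_of_mul_eq_one_right h1).symm
      _ = b * a := by rw [mul_inv_rev, h2, h3]
  have key : ∀ S : Finset E, S.card ≤ 4 → ∃ c : E, c ∉ S := by
    intro S hS
    by_contra h
    push Not at h
    have : S = Finset.univ := Finset.eq_univ_iff_forall.2 h
    rw [this, Finset.card_univ] at hS
    omega
  obtain ⟨a, ha⟩ := key {1} (by simp)
  obtain ⟨b, hb⟩ := key {1, a} (le_trans Finset.card_le_two (by norm_num))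
  obtain ⟨c, hc⟩ := key {1, a, b, a * b} Finset.card_le_four
  simp only [Finset.mem_singleton, Finset.mem_insert, not_or] at ha hb hc
  obtain ⟨hb1, hb2⟩ := hb
  obtain ⟨hc1, hc2, hc3, hc4⟩ := hc
  have inv : ∀ g : E, g⁻¹ = g := fun g => inv_eq_of_mul_eq_one_right (Subtype.ext (hE _ g.2))
  have ne : ∀ g h : E, g ≠ h → (g : L) * h ≠ 1 := by
    intro g h hgh h1
    apply hgh
    have h2 : g * h = 1 := Subtype.ext h1
    rw [← inv h]
    exact eq_inv_of_mul_eq_one_left h2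
  have ne1 : ∀ g : E, g ≠ 1 → (g : L) ≠ 1 := fun g hg h => hg (Subtype.ext h)
  have h := mul_eq_one R (hE _ a.2) (hE _ b.2) (hE _ c.2) (ne1 _ ha) (ne1 _ hb1) (ne1 _ hc1)
    (hcomm _ a.2 _ b.2) (hcomm _ a.2 _ c.2) (hcomm _ b.2 _ c.2) (ne _ _ (Ne.symm hb2)) (ne _ _ (Ne.symm hc2))
    (ne _ _ (Ne.symm hc3))
  apply hc4
  have h2 : (a * b) * c = 1 := by
    apply Subtype.ext
    change (a : L) * b * c = 1
    rw [mul_assoc]
    exact h
  rw [← inv (a * b)]
  exact (inv_eq_of_mul_eq_one_right h2).symm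

/-- An elementary abelian 2-subgroup of `Aut(PSL(2,F))` has order at most 8. -/
theorem card_le_eight [Finite F] [Finite L] (E : Subgroup (MulAut L)) (hE : ∀ a ∈ E, a * a = 1) : Nat.card E ≤ 8 := by
  classical
  haveI : Finite (MulAut L) := inferInstance
  have hcomm : ∀ a ∈ E, ∀ b ∈ E, a * b = b * a := by
    intro a ha b hb
    have h1 := hE _ (mul_mem ha hb)
    have h2 : a⁻¹ = a := inv_eq_of_mul_eq_one_right (hE a ha)
    have h3 : b⁻¹ = b := inv_eq_of_mul_eq_one_right (hE b hb)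
    calc a * b = (a * b)⁻¹ := (inv_eq_of_mul_eq_one_right h1).symm
      _ = b * a := by rw [mul_inv_rev, h2, h3]
  set E0 : Subgroup (MulAut L) := E ⊓ Inn L with hE0
  -- the inner part
  have h4 : Nat.card E0 ≤ 4 := by
    have h1 : E0 = (E0.comap (MulAut.conj : L →* MulAut L)).map (MulAut.conj : L →* MulAut L) := by
      rw [Subgroup.map_comap_eq]
      exact (inf_eq_right.2 inf_le_right).symm
    rw [h1]
    have h2 : Nat.card ((E0.comap (MulAut.conj : L →* MulAut L)).map (MulAut.conj : L →* MulAut L)) =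
        Nat.card (E0.comap (MulAut.conj : L →* MulAut L)) :=
      (Nat.card_congr ((E0.comap (MulAut.conj : L →* MulAut L)).equivMapOfInjective _ R.conj_injective).toEquiv).symm
    rw [h2]
    refine card_le_four R _ ?_
    intro a ha
    apply R.conj_injective
    rw [map_mul, map_one]
    exact hE _ (Subgroup.mem_inf.1 (Subgroup.mem_comap.1 ha)).1
  -- the index
  by_cases hall : ∀ a ∈ E, a ∈ Inn L
  · have : E0 = E := le_antisymm inf_le_left fun a ha => ⟨ha, hall a ha⟩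
    rw [← this]
    omega
  · push Not at hall
    obtain ⟨a, ha, ha'⟩ := hall
    let f : E → E0 × Bool := fun b =>
      if h : (b : MulAut L) ∈ Inn L then (⟨b, b.2, h⟩, true)
      else (⟨a * b, mul_mem ha b.2,
        UGT.SL.outer_mul_mem R (hE a ha) (hE b b.2) (hcomm a ha b b.2) ha' h⟩, false)
    have hf : Function.Injective f := by
      intro b c hbc
      by_cases hb : (b : MulAut L) ∈ Inn L <;> by_cases hc : (c : MulAut L) ∈ Inn L <;>
        simp only [f, hb, hc, dif_pos, dif_neg, not_false_eq_true, Prod.mk.injEq, and_true,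
          reduceCtorEq, and_false] at hbc
      · exact Subtype.ext (congrArg (fun x : E0 => (x : MulAut L)) hbc)
      · exact Subtype.ext (mul_left_cancel (congrArg (fun x : E0 => (x : MulAut L)) hbc))
    have h5 := Nat.card_le_card_of_injective f hf
    rw [Nat.card_prod] at h5
    have h6 : Nat.card Bool = 2 := by simp
    rw [h6] at h5
    omega

end Four

end Cfsg.Agent.OddHalf.NI.Ex.RankAut

end

-- merged: Cfsg.Agent.OddHalf.NI3.Ex.OEight
section

/-!
# (EX), (EX3): the row `Ω₈⁺(2)` (helper88)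

* `rank_false`: `X` of characteristic 2 type, `α² = 1`, `E ≤ C_X(α)` elementary abelian, `|E| > 8`: no component `L₂(q)`,
  `q` odd, of `C_X(α)`;
* `noL2_o82`, `no3_o82`: the rows.
-/

set_option autoImplicit false

namespace Cfsg.Agent.OddHalf.NI3.Ex

open Subgroup Cfsg Cfsg.Agent.OddHalf.Iface Cfsg.Agent.OddHalf.NI Cfsg.Agent.OddHalf.NI.Ex
open Cfsg.Agent.OddHalf.D9.Cut

universe u v

/-- `|L₂(q)|` is even for `q` odd -/
theorem two_dvd_of_isL2 {J : Type*} [Group J] (h : IsL2 J) : 2 ∣ Nat.card J := by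
  obtain ⟨F, i, j, hodd, -, ⟨e⟩⟩ := h
  have h1 := S0243.result (F := F) rfl 2 le_rfl
  rw [Nat.card_congr e.toEquiv]
  obtain ⟨k, hk⟩ := hodd
  rw [Fin.prod_univ_two] at h1
  simp only [Fin.val_zero, Fin.val_one, pow_zero, pow_one] at h1
  rw [hk] at h1
  have h2 : Nat.gcd 2 (2 * k + 1 - 1) = 2 := by
    rw [Nat.add_sub_cancel]
    exact Nat.gcd_eq_left ⟨k, rfl⟩
  rw [h2, Nat.add_sub_cancel] at h1
  have hk0 : 0 < k := by
    rcases Nat.eq_zero_or_pos k with h0 | h0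
    · exfalso
      rw [h0] at hk
      have := Fintype.one_lt_card (α := F)
      omega
    · exact h0
  have h3 : (2 * k + 1) ^ 2 - 1 = 4 * k * (k + 1) := by
    have : (2 * k + 1) ^ 2 = 4 * k * (k + 1) + 1 := by ring
    omega
  have h4 : (2 * k + 1) ^ 2 - (2 * k + 1) = 2 * k * (2 * k + 1) := by
    have : (2 * k + 1) ^ 2 = 2 * k * (2 * k + 1) + (2 * k + 1) := by ring
    omega
  rw [h3, h4] at h1
  have h5 : Nat.card (Matrix.ProjectiveSpecialLinearGroup (Fin 2) F) = 2 * (k * (k + 1) * (2 * k + 1)) := by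
    have h6 : (4 * k) * Nat.card (Matrix.ProjectiveSpecialLinearGroup (Fin 2) F) =
        (4 * k) * (2 * (k * (k + 1) * (2 * k + 1))) := by
      calc (4 * k) * Nat.card (Matrix.ProjectiveSpecialLinearGroup (Fin 2) F)
          = 2 * (2 * k * Nat.card (Matrix.ProjectiveSpecialLinearGroup (Fin 2) F)) := by ring
        _ = _ := by rw [h1]; ring
    exact Nat.eq_of_mul_eq_mul_left (by omega) h6
  exact ⟨_, h5⟩

/-- **The rank criterion.** -/
theorem rank_false {X : Type u} [Group X] [Finite X] (hC : IsCharacteristicTwoType X) (hZ : center X = ⊥)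
    {α : MulAut X} (hα : α * α = 1) {J : Subgroup X} (hJ : CompIn (fix α) J) (h2 : IsL2 ↥J) {E : Subgroup X}
    (hE : E ≤ fix α) (he : ∀ a ∈ E, a * a = 1) (hc : 8 < Nat.card ↥E) : False := by
  have hn := normal hC hZ hα hJ (two_dvd_of_isL2 h2)
  obtain ⟨-, hodd⟩ := act_ker hC hZ hα hJ hn
  obtain ⟨F, i, j, hF, -, ⟨e⟩⟩ := h2
  have e1 : ↥(J.subgroupOf (fix α)) ≃* ↥J := subgroupOfEquivOfLe hJ.le
  let R0 := GH.L2Aut.Rep.ofEquiv (GH.L2Aut.two_ne_zero_of_odd hF) (e1.trans e)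
  have hZ0 : center ↥(J.subgroupOf (fix α)) = ⊥ := R0.center_eq_bot
  let e2 : ↥(J.subgroupOf (fix α)) ⧸ center ↥(J.subgroupOf (fix α)) ≃*
      Matrix.ProjectiveSpecialLinearGroup (Fin 2) F :=
    ((QuotientGroup.quotientMulEquivOfEq hZ0).trans QuotientGroup.quotientBot).trans (e1.trans e)
  let R := GH.L2Aut.Rep.ofEquiv (GH.L2Aut.two_ne_zero_of_odd hF) e2
  have hfin : Finite (↥(J.subgroupOf (fix α)) ⧸ center ↥(J.subgroupOf (fix α))) := inferInstance
  have h3 := RankAut.card_le_eight R ((E.subgroupOf (fix α)).map (act hn)) (by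
    rintro _ ⟨a, ha, rfl⟩
    rw [← map_mul]
    have : a * a = 1 := Subtype.ext (he _ ha)
    rw [this, map_one])
  have h4 : Nat.card ↥((E.subgroupOf (fix α)).map (act hn)) = Nat.card ↥E := by
    rw [← Nat.card_congr (subgroupOfEquivOfLe hE).toEquiv]
    let f := (act hn).subgroupMap (E.subgroupOf (fix α))
    have hf : Function.Bijective f := by
      refine ⟨?_, (act hn).subgroupMap_surjective _⟩
      rw [injective_iff_map_eq_one]
      rintro ⟨a, ha⟩ h
      have h5 : a ∈ (act hn).ker := congrArg Subtype.val h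
      apply Subtype.ext
      have h6 : (⟨a, h5⟩ : ↥(act hn).ker) ^ 2 = 1 := by
        apply Subtype.ext
        apply Subtype.ext
        rw [pow_two]
        exact he _ ha
      have h7 : orderOf (⟨a, h5⟩ : ↥(act hn).ker) ∣ 2 := orderOf_dvd_of_pow_eq_one h6
      have h8 : orderOf (⟨a, h5⟩ : ↥(act hn).ker) ∣ Nat.card ↥(act hn).ker := orderOf_dvd_natCard _
      have h9 : orderOf (⟨a, h5⟩ : ↥(act hn).ker) = 1 :=
        Nat.eq_one_of_dvd_coprimes (Nat.coprime_two_left.2 hodd) h7 h8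
      have h10 : (⟨a, h5⟩ : ↥(act hn).ker) = 1 := orderOf_eq_one_iff.1 h9
      exact congrArg (fun y : ↥(act hn).ker => (y : ↥(fix α))) h10
    exact (Nat.card_congr (Equiv.ofBijective f hf)).symm
  omega

/-- Involutory automorphisms. -/
theorem exists_C0 {X : Type u} [Group X] [Finite X] (h : XO82 X) {α : MulAut X} (hα : α * α = 1) :
    (∃ x, α = MulAut.conj x) ∨ ∃ φ : ↥StdO8.Model.Om ≃* X, ∀ y ∈ OEight.C0, α (φ y) = φ y := by
  obtain ⟨F, i, j, hF, ⟨e⟩⟩ := h
  obtain ⟨e'⟩ := StdO8.Model.exists_equiv hF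
  let ψ : ↥StdO8.Model.Om ≃* X := (e.trans e').symm
  let α' : MulAut ↥StdO8.Model.Om := (MulAut.congr ψ).symm α
  have hα' : α' * α' = 1 := by rw [← map_mul, hα, map_one]
  have h1 : ∀ y, α (ψ y) = ψ (α' y) := fun y => by
    show α (ψ y) = ψ (ψ.symm (α (ψ y)))
    rw [MulEquiv.apply_symm_apply]
  rcases OEight.main hα' with ⟨m, hm⟩ | ⟨β, hβ⟩
  · left
    refine ⟨ψ m, ?_⟩
    ext x
    obtain ⟨y, rfl⟩ := ψ.surjective x
    rw [h1, hm, MulAut.conj_apply, MulAut.conj_apply, map_mul, map_mul, map_inv]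
  · right
    refine ⟨β.trans ψ, fun y hy => ?_⟩
    show α (ψ (β y)) = ψ (β y)
    rw [h1, hβ y hy]

theorem ct_o82 {X : Type u} [Group X] [Finite X] (hs : IsSimpleGroup X) (hna : ¬ IsMulCommutative X)
    (h : XO82 X) : CT X := by
  obtain ⟨F, i, j, hF, ⟨e⟩⟩ := h
  have h2 := charP_two (F := F) (f := 1) (by rw [hF]; norm_num)
  exact CT.of_filt hs hna (Or.inr (Or.inr (Or.inr (Or.inr (Or.inl ⟨F, i, j, h2, 4, le_rfl, ⟨e⟩⟩)))))

theorem card_o82 {X : Type u} [Group X] (h : XO82 X) : Nat.card X = 2 ^ 12 * 42525 := by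
  obtain ⟨F, i, j, hF, ⟨e⟩⟩ := h
  obtain ⟨e'⟩ := StdO8.Model.exists_equiv hF
  rw [Nat.card_congr (e.trans e').toEquiv, StdO8.Uni.card_Om]

/-- **(EX), the row `Ω₈⁺(2)`.** -/
theorem noL2_o82 {X : Type u} [Group X] [Finite X] (hs : IsSimpleGroup X) (hna : ¬ IsMulCommutative X)
    (h : XO82 X) : NoL2 X := by
  intro α hα J hJ h2
  have hct := ct_o82 hs hna h
  have h1 : α * α = 1 := by rw [← pow_two, ← hα, pow_orderOf_eq_one]
  rcases exists_C0 h h1 with ⟨x, rfl⟩ | ⟨φ, hφ⟩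
  · exact inner_false hct.char hct.center hα hJ
  · refine rank_false hct.char hct.center h1 hJ h2 (E := OEight.E0.map φ.toMonoidHom) ?_ ?_ ?_
    · rintro _ ⟨y, hy, rfl⟩
      exact hφ y (OEight.E0_le hy)
    · rintro _ ⟨y, hy, rfl⟩
      show φ y * φ y = 1
      rw [← map_mul, OEight.Eg_sq hy, map_one]
    · have h3 : Nat.card ↥(OEight.E0.map φ.toMonoidHom) = Nat.card ↥OEight.E0 :=
        (Nat.card_congr (OEight.E0.equivMapOfInjective _ φ.injective).toEquiv).symm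
      rw [h3]
      have := OEight.card_E0
      omega

/-- **(EX3), the row `Ω₈⁺(2)`.** -/
theorem no3_o82 {X : Type u} [Group X] [Finite X] (hs : IsSimpleGroup X) (hna : ¬ IsMulCommutative X)
    (h : XO82 X) : No3 X := by
  intro α hα J hJ h81 hR
  by_contra hg
  have hct := ct_o82 hs hna h
  have h1 : α * α = 1 := by rw [← pow_two, ← hα, pow_orderOf_eq_one]
  have hcard := card_o82 h
  have hdvd : Nat.card (↥J ⧸ center ↥J) ∣ 2 ^ 12 * 42525 := by
    rw [← hcard]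
    exact (Subgroup.card_quotient_dvd_card _).trans (card_subgroup_dvd_card J)
  rcases exists_C0 h h1 with ⟨x, rfl⟩ | ⟨φ, hφ⟩
  · exact inner_false hct.char hct.center hα hJ
  · rcases Three.cases hR h81 hg with ⟨-, h3, h4⟩ | ⟨h3, -⟩ | ⟨h3, -⟩ | ⟨h3, -⟩ | h3
    · have he : 2 ∣ Nat.card ↥J := by
        have h5 : Nat.card (↥J ⧸ center ↥J) ∣ Nat.card ↥J := Subgroup.card_quotient_dvd_card _
        rw [h3] at h5
        exact dvd_trans (by norm_num) h5
      have h5 : 2 ^ 8 ∣ Nat.card ↥(fix α) := by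
        refine dvd_trans OEight.card_C0 ?_
        have h6 : Nat.card ↥(OEight.C0.map φ.toMonoidHom) = Nat.card ↥OEight.C0 :=
          (Nat.card_congr (OEight.C0.equivMapOfInjective _ φ.injective).toEquiv).symm
        rw [← h6]
        refine card_dvd_of_le ?_
        rintro _ ⟨y, hy, rfl⟩
        exact hφ y hy
      have h6 := pow_dvd hct.char hct.center h1 hJ he h5
      rw [h4] at h6
      exact absurd h6 (by norm_num)
    · rw [h3] at hdvd
      exact absurd hdvd (by norm_num)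
    · rw [h3] at hdvd
      exact absurd hdvd (by norm_num)
    · rw [h3] at hdvd
      exact absurd hdvd (by norm_num)
    · have h4 := h3.trans hdvd
      exact absurd h4 (by norm_num)

end Cfsg.Agent.OddHalf.NI3.Ex

end
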