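import Mathlib
import Cfsg.Agent.PLocal.SubnormalCore
import Cfsg.Agent.OddHalf.NI.Ex.Descend
import Cfsg.Agent.Co2Type.Quad
import Cfsg.Agent.Lib.SubnormalJoin
import Cfsg.Agent.OddHalf.LongSL.Rk
import Cfsg.Agent.OddHalf.NI.FrameKill
import Cfsg.Agent.LFourR.QThreeSL
import Cfsg.Agent.LieClassical.Grun
import Cfsg.Agent.OddHalf.NI3.Ex.Defs
import Cfsg.Agent.KFacts.AutLarge
import Cfsg.Agent.KFacts.Baby.Inst
import Cfsg.Agent.OddHalf.NI.Ex.Cyc
import Cfsg.Agent.KFacts.Baby.RowB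
import Cfsg.Agent.Fischer919.CentralQuot

-- merged: Cfsg.Agent.OddHalf.NI3.Ex.PackM
section

/-!
# Packed matrices over the field with two elements (helper88)

A matrix with 22 columns is a number, the column `k` is the field of width 24 at position `24 k`.
-/

set_option autoImplicit false

namespace Cfsg.Agent.OddHalf.NI3.Ex.PackM

/-- evaluate before continuing -/
def force {α : Type} (n : ℕ) (k : ℕ → α) : α := Nat.rec (k (nat_lit 0)) (fun m _ => k (Nat.succ m)) n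

@[simp] theorem force_eq {α : Type} (n : ℕ) (k : ℕ → α) : force n k = k n := by
  cases n <;> rfl

/-- the field number `k` -/
def fd (M k : ℕ) : ℕ := Nat.land (Nat.shiftRight M (Nat.mul (nat_lit 24) k)) (nat_lit 16777215)

theorem testBit_fd (M k i : ℕ) : (fd M k).testBit i = (M.testBit (24 * k + i) && decide (i < 24)) := by
  have h : fd M k = (M >>> (24 * k)) &&& (2 ^ 24 - 1) := rfl
  rw [h, Nat.testBit_and, Nat.testBit_shiftRight, Nat.testBit_two_pow_sub_one]

theorem fd_lt (M k : ℕ) : fd M k < 2 ^ 24 := by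
  have h : fd M k = (M >>> (24 * k)) &&& (2 ^ 24 - 1) := rfl
  rw [h, Nat.and_two_pow_sub_one_eq_mod]
  exact Nat.mod_lt _ (by norm_num)

theorem fd_xor (M N k : ℕ) : fd (Nat.xor M N) k = fd M k ^^^ fd N k := by
  apply Nat.eq_of_testBit_eq
  intro i
  rw [testBit_fd, show Nat.xor M N = M ^^^ N from rfl, Nat.testBit_xor, Nat.testBit_xor, testBit_fd, testBit_fd]
  cases decide (i < 24) <;> simp

theorem fd_zero (k : ℕ) : fd 0 k = 0 := by
  apply Nat.eq_of_testBit_eq
  intro i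
  rw [testBit_fd, Nat.zero_testBit, Bool.false_and, Nat.zero_testBit]

theorem ext_fd {M N : ℕ} (h : ∀ k, fd M k = fd N k) : M = N := by
  apply Nat.eq_of_testBit_eq
  intro i
  have h1 := testBit_fd M (i / 24) (i % 24)
  have h2 := testBit_fd N (i / 24) (i % 24)
  have h3 : 24 * (i / 24) + i % 24 = i := Nat.div_add_mod i 24
  rw [h, h2, h3] at h1
  have h4 : decide (i % 24 < 24) = true := decide_eq_true (Nat.mod_lt _ (by norm_num))
  rw [h4, Bool.and_true, Bool.and_true] at h1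
  exact h1.symm

/-- packing -/
def pk : ℕ → (ℕ → ℕ) → ℕ
  | 0, _ => 0
  | n + 1, f => f 0 + 2 ^ 24 * pk n (fun k => f (k + 1))

theorem fd_pk {n : ℕ} {f : ℕ → ℕ} (hf : ∀ k < n, f k < 2 ^ 24) (k : ℕ) :
    fd (pk n f) k = if k < n then f k else 0 := by
  induction n generalizing f k with
  | zero => simp [pk, fd_zero]
  | succ n ih =>
    have h0 : f 0 < 2 ^ 24 := hf 0 (Nat.succ_pos n)
    apply Nat.eq_of_testBit_eq
    intro i
    rw [testBit_fd, pk, add_comm (f 0), Nat.testBit_two_pow_mul_add _ h0]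
    rcases k with _ | k
    · simp only [mul_zero, zero_add, Nat.succ_pos, if_true]
      by_cases hi : i < 24
      · simp [hi]
      · have h1 : (f 0).testBit i = false := by
          apply Nat.testBit_lt_two_pow
          exact h0.trans_le (Nat.pow_le_pow_right (by norm_num) (by omega))
        simp [hi, h1]
    · have h1 : ¬ 24 * (k + 1) + i < 24 := by omega
      have h2 : 24 * (k + 1) + i - 24 = 24 * k + i := by omega
      rw [if_neg h1, h2, ← testBit_fd, ih (fun k hk => hf (k + 1) (by omega))]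
      simp

theorem pk_mul (n : ℕ) (f : ℕ → ℕ) (c : ℕ) : pk n f * c = pk n (fun k => f k * c) := by
  induction n generalizing f with
  | zero => simp [pk]
  | succ n ih => rw [pk, pk, add_mul, mul_assoc, ih]

/-- 22 fields `1` -/
def ONES : ℕ := nat_lit 52374252848087006306927776885640336123157968615073663441905663292492200134223706060373407267217245713134982645099889929809662358380919026668578522791937

theorem ONES_eq : ONES = pk 22 (fun _ => 1) := by decide +kernel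

theorem fd_land (M N k : ℕ) : fd (Nat.land M N) k = fd M k &&& fd N k := by
  apply Nat.eq_of_testBit_eq
  intro i
  rw [testBit_fd, show Nat.land M N = M &&& N from rfl, Nat.testBit_and, Nat.testBit_and, testBit_fd, testBit_fd]
  cases decide (i < 24) <;> simp

/-- the bit number `j` of the fields -/
theorem row_eq (B : ℕ) {j : ℕ} (hj : j < 24) :
    Nat.land (Nat.shiftRight B j) ONES = pk 22 (fun k => if (fd B k).testBit j = true then 1 else 0) := by
  have hf : ∀ k < 22, (fun k => if (fd B k).testBit j = true then 1 else 0) k < 2 ^ 24 := by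
    intro k _
    change (if (fd B k).testBit j = true then 1 else 0) < 2 ^ 24
    split_ifs <;> norm_num
  apply ext_fd
  intro k
  rw [fd_land, fd_pk hf, ONES_eq, fd_pk (fun _ _ => by norm_num)]
  by_cases hk : k < 22
  · rw [if_pos hk, if_pos hk]
    apply Nat.eq_of_testBit_eq
    intro i
    rw [Nat.testBit_and, testBit_fd, show Nat.shiftRight B j = B >>> j from rfl, Nat.testBit_shiftRight]
    rcases i with _ | i
    · rw [testBit_fd]
      have h1 : j + (24 * k + 0) = 24 * k + j := by omega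
      rw [h1]
      cases h : B.testBit (24 * k + j) <;> simp [hj]
    · have h1 : (1 : ℕ).testBit (i + 1) = false := by
        apply Nat.testBit_lt_two_pow
        exact Nat.one_lt_two_pow (Nat.succ_ne_zero i)
      rw [h1, Bool.and_false]
      split_ifs
      · exact h1.symm
      · exact (Nat.zero_testBit _).symm
  · rw [if_neg hk, if_neg hk, Nat.and_zero]

/-- the field `k` of `row * c` -/
theorem fd_row_mul (B : ℕ) {j c k : ℕ} (hj : j < 24) (hc : c < 2 ^ 24) (hk : k < 22) :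
    fd (Nat.mul (Nat.land (Nat.shiftRight B j) ONES) c) k = if (fd B k).testBit j = true then c else 0 := by
  rw [row_eq B hj, show Nat.mul (pk 22 _) c = pk 22 _ * c from rfl, pk_mul, fd_pk, if_pos hk]
  · split_ifs
    · rw [one_mul]
    · rw [zero_mul]
  · intro k' _
    split_ifs
    · rw [one_mul]; exact hc
    · rw [zero_mul]; norm_num

/-- the product of the matrix `A` and the vector `m`, columns below `n` -/
def apN (A m : ℕ) : ℕ → ℕ
  | 0 => 0
  | n + 1 => apN A m n ^^^ (if m.testBit n = true then fd A n else 0)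

theorem apN_lt {A : ℕ} (hA : ∀ k < 22, fd A k < 2 ^ 22) (m : ℕ) : ∀ n ≤ 22, apN A m n < 2 ^ 22
  | 0, _ => by norm_num [apN]
  | n + 1, h => by
    rw [apN]
    refine Nat.xor_lt_two_pow (apN_lt hA m n (by omega)) ?_
    split_ifs
    · exact hA n (by omega)
    · norm_num

/-- the product of matrices -/
noncomputable def mulAux (A B n : ℕ) : ℕ → ℕ :=
  Nat.rec (fun acc => acc) (fun n ih acc => ih (Nat.xor acc
    (Nat.mul (Nat.land (Nat.shiftRight B n) ONES) (fd A n)))) n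

theorem fd_mulAux (A B : ℕ) {k : ℕ} (hk : k < 22) : ∀ n ≤ 22, ∀ acc : ℕ,
    fd (mulAux A B n acc) k = fd acc k ^^^ apN A (fd B k) n
  | 0, _, acc => by
    change fd acc k = fd acc k ^^^ 0
    rw [Nat.xor_zero]
  | n + 1, h, acc => by
    have h1 : mulAux A B (n + 1) acc = mulAux A B n (Nat.xor acc
      (Nat.mul (Nat.land (Nat.shiftRight B n) ONES) (fd A n))) := rfl
    rw [h1, fd_mulAux A B hk n (by omega), fd_xor, fd_row_mul B (by omega) (fd_lt A n) hk, apN, Nat.xor_assoc]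
    congr 1
    exact Nat.xor_comm _ _

/-- the product of matrices -/
noncomputable def mulM (A B : ℕ) : ℕ :=
  force A fun A => force B fun B => mulAux A B (nat_lit 22) (nat_lit 0)

theorem fd_mulM (A B : ℕ) {k : ℕ} (hk : k < 22) : fd (mulM A B) k = apN A (fd B k) 22 := by
  have h : mulM A B = mulAux A B 22 0 := by simp [mulM]
  rw [h, fd_mulAux A B hk 22 le_rfl, fd_zero, Nat.zero_xor]

/-- the identity matrix -/
def ID : ℕ := nat_lit 109836765835480460890497387528233047336909270770019318933947619766927871495901178099707848720674398864853801573657449809979856655970739909290542749366387474433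

theorem fd_ID : ∀ k < 22, fd ID k = 2 ^ k := by decide +kernel

/-- the rank is at least `r`: elimination through the fields `k < n` -/
noncomputable def rk (n : ℕ) : ℕ → ℕ → Bool :=
  Nat.rec (fun _ r => Nat.beq r (nat_lit 0)) (fun k ih M r =>
    force (fd M k) fun c => Nat.rec (ih M r) (fun _ _ =>
      force (Nat.gcd c (nat_lit 16777216)) fun g => force (Nat.xor M (Nat.mul (Nat.land (Nat.div M g) ONES) c)) fun M' =>
        force (Nat.sub r (nat_lit 1)) fun r' => ih M' r') c) n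

/-- the lowest bit -/
theorem exists_bit {c : ℕ} (h0 : c ≠ 0) (hc : c < 2 ^ 24) : ∃ j < 24, Nat.gcd c 16777216 = 2 ^ j ∧ c.testBit j = true := by
  obtain ⟨j, hj, hg⟩ := (Nat.dvd_prime_pow Nat.prime_two).1 (Nat.gcd_dvd_right c (2 ^ 24))
  have h1 : Nat.gcd c (2 ^ 24) ∣ c := Nat.gcd_dvd_left _ _
  have h2 : 2 ^ j ≤ c := by rw [← hg]; exact Nat.le_of_dvd (Nat.pos_of_ne_zero h0) h1
  have hj' : j < 24 := by
    by_contra hcon
    have : j = 24 := by omega
    rw [this] at h2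
    omega
  refine ⟨j, hj', hg, ?_⟩
  rw [hg] at h1
  obtain ⟨c', hc'⟩ := h1
  have hodd : c' % 2 = 1 := by
    by_contra hcon
    have h3 : 2 ∣ c' := by omega
    have h4 : 2 ^ (j + 1) ∣ c := by
      rw [hc', pow_succ]
      exact Nat.mul_dvd_mul_left _ h3
    have h5 : 2 ^ (j + 1) ∣ Nat.gcd c (2 ^ 24) := Nat.dvd_gcd h4 (Nat.pow_dvd_pow 2 (by omega))
    rw [hg] at h5
    have h6 := (Nat.pow_dvd_pow_iff_le_right (by norm_num : 1 < 2)).1 h5
    omega
  rw [hc', Nat.testBit_two_pow_mul]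
  simp [hodd]

theorem rk_sound (n : ℕ) (hn : n ≤ 22) : ∀ (M r : ℕ), rk n M r = true → ∀ T : Finset ℕ, (∀ a ∈ T, ∀ b ∈ T, a ^^^ b ∈ T) →
    (∀ k < 22, fd M k ∈ T) → 2 ^ r ≤ T.card := by
  classical
  induction n with
  | zero =>
    intro M r h T _ hM
    have h1 : r = 0 := Nat.eq_of_beq_eq_true h
    rw [h1, pow_zero]
    exact Finset.card_pos.2 ⟨_, hM 0 (by norm_num)⟩
  | succ k ih =>
    intro M r h T hT hM
    have h1 : rk (k + 1) M r = force (fd M k) fun c => Nat.rec (motive := fun _ => Bool) (rk k M r) (fun _ _ =>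
      force (Nat.gcd c (nat_lit 16777216)) fun g => force (Nat.xor M (Nat.mul (Nat.land (Nat.div M g) ONES) c)) fun M' =>
        force (Nat.sub r (nat_lit 1)) fun r' => rk k M' r') c := rfl
    rw [h1] at h
    simp only [force_eq] at h
    by_cases h0 : fd M k = 0
    · rw [h0] at h
      exact ih (by omega) M r h T hT hM
    · have h2 : rk k (Nat.xor M (Nat.mul (Nat.land (Nat.div M (Nat.gcd (fd M k) 16777216)) ONES) (fd M k)))
          (Nat.sub r 1) = true := by
        obtain ⟨c', hc'⟩ := Nat.exists_eq_succ_of_ne_zero h0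
        rw [hc'] at h ⊢
        exact h
      obtain ⟨j, hj24, hg, hj⟩ := exists_bit h0 (fd_lt M k)
      have h3 : Nat.div M (Nat.gcd (fd M k) 16777216) = Nat.shiftRight M j := by
        rw [hg]
        change M / 2 ^ j = M >>> j
        rw [Nat.shiftRight_eq_div_pow]
      rw [h3] at h2
      set c := fd M k with hc
      have hcT : c ∈ T := hM k (by omega)
      have h0T : 0 ∈ T := by
        have := hT c hcT c hcT
        rwa [Nat.xor_self] at this
      set T' := T.filter (fun a => a.testBit j = false) with hT'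
      have h4 : 2 ^ (Nat.sub r 1) ≤ T'.card := by
        refine ih (by omega) _ _ h2 T' ?_ ?_
        · intro a ha b hb
          rw [hT', Finset.mem_filter] at ha hb ⊢
          exact ⟨hT a ha.1 b hb.1, by rw [Nat.testBit_xor, ha.2, hb.2]; rfl⟩
        · intro i hi
          rw [hT', Finset.mem_filter, fd_xor, fd_row_mul M hj24 (fd_lt M k) hi]
          by_cases hb : (fd M i).testBit j = true
          · rw [if_pos hb]
            refine ⟨hT _ (hM i hi) _ hcT, ?_⟩
            rw [Nat.testBit_xor, hb, hj]; rfl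
          · rw [if_neg hb]
            refine ⟨hT _ (hM i hi) _ h0T, ?_⟩
            rw [Nat.xor_zero]
            simpa using hb
      have hinj : Function.Injective (fun a : ℕ => a ^^^ c) := by
        intro a b hab
        have h3 : (a ^^^ c) ^^^ c = (b ^^^ c) ^^^ c := congrArg (· ^^^ c) hab
        rwa [Nat.xor_assoc, Nat.xor_assoc, Nat.xor_self, Nat.xor_zero, Nat.xor_zero] at h3
      have h5 : (T' ∪ T'.image (fun a => a ^^^ c)).card = T'.card + T'.card := by
        rw [Finset.card_union_of_disjoint, Finset.card_image_of_injective _ hinj]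
        rw [Finset.disjoint_left]
        intro a ha hb
        obtain ⟨b, hb1, rfl⟩ := Finset.mem_image.1 hb
        rw [hT', Finset.mem_filter] at ha hb1
        have h4 := ha.2
        rw [Nat.testBit_xor, hb1.2, hj] at h4
        exact absurd h4 (by decide)
      have h6 : (T' ∪ T'.image (fun a => a ^^^ c)).card ≤ T.card := by
        apply Finset.card_le_card
        intro a ha
        rcases Finset.mem_union.1 ha with h5 | h5
        · exact (Finset.mem_filter.1 h5).1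
        · obtain ⟨b, hb1, rfl⟩ := Finset.mem_image.1 h5
          exact hT b (Finset.mem_filter.1 hb1).1 c hcT
      rw [h5] at h6
      rcases r with _ | r
      · rw [pow_zero]
        exact Finset.card_pos.2 ⟨0, h0T⟩
      · have h7 : Nat.sub (r + 1) 1 = r := rfl
        rw [h7] at h4
        rw [pow_succ]
        omega

/-- depth first search through the products `P A₁^{e₁} … A_n^{e_n}`, `e_i < 3` -/
noncomputable def dfs (leaf : ℕ → Bool) (l : List ℕ) : ℕ → Bool :=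
  List.rec (fun P => leaf P) (fun A _ ih P => and (ih P)
    (force (mulM P A) fun P1 => and (ih P1) (force (mulM P1 A) fun P2 => ih P2))) l

theorem dfs_nil (leaf : ℕ → Bool) (P : ℕ) : dfs leaf [] P = leaf P := rfl

theorem dfs_cons (leaf : ℕ → Bool) (A : ℕ) (l : List ℕ) (P : ℕ) : dfs leaf (A :: l) P =
    (dfs leaf l P && (dfs leaf l (mulM P A) && dfs leaf l (mulM (mulM P A) A))) := by
  have h : dfs leaf (A :: l) P = and (dfs leaf l P)
    (force (mulM P A) fun P1 => and (dfs leaf l P1) (force (mulM P1 A) fun P2 => dfs leaf l P2)) := rfl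
  rw [h]
  simp only [force_eq]

/-- the leaf: the identity or `P - 1` of rank at least 10 -/
noncomputable def leafR (P : ℕ) : Bool := force P fun P => or (Nat.beq P ID) (rk (nat_lit 22) (Nat.xor P ID) (nat_lit 10))

theorem leafR_spec {P : ℕ} (h : leafR P = true) : P = ID ∨ rk 22 (Nat.xor P ID) 10 = true := by
  unfold leafR at h
  rw [force_eq, Bool.or_eq_true] at h
  exact h.imp Nat.eq_of_beq_eq_true id

/-- `2 ^ 528` -/
def B22 : ℕ := nat_lit 878694100496718043517683302282418331810487718418343092402491322775749527474899974671687634004666183037093927858109549828751614463963730408009475621262727315456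

theorem B22_eq : B22 = 2 ^ (528 : ℕ) := by decide +kernel

/-- the leaf: different from `T` -/
noncomputable def leafN (T P : ℕ) : Bool :=
  not (Nat.beq (Nat.mod P B22) (Nat.mod T B22))

theorem leafN_spec {T P : ℕ} (h : leafN T P = true) (hf : ∀ k < 22, fd P k = fd T k) : False := by
  unfold leafN at h
  have h1 : Nat.mod P B22 = Nat.mod T B22 := by
    change P % B22 = T % B22
    rw [B22_eq]
    apply Nat.eq_of_testBit_eq
    intro i
    rw [Nat.testBit_mod_two_pow, Nat.testBit_mod_two_pow]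
    by_cases hi : i < 528
    · have h2 := testBit_fd P (i / 24) (i % 24)
      have h3 := testBit_fd T (i / 24) (i % 24)
      rw [hf _ (by omega), h3, Nat.div_add_mod] at h2
      have h4 : decide (i % 24 < 24) = true := decide_eq_true (Nat.mod_lt _ (by norm_num))
      rw [h4, Bool.and_true, Bool.and_true] at h2
      rw [h2]
    · simp [hi]
  rw [h1] at h
  have h2 : Nat.beq (Nat.mod T B22) (Nat.mod T B22) = true := Nat.beq_refl _
  rw [h2] at h
  exact absurd h (by decide)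

end Cfsg.Agent.OddHalf.NI3.Ex.PackM

end

-- merged: Cfsg.Agent.OddHalf.NI3.Ex.LongFix
section

/-!
# (EX3): a 3-element of a subnormal `SL₂(3)` which commutes with an involution of the centre of a Sylow 2-subgroup
(helper88)

* `exists_three`: `F` finite, `u` an involution which commutes with `O₂(F)`, `P` subnormal in `F`, `T` a normal 2-subgroup
  of `P` whose centralizer in `P` is `Z(P)`, `y ∈ P` a 3-element which does not commute with `T`: there is a 3-element
  `w ≠ 1` of `P O₃(F)` which commutes with `u`.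
* `exists_V2`: an elementary abelian 2-group with commuting automorphisms.
-/

set_option autoImplicit false
set_option linter.style.haveILetI false

namespace Cfsg.Agent.OddHalf.NI3.Ex.LongFix

open Subgroup Cfsg Cfsg.Agent.Lib.Cores Cfsg.Agent.PLocal

section One

variable {F : Type*} [Group F]

/-- Elements of `O₂` and `O₃` commute. -/
theorem comm_of_cores {a b : F} (ha : a ∈ pCore 2 F) (hb : b ∈ pCore 3 F) : a * b = b * a := by
  have hn2 : (pCore 2 F).Normal := pCore_normal 2 F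
  have hn3 : (pCore 3 F).Normal := pCore_normal 3 F
  have h1 : a * b * a⁻¹ * b⁻¹ ∈ pCore 2 F := by
    have : a * b * a⁻¹ * b⁻¹ = a * (b * a⁻¹ * b⁻¹) := by group
    rw [this]
    exact mul_mem ha (hn2.conj_mem _ (inv_mem ha) b)
  have h2 : a * b * a⁻¹ * b⁻¹ ∈ pCore 3 F := mul_mem (hn3.conj_mem _ hb a) (inv_mem hb)
  obtain ⟨k, hk⟩ := (pCore_isPGroup 2 (G := F)) ⟨_, h1⟩
  obtain ⟨l, hl⟩ := (pCore_isPGroup 3 (G := F)) ⟨_, h2⟩
  have hk' : (a * b * a⁻¹ * b⁻¹) ^ 2 ^ k = 1 := congrArg Subtype.val hk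
  have hl' : (a * b * a⁻¹ * b⁻¹) ^ 3 ^ l = 1 := congrArg Subtype.val hl
  have h3 : orderOf (a * b * a⁻¹ * b⁻¹) = 1 :=
    Nat.eq_one_of_dvd_coprimes (Nat.Coprime.pow k l (by norm_num : Nat.Coprime 2 3))
      (orderOf_dvd_of_pow_eq_one hk') (orderOf_dvd_of_pow_eq_one hl')
  rw [orderOf_eq_one_iff] at h3
  rw [mul_inv_eq_one] at h3
  exact mul_inv_eq_iff_eq_mul.1 h3

theorem exists_three [Finite F] {u : F} (uu : u * u = 1) (hu : ∀ x ∈ pCore 2 F, x * u = u * x)
    {P : Subgroup F} (hP : P.IsSubnormal) {T : Subgroup F} (hTP : T ≤ P) (hT2 : IsPGroup 2 T)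
    (hTn : ∀ p ∈ P, ∀ t ∈ T, p * t * p⁻¹ ∈ T) {y : F} (hy : y ∈ P) (hy3 : ∃ k : ℕ, y ^ 3 ^ k = 1)
    (hyT : ∃ t ∈ T, y * t ≠ t * y)
    (hc : ∀ c ∈ P, (∀ t ∈ T, c * t = t * c) → ∀ p ∈ P, c * p = p * c) :
    ∃ w ∈ P ⊔ pCore 3 F, (∃ k : ℕ, w ^ 3 ^ k = 1) ∧ w ≠ 1 ∧ w * u = u * w := by
  have hn3 : (pCore 3 F).Normal := pCore_normal 3 F
  -- `T ≤ O₂(F)`
  have hT : T ≤ pCore 2 F := by
    refine SubnormalCore.le_pCore_of_normal_subnormal hTP ⟨fun t ht p => ?_⟩ hP hT2
    exact hTn p p.2 t ht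
  -- `N = C(O₂(F))`
  set N : Subgroup F := centralizer (pCore 2 F : Set F) with hN
  have hNn : N.Normal := by
    have : (pCore 2 F).Normal := pCore_normal 2 F
    rw [hN]
    infer_instance
  have huN : u ∈ N := by
    rw [hN, mem_centralizer_iff]
    exact fun x hx => hu x hx
  have hNT : ∀ n ∈ N, n ∈ P → ∀ p ∈ P, n * p = p * n := fun n hn hnP =>
    hc n hnP fun t ht => (mem_centralizer_iff.1 hn t (hT ht)).symm
  -- `M = N ⟨y⟩`
  set M : Subgroup F := N ⊔ zpowers y with hM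
  have hyM : y ∈ M := (le_sup_right : zpowers y ≤ M) (mem_zpowers y)
  have huM : u ∈ M := (le_sup_left : N ≤ M) huN
  have hdec : ∀ m ∈ M, ∃ n ∈ N, ∃ i : ℤ, m = n * y ^ i := by
    intro m hm
    rw [hM, mem_sup_of_normal_left] at hm
    obtain ⟨n, hn, x, hx, rfl⟩ := hm
    obtain ⟨i, rfl⟩ := mem_zpowers_iff.1 hx
    exact ⟨n, hn, i, rfl⟩
  have hPM : ∀ m ∈ M, m ∈ P → ∀ i : ℤ, m * y ^ i = y ^ i * m := by
    intro m hm hmP i
    obtain ⟨n, hn, j, rfl⟩ := hdec m hm
    have hnP : n ∈ P := by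
      have := mul_mem hmP (inv_mem (zpow_mem hy j))
      rwa [mul_inv_cancel_right] at this
    have h1 := hNT n hn hnP (y ^ i) (zpow_mem hy i)
    have h2 : y ^ j * y ^ i = y ^ i * y ^ j := by rw [← zpow_add, ← zpow_add, add_comm]
    rw [mul_assoc, h2, ← mul_assoc, h1, mul_assoc]
  -- `⟨y⟩` is subnormal in `M`
  have hyp : IsPGroup 3 (zpowers y) := by
    obtain ⟨k, hk⟩ := hy3
    rintro ⟨x, hx⟩
    obtain ⟨i, rfl⟩ := mem_zpowers_iff.1 hx
    refine ⟨k, Subtype.ext ?_⟩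
    change (y ^ i) ^ 3 ^ k = 1
    rw [← zpow_natCast, ← zpow_mul, mul_comm, zpow_mul, zpow_natCast, hk, one_zpow]
  have hPMs : (P.subgroupOf M).IsSubnormal := hP.comap M.subtype
  have hys : ((zpowers y).subgroupOf M).IsSubnormal := by
    refine IsSubnormal.step _ (P.subgroupOf M) ?_ hPMs ⟨?_⟩
    · intro x hx
      exact (zpowers_le.2 hy) hx
    · rintro ⟨⟨x, hxM⟩, hxP⟩ hx ⟨⟨g, hgM⟩, hgP⟩
      obtain ⟨i, hi⟩ := mem_zpowers_iff.1 (show x ∈ zpowers y from hx)
      change g * x * g⁻¹ ∈ zpowers y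
      rw [← hi, hPM g hgM hgP i, mul_inv_cancel_right]
      exact zpow_mem (mem_zpowers y) i
  have hyC : (⟨y, hyM⟩ : M) ∈ pCore 3 M := by
    refine SubnormalCore.le_pCore_of_isSubnormal hys ?_ (show y ∈ zpowers y from mem_zpowers y)
    exact hyp.comap_of_injective _ M.subtype_injective
  have hCn : (pCore 3 M).Normal := pCore_normal 3 M
  -- `n = y⁻¹ u y u⁻¹ ∈ O₃(F)`
  set n : F := y⁻¹ * (u * y * u⁻¹) with hn
  have hnN : n ∈ N := by
    have : n = (y⁻¹ * u * y⁻¹⁻¹) * u⁻¹ := by rw [hn]; group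
    rw [this]
    exact mul_mem (hNn.conj_mem _ huN _) (inv_mem huN)
  have hnO : n ∈ pCore 3 F := by
    have h1 : (⟨n, (le_sup_left : N ≤ M) hnN⟩ : M) ∈ pCore 3 M :=
      mul_mem (inv_mem hyC) (hCn.conj_mem _ hyC ⟨u, huM⟩)
    set K : Subgroup F := (pCore 3 M).map M.subtype ⊓ N with hK
    have h2 : n ∈ K := ⟨⟨_, h1, rfl⟩, hnN⟩
    refine SubnormalCore.le_pCore_of_normal_subnormal (K := N) inf_le_right ⟨?_⟩ (Normal.isSubnormal hNn) ?_ h2
    · rintro ⟨x, hxN⟩ ⟨⟨m, hm, hmx⟩, -⟩ ⟨g, hg⟩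
      refine ⟨⟨⟨g, (le_sup_left : N ≤ M) hg⟩ * m * ⟨g, (le_sup_left : N ≤ M) hg⟩⁻¹, hCn.conj_mem _ hm _, ?_⟩,
        hNn.conj_mem _ hxN g⟩
      change g * m * g⁻¹ = g * x * g⁻¹
      rw [show (m : F) = x from hmx]
    · exact ((pCore_isPGroup 3).map _).to_le inf_le_left
  -- a fixed point in `y O₃(F)`
  set O : Subgroup F := pCore 3 F with hO
  have hOp : IsPGroup 3 O := pCore_isPGroup 3
  haveI : Fact (Nat.Prime 3) := ⟨Nat.prime_three⟩
  have hodd : ¬ 2 ∣ Nat.card O := by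
    obtain ⟨k, hk⟩ := IsPGroup.iff_card.1 hOp
    rw [hk]
    intro h
    have := Nat.prime_two.dvd_of_dvd_pow h
    omega
  have hinvol : ∃ o ∈ O, u * (y * o) * u⁻¹ = y * o := by
    classical
    let f : O → O := fun o => ⟨n * (u * o * u⁻¹), mul_mem hnO (hn3.conj_mem _ o.2 u)⟩
    have hf : ∀ o, f (f o) = o := by
      intro o
      apply Subtype.ext
      change n * (u * (n * (u * o * u⁻¹)) * u⁻¹) = o
      have h1 : u⁻¹ = u := inv_eq_of_mul_eq_one_left uu
      have h2 : n * (u * (n * (u * o * u⁻¹)) * u⁻¹) = (n * (u * n * u⁻¹)) * ((u * u) * o * (u * u)⁻¹) := by group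
      have h3 : n * (u * n * u⁻¹) = y⁻¹ * ((u * u) * y * (u * u)⁻¹) := by
        rw [hn]
        have : y⁻¹ * (u * y * u⁻¹) * (u * (y⁻¹ * (u * y * u⁻¹)) * u⁻¹) = y⁻¹ * ((u * u) * y * (u * u)⁻¹) := by group
        exact this
      rw [h2, h3, uu]
      group
    haveI : Fintype O := Fintype.ofFinite O
    have hinv : Function.Involutive f := hf
    haveI : Fact (Nat.Prime 2) := ⟨Nat.prime_two⟩
    have hσ : (hinv.toPerm f) ^ 2 ^ 1 = 1 := by
      ext o
      rw [pow_one, pow_two]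
      change ((f (f o) : O) : F) = o
      rw [hf]
    obtain ⟨o, ho⟩ := Equiv.Perm.exists_fixed_point_of_prime (by rwa [← Nat.card_eq_fintype_card]) hσ
    have ho' : n * (u * o * u⁻¹) = o := congrArg Subtype.val ho
    refine ⟨o, o.2, ?_⟩
    have h1 : u * (y * (o : F)) * u⁻¹ = y * (n * (u * o * u⁻¹)) := by rw [hn]; group
    rw [h1, ho']
  obtain ⟨o, ho, hfix⟩ := hinvol
  refine ⟨y * o, mul_mem ((le_sup_left : P ≤ _) hy) ((le_sup_right : O ≤ _) ho), ?_, ?_, ?_⟩
  · have h1 : IsPGroup 3 ↥(zpowers y ⊔ O) := hyp.to_sup_of_normal_right hOp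
    obtain ⟨k, hk⟩ := h1 ⟨y * o, mul_mem ((le_sup_left : zpowers y ≤ _) (mem_zpowers y))
      ((le_sup_right : O ≤ _) ho)⟩
    exact ⟨k, congrArg Subtype.val hk⟩
  · intro h
    have h1 : y = o⁻¹ := eq_inv_of_mul_eq_one_left h
    obtain ⟨t, ht, hne⟩ := hyT
    apply hne
    rw [h1]
    exact (comm_of_cores (hT ht) (inv_mem ho)).symm
  · exact (mul_inv_eq_iff_eq_mul.1 hfix).symm

/-- A 2-subgroup of `P O₃(F)` has order at most the 2-part of `|P|`. -/
theorem card_le_of_sup [Finite F] {P E : Subgroup F} (hE : E ≤ P ⊔ pCore 3 F) (h2 : IsPGroup 2 E) {m : ℕ} (hm : Odd m)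
    {k : ℕ} (hc : Nat.card P ∣ 2 ^ k * m) : Nat.card E ∣ 2 ^ k := by
  have hn3 : (pCore 3 F).Normal := pCore_normal 3 F
  haveI : Fact (Nat.Prime 3) := ⟨Nat.prime_three⟩
  haveI : Fact (Nat.Prime 2) := ⟨Nat.prime_two⟩
  obtain ⟨l, hl⟩ := IsPGroup.iff_card.1 (pCore_isPGroup 3 (G := F))
  obtain ⟨n, hn⟩ := IsPGroup.iff_card.1 h2
  have h1 : Nat.card E ∣ Nat.card P * 3 ^ l := by
    refine (card_dvd_of_le hE).trans ?_
    rw [← hl]
    rw [sup_comm, mul_comm]
    exact card_sup_dvd _ _ hn3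
  have h3 : 2 ^ n ∣ 2 ^ k * (m * 3 ^ l) := by
    rw [← hn, ← mul_assoc]
    exact h1.trans (Nat.mul_dvd_mul_right hc _)
  rw [hn]
  refine Nat.Coprime.dvd_of_dvd_mul_right ?_ h3
  apply Nat.Coprime.pow_left
  rw [Nat.coprime_two_left]
  exact hm.mul (by decide : Odd 3).pow

/-- Iterated commutators with an element of a subnormal subgroup. -/
theorem iter_mem {H : Subgroup F} (hH : H.IsSubnormal) {w : F} (hw : w ∈ H) :
    ∃ n : ℕ, ∀ g : F, (fun x => x⁻¹ * (w * x * w⁻¹))^[n] g ∈ H := by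
  induction hH with
  | top => exact ⟨0, fun g => mem_top _⟩
  | step H K hle _ hN ih =>
    obtain ⟨n, hn⟩ := ih (hle hw)
    refine ⟨n + 1, fun g => ?_⟩
    rw [Function.iterate_succ_apply']
    have hk := hn g
    set k := (fun x => x⁻¹ * (w * x * w⁻¹))^[n] g with hkd
    change k⁻¹ * (w * k * w⁻¹) ∈ H
    have h1 := hN.conj_mem ⟨w, hle hw⟩ hw ⟨k⁻¹, inv_mem hk⟩
    have h2 : k⁻¹ * w * k⁻¹⁻¹ ∈ H := h1
    have h3 : k⁻¹ * (w * k * w⁻¹) = (k⁻¹ * w * k⁻¹⁻¹) * w⁻¹ := by group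
    rw [h3]
    exact mul_mem h2 (inv_mem hw)

end One

section Two

variable {V : Type*} [CommGroup V]

/-- the map `v ↦ v⁻¹ ω(v)` -/
def kap (ω : MulAut V) : V →* V where
  toFun v := v⁻¹ * ω v
  map_one' := by simp
  map_mul' a b := by
    rw [map_mul, mul_inv]
    exact mul_mul_mul_comm _ _ _ _

theorem kap_apply (ω : MulAut V) (v : V) : kap ω v = v⁻¹ * ω v := rfl

/-- fixed points in a subgroup -/
def fixIn (β : MulAut V) (S : Subgroup V) : Subgroup V where
  carrier := {v | v ∈ S ∧ β v = v}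
  mul_mem' := fun ha hb => ⟨mul_mem ha.1 hb.1, by rw [map_mul, ha.2, hb.2]⟩
  one_mem' := ⟨one_mem _, map_one _⟩
  inv_mem' := fun ha => ⟨inv_mem ha.1, by rw [map_inv, ha.2]⟩

theorem mem_fixIn {β : MulAut V} {S : Subgroup V} {v : V} : v ∈ fixIn β S ↔ v ∈ S ∧ β v = v := Iff.rfl

/-- An involution fixes at least the square root. -/
theorem card_le_sq [Finite V] (h2 : ∀ v : V, v * v = 1) {β : MulAut V} (hβ : β * β = 1) {S : Subgroup V}
    (hS : ∀ v ∈ S, β v ∈ S) : Nat.card S ≤ Nat.card (fixIn β S) ^ 2 := by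
  have hββ : ∀ v, β (β v) = v := fun v => by rw [← MulAut.mul_apply, hβ, MulAut.one_apply]
  have hinv : ∀ v : V, v⁻¹ = v := fun v => inv_eq_of_mul_eq_one_left (h2 v)
  let f : S →* fixIn β S :=
    { toFun := fun v => ⟨kap β v, mul_mem (inv_mem v.2) (hS v v.2), by
        rw [kap_apply, map_mul, map_inv, hββ, mul_comm, hinv, hinv]⟩
      map_one' := Subtype.ext (map_one _)
      map_mul' := fun a b => Subtype.ext (map_mul _ _ _) }
  have h3 := card_eq_card_quotient_mul_card_subgroup f.ker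
  have h4 : Nat.card (S ⧸ f.ker) ≤ Nat.card (fixIn β S) := by
    rw [Nat.card_congr (QuotientGroup.quotientKerEquivRange f).toEquiv]
    exact Nat.card_le_card_of_injective _ (Subtype.val_injective)
  have h5 : Nat.card f.ker ≤ Nat.card (fixIn β S) := by
    refine Nat.card_le_card_of_injective (fun v => (⟨v, v.1.2, ?_⟩ : fixIn β S)) ?_
    · have h6 : kap β (v : S) = 1 := congrArg Subtype.val (MonoidHom.mem_ker.1 v.2)
      rw [kap_apply, inv_mul_eq_one] at h6
      exact h6.symm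
    · intro a b h
      have h6 : ((a : S) : V) = ((b : S) : V) := congrArg (fun x : fixIn β S => (x : V)) h
      exact Subtype.ext (Subtype.ext h6)
  rw [h3, pow_two]
  exact Nat.mul_le_mul h4 h5

/-- `κ` is injective on its range. -/
theorem eq_one_of_fix (h2 : ∀ v : V, v * v = 1) {ω : MulAut V} {k : ℕ} (hω : ω ^ 3 ^ k = 1) {v : V}
    (hv : v ∈ (kap ω).range) (hf : ω v = v) : v = 1 := by
  obtain ⟨q, rfl⟩ := hv
  set v := kap ω q with hvd
  have h1 : ω q = q * v := by rw [hvd, kap_apply, mul_inv_cancel_left]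
  have h3 : ∀ n : ℕ, (ω ^ n) q = q * v ^ n := by
    intro n
    induction n with
    | zero => simp
    | succ n ih =>
      rw [pow_succ', MulAut.mul_apply, ih, map_mul, map_pow, hf, h1, pow_succ']
      exact mul_assoc _ _ _
  have h4 := h3 (3 ^ k)
  rw [hω, MulAut.one_apply] at h4
  have h5 : v ^ 3 ^ k = 1 := mul_left_cancel (a := q) (by rw [← h4, mul_one])
  have h6 : v ^ 2 = 1 := by rw [pow_two]; exact h2 v
  have h7 : orderOf v = 1 :=
    Nat.eq_one_of_dvd_coprimes (Nat.Coprime.pow_right k (by norm_num : Nat.Coprime 2 3))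
      (orderOf_dvd_of_pow_eq_one h6) (orderOf_dvd_of_pow_eq_one h5)
  exact orderOf_eq_one_iff.1 h7

/-- the number of elements of an invariant subgroup of the range is `1` modulo `3` -/
theorem card_mod_three [Finite V] (h2 : ∀ v : V, v * v = 1) {ω : MulAut V} {k : ℕ} (hω : ω ^ 3 ^ k = 1) {S : Subgroup V}
    (hS : S ≤ (kap ω).range) (hSi : ∀ v ∈ S, ω v ∈ S) : Nat.card S % 3 = 1 := by
  classical
  haveI : Fact (Nat.Prime 3) := ⟨Nat.prime_three⟩
  haveI : Fintype S := Fintype.ofFinite S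
  let f : Function.End S := fun v => ⟨ω v, hSi v v.2⟩
  have hfn : ∀ (n : ℕ) (v : S), (((f ^ n) v : S) : V) = (ω ^ n) v := by
    intro n
    induction n with
    | zero => intro v; rfl
    | succ n ih =>
      intro v
      rw [pow_succ', pow_succ', MulAut.mul_apply, ← ih]
      rfl
  have hf : f ^ 3 ^ k = 1 := by
    funext v
    apply Subtype.ext
    rw [hfn, hω]
    rfl
  have h3 := Equiv.Perm.card_fixedPoints_modEq hf
  have h4 : Fintype.card (Function.fixedPoints f) = 1 := by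
    rw [Fintype.card_eq_one_iff]
    refine ⟨⟨1, Subtype.ext (map_one ω)⟩, ?_⟩
    rintro ⟨v, hv⟩
    apply Subtype.ext
    apply Subtype.ext
    have hv' : ω (v : V) = v := congrArg Subtype.val hv
    exact eq_one_of_fix h2 hω (hS v.2) hv'
  rw [h4] at h3
  rw [Nat.card_eq_fintype_card]
  exact h3

theorem exists_V2 [Finite V] (h2 : ∀ v : V, v * v = 1) {ω β₁ β₂ : MulAut V} (h12 : β₁ * β₂ = β₂ * β₁)
    (h1 : ω * β₁ = β₁ * ω) (h2' : ω * β₂ = β₂ * ω) (b1 : β₁ * β₁ = 1) (b2 : β₂ * β₂ = 1) {k : ℕ}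
    (hω : ω ^ 3 ^ k = 1) (hc : 2 ^ 10 ≤ Nat.card (kap ω).range) :
    ∃ S : Subgroup V, 16 ≤ Nat.card S ∧ (∀ v ∈ S, β₁ v = v ∧ β₂ v = v) ∧ ∀ v ∈ S, ∃ v' ∈ S, v'⁻¹ * ω v' = v := by
  have c12 : ∀ v, β₁ (β₂ v) = β₂ (β₁ v) := fun v => congrArg (fun a : MulAut V => a v) h12
  have c1 : ∀ v, ω (β₁ v) = β₁ (ω v) := fun v => congrArg (fun a : MulAut V => a v) h1
  have c2 : ∀ v, ω (β₂ v) = β₂ (ω v) := fun v => congrArg (fun a : MulAut V => a v) h2'
  have hr : ∀ {β : MulAut V}, (∀ v, ω (β v) = β (ω v)) → ∀ v ∈ (kap ω).range, β v ∈ (kap ω).range := by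
    rintro β hβ _ ⟨q, rfl⟩
    exact ⟨β q, by rw [kap_apply, kap_apply, map_mul, map_inv, hβ]⟩
  set S1 := fixIn β₁ (kap ω).range with hS1
  set S2 := fixIn β₂ S1 with hS2
  have e1 := card_le_sq h2 b1 (hr c1)
  have e2 := card_le_sq h2 b2 (S := S1) (by
    rintro v ⟨hv, hv1⟩
    exact ⟨hr c2 v hv, by rw [c12, hv1]⟩)
  rw [← hS1] at e1
  rw [← hS2] at e2
  have hle : S2 ≤ (kap ω).range := fun v hv => hv.1.1
  have hi : ∀ v ∈ S2, ω v ∈ S2 := by
    rintro v ⟨⟨⟨q, hq⟩, hv1⟩, hv2⟩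
    refine ⟨⟨⟨ω q, ?_⟩, ?_⟩, ?_⟩
    · rw [kap_apply, ← hq, kap_apply, map_mul, map_inv]
    · rw [← c1, hv1]
    · rw [← c2, hv2]
  have hm := card_mod_three h2 hω hle hi
  have hp : IsPGroup 2 S2 := fun v => ⟨1, Subtype.ext (by
    change (v : V) ^ 2 ^ 1 = 1
    rw [pow_one, pow_two, h2])⟩
  haveI : Fact (Nat.Prime 2) := ⟨Nat.prime_two⟩
  obtain ⟨m, hm2⟩ := IsPGroup.iff_card.1 hp
  refine ⟨S2, ?_, fun v hv => ⟨hv.1.2, hv.2⟩, ?_⟩
  · have h3 : 2 ^ 10 ≤ (Nat.card S2 ^ 2) ^ 2 := hc.trans (e1.trans (Nat.pow_le_pow_left e2 2))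
    rw [hm2] at h3 hm ⊢
    by_contra hcon
    have hm4 : m < 4 := by
      by_contra h
      exact hcon (by
        calc 16 = 2 ^ 4 := by norm_num
          _ ≤ 2 ^ m := Nat.pow_le_pow_right (by norm_num) (by omega))
    interval_cases m <;> simp_all
  · let f : S2 →* S2 :=
      { toFun := fun v => ⟨kap ω v, mul_mem (inv_mem v.2) (hi v v.2)⟩
        map_one' := Subtype.ext (map_one _)
        map_mul' := fun a b => Subtype.ext (map_mul _ _ _) }
    have hf : Function.Injective f := by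
      rw [injective_iff_map_eq_one]
      intro v hv
      have h3 : kap ω (v : V) = 1 := congrArg Subtype.val hv
      rw [kap_apply, inv_mul_eq_one] at h3
      exact Subtype.ext (eq_one_of_fix h2 hω (hle v.2) h3.symm)
    have hs := Finite.surjective_of_injective hf
    intro v hv
    obtain ⟨v', hv'⟩ := hs ⟨v, hv⟩
    exact ⟨v', v'.2, congrArg Subtype.val hv'⟩

end Two

section Three

open Cfsg.Agent.OddHalf.NI.Ex Cfsg.Agent.Co2Type.Quad

/-- the automorphism of an invariant subgroup -/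
def restr {X : Type*} [Group X] (Q : Subgroup X) (β : MulAut X) (h : ∀ q ∈ Q, β q ∈ Q) (h' : ∀ q ∈ Q, β⁻¹ q ∈ Q) :
    MulAut Q where
  toFun q := ⟨β q, h q q.2⟩
  invFun q := ⟨β⁻¹ q, h' q q.2⟩
  left_inv q := Subtype.ext (β.symm_apply_apply q)
  right_inv q := Subtype.ext (β.apply_symm_apply q)
  map_mul' a b := Subtype.ext (map_mul β _ _)

variable {X : Type*} [Group X]

theorem restr_apply {Q : Subgroup X} {β : MulAut X} {h : ∀ q ∈ Q, β q ∈ Q} {h' : ∀ q ∈ Q, β⁻¹ q ∈ Q} (q : Q) :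
    ((restr Q β h h' q : Q) : X) = β q := rfl

theorem comm_bar {Q : Subgroup X} {β γ : MulAut X} (hc : ∀ x, β (γ x) = γ (β x)) {h1 : ∀ q ∈ Q, β q ∈ Q}
    {h1' : ∀ q ∈ Q, β⁻¹ q ∈ Q} {h2 : ∀ q ∈ Q, γ q ∈ Q} {h2' : ∀ q ∈ Q, γ⁻¹ q ∈ Q} :
    bar (restr Q β h1 h1') * bar (restr Q γ h2 h2') = bar (restr Q γ h2 h2') * bar (restr Q β h1 h1') := by
  rw [← bar_mul, ← bar_mul]
  congr 1
  ext q
  exact hc q

/-- The quotient of a large extraspecial group by its centre is abelian. -/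
theorem quo_comm {Q : Subgroup X} {z : X} (hL : Large Q z) (a' b' : ↥Q ⧸ center ↥Q) : a' * b' = b' * a' := by
  obtain ⟨a, rfl⟩ := QuotientGroup.mk_surjective a'
  obtain ⟨b, rfl⟩ := QuotientGroup.mk_surjective b'
  rw [← QuotientGroup.mk_mul, ← QuotientGroup.mk_mul, QuotientGroup.eq, hL.mem_center]
  rcases hL.comm a a.2 b b.2 with h | h
  · left
    change ((a : X) * b)⁻¹ * (b * a) = 1
    rw [h, inv_mul_cancel]
  · right
    change ((a : X) * b)⁻¹ * (b * a) = z
    have h1 : (b : X) * a * z = z * (b * a) := hL.comm_z _ (mul_mem b.2 a.2)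
    rw [h, mul_inv_rev, hL.z_inv, mul_assoc, inv_mul_cancel, mul_one]

theorem quo_sq {Q : Subgroup X} {z : X} (hL : Large Q z) (a : ↥Q ⧸ center ↥Q) : a * a = 1 := by
  obtain ⟨a, rfl⟩ := QuotientGroup.mk_surjective a
  rw [← QuotientGroup.mk_mul, QuotientGroup.eq_one_iff, hL.mem_center]
  exact hL.sq a a.2

/-- Lifting: a fixed element `v = v'⁻¹ ω(v')` of `Q / ⟨z⟩` has a fixed lift. -/
theorem lift_fix {Q : Subgroup X} {z : X} (hL : Large Q z) {β : MulAut X} {h1 : ∀ q ∈ Q, β q ∈ Q}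
    {h1' : ∀ q ∈ Q, β⁻¹ q ∈ Q} {w : X} (wz : w * z = z * w) (βw : β w = w) {x : Q}
    (hx : bar (restr Q β h1 h1') (x : ↥Q ⧸ center ↥Q) = x) :
    β ((x : X)⁻¹ * (w * x * w⁻¹)) = (x : X)⁻¹ * (w * x * w⁻¹) := by
  rw [bar_mk, eq_comm, QuotientGroup.eq, hL.mem_center] at hx
  have hx' : (x : X)⁻¹ * β x = 1 ∨ (x : X)⁻¹ * β x = z := hx
  rw [map_mul, map_inv, map_mul, map_mul, map_inv, βw]
  rcases hx' with h | h
  · rw [inv_mul_eq_one] at h
    rw [← h]
  · have h2 : β x = x * z := by rw [← h, mul_inv_cancel_left]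
    have h3 : w * (x * z) * w⁻¹ = (w * x * w⁻¹) * z := by
      have : z * w⁻¹ = w⁻¹ * z := by
        rw [eq_inv_mul_iff_mul_eq, ← mul_assoc, wz, mul_inv_cancel_right]
      rw [mul_assoc, mul_assoc (x : X) z, this]
      group
    have h4 : z * (x : X)⁻¹ = (x : X)⁻¹ * z := (hL.comm_z _ (inv_mem x.2)).symm
    rw [h2, h3, mul_inv_rev, hL.z_inv, h4]
    have hzz := hL.z_sq
    have h5 : (x : X)⁻¹ * z * (w * x * w⁻¹ * z) = (x : X)⁻¹ * (z * (w * x * w⁻¹) * z) := by group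
    have h6 : w * x * w⁻¹ * z = z * (w * x * w⁻¹) := by
      have h7 : w * x * w⁻¹ ∈ Q := hL.conj_mem w wz x x.2
      exact hL.comm_z _ h7
    rw [h5, mul_assoc z, h6, ← mul_assoc z z, hzz, one_mul]

/-- the condition on the elements of order 3 -/
def Big (Q : Subgroup X) (z w : X) : Prop :=
  ∃ A : Subgroup X, A ≤ Q ∧ z ∈ A ∧ 2 ^ 11 ≤ Nat.card A ∧
    ∀ a ∈ A, ∃ q ∈ Q, a = q⁻¹ * (w * q * w⁻¹) ∨ a = q⁻¹ * (w * q * w⁻¹) * z

theorem main [Finite X] {Q : Subgroup X} {z : X} (hL : Large Q z)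
    (hQ : ∀ β : MulAut X, β z = z → ∀ q ∈ Q, β q ∈ Q)
    (hbig : ∀ w : X, w * z = z * w → (∃ k : ℕ, w ^ 3 ^ k = 1) → w ≠ 1 → Big Q z w)
    {α : MulAut X} (hα : α * α = 1) (αz : α z = z) {j : X} (jj : j * j = 1) (αj : α j = j) (jz : j * z = z * j)
    {F : Subgroup X} (hF : ∀ x, x ∈ F ↔ α x = x ∧ x * j = j * x) (hz : ∀ x ∈ (pCore 2 ↥F), (x : X) * z = z * x)
    {P : Subgroup ↥F} (hP : P.IsSubnormal) {T : Subgroup ↥F} (hTP : T ≤ P) (hT2 : IsPGroup 2 T)
    (hTn : ∀ p ∈ P, ∀ t ∈ T, p * t * p⁻¹ ∈ T) {y : ↥F} (hy : y ∈ P)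
    (hy3 : ∃ k : ℕ, y ^ 3 ^ k = 1) (hyT : ∃ t ∈ T, y * t ≠ t * y)
    (hc : ∀ c ∈ P, (∀ t ∈ T, c * t = t * c) → ∀ p ∈ P, c * p = p * c) {m : ℕ} (hm : Odd m)
    (hcard : Nat.card P ∣ 2 ^ 3 * m) : False := by
  have hzF : z ∈ F := (hF z).2 ⟨αz, jz.symm⟩
  obtain ⟨w, hw, ⟨k, hk⟩, hw1, hwu⟩ := exists_three (u := (⟨z, hzF⟩ : F)) (Subtype.ext hL.z_sq)
    (fun x hx => Subtype.ext (hz x hx)) hP hTP hT2 hTn hy hy3 hyT hc
  have wz : (w : X) * z = z * w := congrArg Subtype.val hwu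
  have αw : α (w : X) = w := ((hF _).1 w.2).1
  have wj : (w : X) * j = j * w := ((hF _).1 w.2).2
  have hk' : (w : X) ^ 3 ^ k = 1 := congrArg Subtype.val hk
  have hw1' : (w : X) ≠ 1 := fun h => hw1 (Subtype.ext h)
  obtain ⟨A, hAQ, hzA, hAc, hA⟩ := hbig w wz ⟨k, hk'⟩ hw1'
  let ω' : MulAut X := MulAut.conj (w : X)
  let β' : MulAut X := MulAut.conj j
  have ωz : ω' z = z := by
    change (w : X) * z * (w : X)⁻¹ = z
    rw [wz, mul_inv_cancel_right]
  have βz : β' z = z := by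
    change j * z * j⁻¹ = z
    rw [jz, mul_inv_cancel_right]
  have hi : ∀ {γ : MulAut X}, γ z = z → ∀ q ∈ Q, γ⁻¹ q ∈ Q := fun {γ} h => hQ γ⁻¹ (by
    have := congrArg (γ⁻¹ : MulAut X) h
    rw [← MulAut.mul_apply, inv_mul_cancel, MulAut.one_apply] at this
    exact this.symm)
  let ω := bar (restr Q ω' (hQ _ ωz) (hi ωz))
  let β₁ := bar (restr Q α (hQ _ αz) (hi αz))
  let β₂ := bar (restr Q β' (hQ _ βz) (hi βz))
  letI : CommGroup (↥Q ⧸ center ↥Q) :=
    { (inferInstance : Group (↥Q ⧸ center ↥Q)) with mul_comm := quo_comm hL }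
  have hω : ω ^ 3 ^ k = 1 := by
    have hpow : ∀ (n : ℕ) (q : Q), ∃ h : (w : X) ^ n * q * ((w : X) ^ n)⁻¹ ∈ Q,
        (ω ^ n) (q : ↥Q ⧸ center ↥Q) = ((⟨_, h⟩ : Q) : ↥Q ⧸ center ↥Q) := by
      intro n
      induction n with
      | zero =>
        intro q
        have h0 : (w : X) ^ 0 * q * ((w : X) ^ 0)⁻¹ = q := by simp
        refine ⟨by rw [h0]; exact q.2, ?_⟩
        rw [pow_zero, MulAut.one_apply]
        congr 1
        exact Subtype.ext h0.symm
      | succ n ih =>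
        intro q
        obtain ⟨h, e⟩ := ih q
        have h1 : (w : X) ^ (n + 1) * q * ((w : X) ^ (n + 1))⁻¹ =
            w * ((w : X) ^ n * q * ((w : X) ^ n)⁻¹) * (w : X)⁻¹ := by
          rw [pow_succ', mul_inv_rev]; group
        refine ⟨by rw [h1]; exact hL.conj_mem _ wz _ h, ?_⟩
        rw [pow_succ', MulAut.mul_apply, e]
        change ((restr Q ω' _ _ _ : Q) : ↥Q ⧸ center ↥Q) = _
        congr 1
        exact Subtype.ext h1.symm
    ext v
    obtain ⟨q, rfl⟩ := QuotientGroup.mk_surjective v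
    obtain ⟨h, e⟩ := hpow (3 ^ k) q
    rw [MulAut.one_apply]
    refine e.trans ?_
    congr 1
    apply Subtype.ext
    change (w : X) ^ 3 ^ k * q * ((w : X) ^ 3 ^ k)⁻¹ = q
    rw [hk', one_mul, inv_one, mul_one]
  have hrange : 2 ^ 10 ≤ Nat.card (kap ω).range := by
    let f : ↥(A.subgroupOf Q) →* ↥Q ⧸ center ↥Q := (QuotientGroup.mk' (center ↥Q)).comp (A.subgroupOf Q).subtype
    have h3 := card_eq_card_quotient_mul_card_subgroup f.ker
    rw [Nat.card_congr (QuotientGroup.quotientKerEquivRange f).toEquiv,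
      Nat.card_congr (subgroupOfEquivOfLe hAQ).toEquiv] at h3
    have h4 : Nat.card f.range ≤ Nat.card (kap ω).range := by
      refine card_le_of_le ?_
      rintro _ ⟨a, rfl⟩
      obtain ⟨q, hq, h⟩ := hA a.1 a.2
      refine ⟨((⟨q, hq⟩ : Q) : ↥Q ⧸ center ↥Q), ?_⟩
      rw [kap_apply]
      have h5 : ω ((⟨q, hq⟩ : Q) : ↥Q ⧸ center ↥Q) =
          ((⟨(w : X) * q * (w : X)⁻¹, hL.conj_mem _ wz _ hq⟩ : Q) : ↥Q ⧸ center ↥Q) := rfl
      rw [h5]
      change (((⟨q, hq⟩ : Q)⁻¹ * ⟨(w : X) * q * (w : X)⁻¹, hL.conj_mem _ wz _ hq⟩ : Q) : ↥Q ⧸ center ↥Q) =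
        ((a : Q) : ↥Q ⧸ center ↥Q)
      rw [QuotientGroup.eq, hL.mem_center]
      change (q⁻¹ * ((w : X) * q * (w : X)⁻¹))⁻¹ * a = 1 ∨ (q⁻¹ * ((w : X) * q * (w : X)⁻¹))⁻¹ * a = z
      rcases h with h | h
      · left; rw [h, inv_mul_cancel]
      · right; rw [h, inv_mul_cancel_left]
    have h5 : Nat.card f.ker ≤ 2 := by
      classical
      have h6 : ∀ a : f.ker, (((a : A.subgroupOf Q) : Q) : X) = 1 ∨ (((a : A.subgroupOf Q) : Q) : X) = z := by
        intro a
        have h7 : (((a : A.subgroupOf Q) : Q) : ↥Q ⧸ center ↥Q) = 1 := MonoidHom.mem_ker.1 a.2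
        rw [QuotientGroup.eq_one_iff, hL.mem_center] at h7
        exact h7
      have h8 : Nat.card f.ker ≤ Nat.card (({1, z} : Finset X) : Type _) := by
        refine Nat.card_le_card_of_injective (fun a => (⟨(((a : A.subgroupOf Q) : Q) : X), by
          rw [Finset.mem_insert, Finset.mem_singleton]; exact h6 a⟩ : (({1, z} : Finset X) : Type _))) ?_
        intro a b h
        have h9 : (((a : A.subgroupOf Q) : Q) : X) = (((b : A.subgroupOf Q) : Q) : X) :=
          congrArg (fun x : (({1, z} : Finset X) : Type _) => (x : X)) h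
        exact Subtype.ext (Subtype.ext (Subtype.ext h9))
      refine h8.trans ?_
      rw [Nat.card_eq_fintype_card, Fintype.card_coe]
      exact Finset.card_le_two
    have h6 : Nat.card f.range * Nat.card f.ker ≤ Nat.card (kap ω).range * 2 := Nat.mul_le_mul h4 h5
    rw [← h3] at h6
    have h7 : (2 : ℕ) ^ 11 = 2 ^ 10 * 2 := by norm_num
    omega
  have cc : ∀ x, α (j * x * j⁻¹) = j * α x * j⁻¹ := fun x => by rw [map_mul, map_mul, map_inv, αj]
  have cw : ∀ x, α ((w : X) * x * (w : X)⁻¹) = (w : X) * α x * (w : X)⁻¹ := fun x => by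
    rw [map_mul, map_mul, map_inv, αw]
  obtain ⟨S, hS16, hSf, hSk⟩ := exists_V2 (quo_sq hL) (ω := ω) (β₁ := β₁) (β₂ := β₂) (comm_bar cc)
    (comm_bar fun x => (cw x).symm) (comm_bar fun x => by
      change (w : X) * (j * x * j⁻¹) * (w : X)⁻¹ = j * ((w : X) * x * (w : X)⁻¹) * j⁻¹
      have h1 : (w : X) * (j * x * j⁻¹) * (w : X)⁻¹ = ((w : X) * j) * x * ((w : X) * j)⁻¹ := by group
      rw [h1, wj]; group)
    (by
      rw [← bar_mul, ← bar_one]
      congr 1
      ext q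
      change α (α q) = q
      rw [← MulAut.mul_apply, hα, MulAut.one_apply])
    (by
      rw [← bar_mul, ← bar_one]
      congr 1
      ext q
      change j * (j * q * j⁻¹) * j⁻¹ = q
      have h1 : j * (j * (q : X) * j⁻¹) * j⁻¹ = (j * j) * q * (j * j)⁻¹ := by group
      rw [h1, jj]; group)
    hω hrange
  -- iterated images
  let κ : ↥F → ↥F := fun x => x⁻¹ * (w * x * w⁻¹)
  let κV : ↥Q ⧸ center ↥Q → ↥Q ⧸ center ↥Q := fun v => v⁻¹ * ω v
  have hn3 : (pCore 3 ↥F).Normal := pCore_normal 3 ↥F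
  obtain ⟨n, hn⟩ := iter_mem (Lib.SubnormalJoin.isSubnormal_sup hP (Normal.isSubnormal hn3)) hw
  have hit : ∀ n : ℕ, ∀ v ∈ S, ∃ v' ∈ S, κV^[n] v' = v := by
    intro n
    induction n with
    | zero => exact fun v hv => ⟨v, hv, rfl⟩
    | succ n ih =>
      intro v hv
      obtain ⟨v1, h1, e1⟩ := ih v hv
      obtain ⟨v2, h2, e2⟩ := hSk v1 h1
      refine ⟨v2, h2, ?_⟩
      rw [Function.iterate_succ_apply]
      change κV^[n] (v2⁻¹ * ω v2) = v
      rw [e2, e1]
  have hlift : ∀ v ∈ S, ∃ x : ↥F, ∃ hx : (x : X) ∈ Q, (((⟨x, hx⟩ : Q)) : ↥Q ⧸ center ↥Q) = v := by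
    intro v hv
    obtain ⟨v', hv', e⟩ := hSk v hv
    obtain ⟨x', rfl⟩ := QuotientGroup.mk_surjective v'
    have hQx : (x' : X)⁻¹ * ((w : X) * x' * (w : X)⁻¹) ∈ Q := mul_mem (inv_mem x'.2) (hL.conj_mem _ wz _ x'.2)
    have hα1 : α ((x' : X)⁻¹ * ((w : X) * x' * (w : X)⁻¹)) = (x' : X)⁻¹ * ((w : X) * x' * (w : X)⁻¹) :=
      lift_fix hL wz αw (hSf _ hv').1
    have hj1 : β' ((x' : X)⁻¹ * ((w : X) * x' * (w : X)⁻¹)) = (x' : X)⁻¹ * ((w : X) * x' * (w : X)⁻¹) := by
      refine lift_fix hL wz ?_ (hSf _ hv').2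
      change j * (w : X) * j⁻¹ = w
      rw [← wj, mul_inv_cancel_right]
    refine ⟨⟨(x' : X)⁻¹ * ((w : X) * x' * (w : X)⁻¹), (hF _).2 ⟨hα1, (mul_inv_eq_iff_eq_mul.1 hj1).symm⟩⟩,
      hQx, ?_⟩
    rw [← e]
    rfl
  have hitF : ∀ n : ℕ, ∀ x : ↥F, ∀ hx : (x : X) ∈ Q, ∃ hx' : ((κ^[n] x : ↥F) : X) ∈ Q,
      (((⟨_, hx'⟩ : Q)) : ↥Q ⧸ center ↥Q) = κV^[n] (((⟨x, hx⟩ : Q)) : ↥Q ⧸ center ↥Q) := by
    intro n
    induction n with
    | zero => exact fun x hx => ⟨hx, rfl⟩
    | succ n ih =>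
      intro x hx
      obtain ⟨h1, e1⟩ := ih x hx
      have hval : ((κ^[n + 1] x : ↥F) : X) = ((κ^[n] x : ↥F) : X)⁻¹ * ((w : X) * ((κ^[n] x : ↥F) : X) * (w : X)⁻¹) := by
        rw [Function.iterate_succ_apply']
        rfl
      have hQx : ((κ^[n + 1] x : ↥F) : X) ∈ Q := by
        rw [hval]
        exact mul_mem (inv_mem h1) (hL.conj_mem _ wz _ h1)
      refine ⟨hQx, ?_⟩
      have e3 := Function.iterate_succ_apply' κV n (((⟨x, hx⟩ : Q)) : ↥Q ⧸ center ↥Q)
      rw [e3, ← e1]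
      change _ = ((⟨_, h1⟩ : Q) : ↥Q ⧸ center ↥Q)⁻¹ * ω ((⟨_, h1⟩ : Q) : ↥Q ⧸ center ↥Q)
      have h5 : ω ((⟨_, h1⟩ : Q) : ↥Q ⧸ center ↥Q) =
          ((⟨(w : X) * ((κ^[n] x : ↥F) : X) * (w : X)⁻¹, hL.conj_mem _ wz _ h1⟩ : Q) : ↥Q ⧸ center ↥Q) := rfl
      rw [h5, ← QuotientGroup.mk_inv, ← QuotientGroup.mk_mul]
      congr 1
      exact Subtype.ext hval
  -- the intersection with `Q`
  set E : Subgroup ↥F := Q.subgroupOf F ⊓ (P ⊔ pCore 3 ↥F) with hE
  have hE2 : IsPGroup 2 E := by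
    have h0 : IsPGroup 2 Q := by
      intro q
      refine ⟨2, Subtype.ext ?_⟩
      change (q : X) ^ 2 ^ 2 = 1
      have h4 : (q : X) ^ 2 ^ 2 = ((q : X) * q) * ((q : X) * q) := by
        rw [show (2 : ℕ) ^ 2 = 2 + 2 from rfl, pow_add, pow_two]
      rw [h4]
      rcases hL.sq q q.2 with h | h
      · rw [h, one_mul]
      · rw [h, hL.z_sq]
    have h1 : IsPGroup 2 (Q.subgroupOf F) := h0.comap_of_injective _ F.subtype_injective
    exact h1.to_le inf_le_left
  have hE8 : Nat.card E ∣ 2 ^ 3 := card_le_of_sup inf_le_right hE2 hm hcard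
  have hE8' : Nat.card E ≤ 8 := Nat.le_of_dvd (by norm_num) hE8
  have hex : ∀ v : S, ∃ e : E, ∃ hx : (((e : ↥F)) : X) ∈ Q, (((⟨_, hx⟩ : Q)) : ↥Q ⧸ center ↥Q) = v := by
    intro v
    obtain ⟨v', hv', e⟩ := hit n v v.2
    obtain ⟨x, hx, ex⟩ := hlift v' hv'
    obtain ⟨h1, e1⟩ := hitF n x hx
    refine ⟨⟨κ^[n] x, h1, hn x⟩, h1, ?_⟩
    rw [e1, ex, e]
  choose g hg hgv using hex
  have hinj : Function.Injective g := by
    intro v v' h
    apply Subtype.ext
    rw [← hgv v, ← hgv v']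
    congr 1
    apply Subtype.ext
    exact congrArg (fun e : E => ((e : ↥F) : X)) h
  have hSE := Nat.card_le_card_of_injective g hinj
  omega

end Three

end Cfsg.Agent.OddHalf.NI3.Ex.LongFix

end

-- merged: Cfsg.Agent.OddHalf.NI3.Ex.LongW
section

/-!
# (EX3): a weak form of "long `SL₂(3)`" which lifts through central subgroups of odd order
(helper88)
-/

set_option autoImplicit false
set_option linter.style.haveILetI false

namespace Cfsg.Agent.OddHalf.NI3.Ex.LongW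

open Subgroup Cfsg Cfsg.Agent.OddHalf.LongSL Cfsg.Agent.OddHalf.LieOddFam Cfsg.Agent.OddHalf.NI.OddQ
open Cfsg.Agent.OddHalf.NI.FrameKill

universe u

/-- a subgroup like `SL₂(3)` which is subnormal in the centralizer of an involution -/
def WLong (K : Type*) [Group K] : Prop :=
  ∃ (j : K) (P T : Subgroup K) (y : K) (m : ℕ), orderOf j = 2 ∧ P ≤ centralizer ({j} : Set K) ∧
    (P.subgroupOf (centralizer ({j} : Set K))).IsSubnormal ∧ T ≤ P ∧ IsPGroup 2 T ∧
    (∀ p ∈ P, ∀ t ∈ T, p * t * p⁻¹ ∈ T) ∧ y ∈ P ∧ (∃ k : ℕ, y ^ 3 ^ k = 1) ∧ (∃ t ∈ T, y * t ≠ t * y) ∧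
    (∀ c ∈ P, (∀ t ∈ T, c * t = t * c) → c ∈ T ∧ ∀ p ∈ P, c * p = p * c) ∧ Odd m ∧ Nat.card P ∣ 2 ^ 3 * m

/-- the same with a weaker condition on the centralizer of `T` -/
def WLong' (K : Type*) [Group K] : Prop :=
  ∃ (j : K) (P T : Subgroup K) (y : K) (m : ℕ), orderOf j = 2 ∧ P ≤ centralizer ({j} : Set K) ∧
    (P.subgroupOf (centralizer ({j} : Set K))).IsSubnormal ∧ T ≤ P ∧ IsPGroup 2 T ∧
    (∀ p ∈ P, ∀ t ∈ T, p * t * p⁻¹ ∈ T) ∧ y ∈ P ∧ (∃ k : ℕ, y ^ 3 ^ k = 1) ∧ (∃ t ∈ T, y * t ≠ t * y) ∧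
    (∀ c ∈ P, (∀ t ∈ T, c * t = t * c) → ∀ p ∈ P, c * p = p * c) ∧ Odd m ∧ Nat.card P ∣ 2 ^ 3 * m

/-! ### `SL₂(3)` -/

section Tet

open Cfsg.Agent.LFourR.QThreeSL

variable {K : Type*} [Group K] {i j x : K}

/-- the quaternion subgroup -/
def quat (h : Tet i j x) : Subgroup K where
  carrier := {g | g ^ 4 = 1}
  mul_mem' := fun {a b} ha hb => h.mul4 a b ha hb
  one_mem' := one_pow 4
  inv_mem' := fun {a} ha => by
    change a⁻¹ ^ 4 = 1
    rw [inv_pow, show a ^ 4 = 1 from ha, inv_one]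

theorem mem_quat (h : Tet i j x) {g : K} : g ∈ quat h ↔ g ^ 4 = 1 := Iff.rfl

theorem quat_normal (h : Tet i j x) : (quat h).Normal := by
  refine ⟨fun n hn g => ?_⟩
  rw [mem_quat] at hn ⊢
  rw [conj_pow, hn, mul_one, mul_inv_cancel]

theorem i_mem (h : Tet i j x) : i ∈ quat h := by
  rw [mem_quat]
  have := h.i4
  calc i ^ 4 = i * i * (i * i) := by rw [← pow_two, ← pow_two, ← pow_mul]
    _ = 1 := this

theorem j_mem (h : Tet i j x) : j ∈ quat h := by
  have h1 := (quat_normal h).conj_mem _ (i_mem h) x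
  rwa [h.xi] at h1

theorem card_quat [Finite K] (h : Tet i j x) : Nat.card (quat h) ∣ 2 ^ 3 := by
  haveI : Fact (Nat.Prime 2) := ⟨Nat.prime_two⟩
  have h1 : IsPGroup 2 (quat h) := fun g => ⟨2, Subtype.ext (by
    change (g : K) ^ 2 ^ 2 = 1
    exact g.2)⟩
  obtain ⟨n, hn⟩ := IsPGroup.iff_card.1 h1
  have h2 : Nat.card (quat h) ≤ 8 := by
    let f : Fin 4 × Fin 2 → K := fun p => i ^ (p.1 : ℕ) * j ^ (p.2 : ℕ)
    have h3 : (quat h : Set K) ⊆ Set.range f := by
      intro g hg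
      obtain ⟨a, b, hab⟩ := h.sq4 g hg
      exact ⟨(a, b), hab.symm⟩
    calc Nat.card (quat h) ≤ Nat.card (Set.range f) := Nat.card_mono (Set.finite_range f) h3
      _ ≤ Nat.card (Fin 4 × Fin 2) := Finite.card_range_le f
      _ = 8 := by simp
  rw [hn] at h2 ⊢
  refine Nat.pow_dvd_pow 2 ?_
  by_contra hcon
  have : 2 ^ 4 ≤ 2 ^ n := Nat.pow_le_pow_right (by norm_num) (by omega)
  omega

theorem card_tet [Finite K] (h : Tet i j x) : Nat.card K ∣ 2 ^ 3 * 3 := by
  have hn := quat_normal h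
  have h1 := card_eq_card_quotient_mul_card_subgroup (quat h)
  rw [h1, mul_comm]
  refine Nat.mul_dvd_mul (card_quat h) ?_
  -- the quotient is generated by `x`
  set xb : K ⧸ quat h := (x : K ⧸ quat h) with hxb
  have h2 : zpowers xb = ⊤ := by
    rw [eq_top_iff]
    intro g _
    obtain ⟨g, rfl⟩ := QuotientGroup.mk_surjective g
    obtain ⟨a, b, c, rfl⟩ := h.gen g
    refine ⟨(c : ℕ), ?_⟩
    change xb ^ ((c : ℕ) : ℤ) = _
    rw [zpow_natCast, hxb, ← QuotientGroup.mk_pow, QuotientGroup.mk_mul]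
    have h3 : ((i ^ (a : ℕ) * j ^ (b : ℕ) : K) : K ⧸ quat h) = 1 := by
      rw [QuotientGroup.eq_one_iff]
      exact mul_mem (pow_mem (i_mem h) _) (pow_mem (j_mem h) _)
    rw [h3, one_mul]
  have h3 : Nat.card (K ⧸ quat h) = orderOf xb := by
    rw [← Nat.card_zpowers, h2, Subgroup.card_top]
  rw [h3]
  refine orderOf_dvd_of_pow_eq_one ?_
  rw [hxb, ← QuotientGroup.mk_pow, h.x3, QuotientGroup.mk_one]

end Tet

theorem of_hasLong {K : Type*} [Group K] [Finite K] (h : HasLong 3 K) : WLong K := by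
  obtain ⟨j, J, hj1, hj2, hj3, hj4, F, i1, i2, hF, -, ⟨e⟩⟩ := h
  obtain ⟨a, b, x, ht⟩ := LFourR.QThreeSL.exists_tet hF e
  have hn := quat_normal ht
  refine ⟨j, J, (quat ht).map J.subtype, x, 3, hj1, hj3, hj4, ?_, ?_, ?_, x.2, ⟨1, ?_⟩, ⟨a, ?_, ?_⟩, ?_, by decide,
    card_tet ht⟩
  · rintro _ ⟨y, -, rfl⟩
    exact y.2
  · have h1 : IsPGroup 2 (quat ht) := fun g => ⟨2, Subtype.ext (by
      change (g : ↥J) ^ 2 ^ 2 = 1
      exact g.2)⟩
    exact h1.map _
  · rintro p hp _ ⟨t, ht', rfl⟩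
    exact ⟨⟨p, hp⟩ * t * ⟨p, hp⟩⁻¹, hn.conj_mem t ht' ⟨p, hp⟩, rfl⟩
  · rw [pow_one]
    exact congrArg Subtype.val ht.x3
  · exact ⟨a, i_mem ht, rfl⟩
  · intro heq
    have h1 : x * a = a * x := Subtype.ext heq
    have h2 := ht.xi
    rw [h1, mul_inv_cancel_right] at h2
    have h3 := ht.xj
    rw [← h2, h1, mul_inv_cancel_right] at h3
    have h4 : a = 1 := by
      rw [left_eq_mul] at h3
      exact h3
    apply ht.ne
    rw [h4, one_mul]
  · intro c hc hct
    have h1 := ht.cen ⟨c, hc⟩ (Subtype.ext (hct a ⟨a, i_mem ht, rfl⟩)) (Subtype.ext (hct b ⟨b, j_mem ht, rfl⟩))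
    have h2 : ∀ p : ↥J, p * (a * a) = a * a * p := by
      intro p
      obtain ⟨k, l, n, rfl⟩ := ht.gen p
      have ha : Commute a (a * a) := (Commute.refl a).mul_right (Commute.refl a)
      have hb : Commute b (a * a) := by
        rw [← ht.jj]
        exact (Commute.refl b).mul_right (Commute.refl b)
      have hx : Commute x (a * a) := by
        have h3 : x * (a * a) * x⁻¹ = b * b := by
          rw [← ht.xi]; group
        rw [ht.jj] at h3
        exact mul_inv_eq_iff_eq_mul.1 h3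
      exact ((ha.pow_left _).mul_left (hb.pow_left _)).mul_left (hx.pow_left _)
    rcases h1 with h1 | h1
    · have h3 : c = 1 := congrArg Subtype.val h1
      rw [h3]
      exact ⟨one_mem _, fun p _ => by rw [one_mul, mul_one]⟩
    · have h3 : c = (a : K) * a := congrArg Subtype.val h1
      refine ⟨?_, fun p hp => ?_⟩
      · rw [h3]
        exact ⟨a * a, mul_mem (i_mem ht) (i_mem ht), rfl⟩
      · rw [h3]
        exact (congrArg Subtype.val (h2 ⟨p, hp⟩)).symm

/-! ### lifting -/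

theorem lift {K X : Type*} [Group K] [Finite K] [Group X] {π : K →* X} (hπ : COdd π) (h : WLong X) : WLong' K := by
  haveI : Finite X := Finite.of_surjective π hπ.surj
  haveI : Fact (Nat.Prime 2) := ⟨Nat.prime_two⟩
  obtain ⟨j, P, T, y, m, hj, hPj, hPs, hTP, hT2, hTn, hy, ⟨k, hk⟩, ⟨t, ht, hyt⟩, hc, hm, hcard⟩ := h
  have hjj : j * j = 1 := by rw [← pow_two, ← hj, pow_orderOf_eq_one]
  have hker : ∀ x : K, π x = 1 → x ^ Nat.card π.ker = 1 := by
    intro x hx
    have := pow_card_eq_one' (G := π.ker) (x := ⟨x, hx⟩)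
    exact congrArg Subtype.val this
  have hcen : ∀ x : K, π x = 1 → ∀ y : K, y * x = x * y := fun x hx y => mem_center_iff.1 (hπ.cen hx) y
  obtain ⟨n, hn⟩ := hπ.odd
  -- the involution
  obtain ⟨x0, hx0⟩ := hπ.surj j
  set x : K := x0 ^ Nat.card π.ker with hx
  have hπx : π x = j := by
    rw [hx, map_pow, hx0, hn, pow_succ, pow_mul, pow_two, hjj, one_pow, one_mul]
  have hxx : x * x = 1 := by
    rw [← pow_two, hx, ← pow_mul, mul_comm, pow_mul]
    apply hker
    rw [map_pow, hx0, pow_two, hjj]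
  have hx1 : x ≠ 1 := by
    intro h1
    rw [h1, map_one] at hπx
    rw [← hπx, orderOf_one] at hj
    omega
  have hcx : ∀ g : K, π g * j = j * π g → g * x = x * g := by
    intro g hg
    rw [← hπx] at hg
    exact (hπ.comm_iff hxx).1 hg
  have hPc : ∀ p ∈ P, p * j = j * p := fun p hp => mem_centralizer_singleton_iff.1 (hPj hp)
  -- the preimages
  set P' : Subgroup K := P.comap π with hP'
  set N : Subgroup K := T.comap π with hN
  have hkN : π.ker ≤ N := fun a ha => by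
    change π a ∈ T
    rw [show π a = 1 from ha]
    exact one_mem _
  set A : Subgroup N := π.ker.subgroupOf N with hA
  have hAn : A.Normal := inferInstance
  have hAc : Nat.card A = Nat.card π.ker := Nat.card_congr (subgroupOfEquivOfLe hkN).toEquiv
  have hidx : Nat.card (N ⧸ A) = Nat.card T := by
    let f : N →* T := (π.comp N.subtype).codRestrict T fun x => x.2
    have hf : Function.Surjective f := by
      rintro ⟨t, ht⟩
      obtain ⟨s, hs⟩ := hπ.surj t
      exact ⟨⟨s, by change π s ∈ T; rw [hs]; exact ht⟩, Subtype.ext hs⟩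
    have hk : f.ker = A := by
      ext a
      rw [MonoidHom.mem_ker, hA, mem_subgroupOf, MonoidHom.mem_ker]
      exact ⟨fun h => congrArg Subtype.val h, fun h => Subtype.ext h⟩
    exact Nat.card_congr ((QuotientGroup.quotientMulEquivOfEq hk.symm).trans
      (QuotientGroup.quotientKerEquivOfSurjective f hf)).toEquiv
  obtain ⟨tn, htn⟩ := IsPGroup.iff_card.1 hT2
  obtain ⟨H, hH⟩ := Subgroup.exists_right_complement'_of_coprime (N := A) (by
    rw [Subgroup.index, hidx, hAc, htn]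
    exact (Nat.Coprime.pow_right _ (Nat.coprime_two_right.2 hπ.odd)))
  set T' : Subgroup K := H.map N.subtype with hT'
  have hHc : Nat.card H = Nat.card T := by
    rw [← hidx]
    have h1 := hH.card_mul_card
    have h2 := card_eq_card_quotient_mul_card_subgroup A
    rw [h2, mul_comm] at h1
    exact Nat.eq_of_mul_eq_mul_right Nat.card_pos h1
  have hH2 : IsPGroup 2 H := IsPGroup.iff_card.2 ⟨tn, by rw [hHc, htn]⟩
  have hT'2 : IsPGroup 2 T' := hH2.map _
  have hT'N : T' ≤ N := by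
    rintro _ ⟨g, -, rfl⟩
    exact g.2
  -- decomposition
  have hdec : ∀ g : K, π g ∈ T → ∃ a : K, π a = 1 ∧ ∃ h ∈ T', g = a * h := by
    intro g hg
    have h1 : (⟨g, hg⟩ : N) ∈ A ⊔ H := by rw [hH.sup_eq_top]; exact mem_top _
    rw [mem_sup_of_normal_left] at h1
    obtain ⟨a, ha, h, hh, hah⟩ := h1
    exact ⟨a, ha, h, ⟨h, hh, rfl⟩, (congrArg Subtype.val hah).symm⟩
  have htriv : ∀ g ∈ T', π g = 1 → g = 1 := by
    rintro _ ⟨h, hh, rfl⟩ h1
    have h2 : h ∈ A ⊓ H := ⟨h1, hh⟩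
    rw [hH.disjoint.eq_bot] at h2
    exact congrArg Subtype.val (mem_bot.1 h2)
  have hmem : ∀ g : K, π g ∈ T → (∃ l : ℕ, g ^ 2 ^ l = 1) → g ∈ T' := by
    rintro g hg ⟨l, hl⟩
    obtain ⟨a, ha, h, hh, rfl⟩ := hdec g hg
    have h1 : (a * h) ^ 2 ^ l = a ^ 2 ^ l * h ^ 2 ^ l := (Commute.mul_pow (hcen a ha h).symm _)
    rw [h1] at hl
    have h2 : h ^ 2 ^ l = 1 := by
      apply htriv _ (pow_mem hh _)
      have h3 : h ^ 2 ^ l = (a ^ 2 ^ l)⁻¹ := (eq_inv_of_mul_eq_one_right hl)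
      rw [h3, map_inv, map_pow, ha, one_pow, inv_one]
    rw [h2, mul_one] at hl
    have h4 : a = 1 := by
      have h5 : orderOf a = 1 := Nat.eq_one_of_dvd_coprimes (a := 2 ^ l) (b := Nat.card π.ker)
        (Nat.Coprime.pow_left _ (Nat.coprime_two_left.2 hπ.odd)) (orderOf_dvd_of_pow_eq_one hl)
        (orderOf_dvd_of_pow_eq_one (hker a ha))
      exact orderOf_eq_one_iff.1 h5
    rw [h4, one_mul]
    exact hh
  have hTT : ∀ t ∈ T, ∃ h ∈ T', π h = t := by
    intro t ht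
    obtain ⟨s, hs⟩ := hπ.surj t
    obtain ⟨a, ha, h, hh, rfl⟩ := hdec s (by rw [hs]; exact ht)
    refine ⟨h, hh, ?_⟩
    rw [← hs, map_mul, ha, one_mul]
  have hT'n : ∀ p ∈ P', ∀ t ∈ T', p * t * p⁻¹ ∈ T' := by
    intro p hp t ht
    refine hmem _ ?_ ?_
    · rw [map_mul, map_mul, map_inv]
      exact hTn _ hp _ (hT'N ht)
    · obtain ⟨l, hl⟩ := hT'2 ⟨t, ht⟩
      refine ⟨l, ?_⟩
      have hl' : t ^ 2 ^ l = 1 := congrArg Subtype.val hl
      rw [conj_pow, hl', mul_one, mul_inv_cancel]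
  -- the 3-element
  obtain ⟨y0, hy0⟩ := hπ.surj y
  obtain ⟨a, r, hr, hyo⟩ := Nat.exists_eq_pow_mul_and_not_dvd (orderOf_pos y0).ne' 3 (by norm_num)
  have hy3 : (y0 ^ r) ^ 3 ^ a = 1 := by
    rw [← pow_mul, mul_comm, ← hyo, pow_orderOf_eq_one]
  have hcr : Nat.Coprime (orderOf y) r := by
    refine Nat.Coprime.coprime_dvd_left (orderOf_dvd_of_pow_eq_one hk) ?_
    exact Nat.Coprime.pow_left _ ((Nat.Prime.coprime_iff_not_dvd Nat.prime_three).2 hr)
  obtain ⟨s, hs⟩ := exists_pow_eq_self_of_coprime hcr.symm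
  refine ⟨x, P', T', y0 ^ r, m * Nat.card π.ker, ?_, ?_, ?_, ?_, hT'2, hT'n, ?_, ⟨a, hy3⟩, ?_, ?_, hm.mul hπ.odd, ?_⟩
  · exact orderOf_eq_prime (by rw [pow_two, hxx]) hx1
  · intro p hp
    rw [mem_centralizer_singleton_iff]
    exact hcx p (hPc _ hp)
  · have hC : ∀ g : ↥(centralizer ({x} : Set K)), π g ∈ centralizer ({j} : Set X) := by
      intro g
      rw [mem_centralizer_singleton_iff, ← hπx, ← map_mul, ← map_mul]
      exact congrArg π (mem_centralizer_singleton_iff.1 g.2)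
    let f : ↥(centralizer ({x} : Set K)) →* ↥(centralizer ({j} : Set X)) :=
      (π.comp (centralizer ({x} : Set K)).subtype).codRestrict _ hC
    have h3 := hPs.comap f
    have h4 : (P.subgroupOf (centralizer ({j} : Set X))).comap f = P'.subgroupOf (centralizer ({x} : Set K)) := by
      ext g; rfl
    rwa [h4] at h3
  · intro g hg
    exact hTP (hT'N hg)
  · change π (y0 ^ r) ∈ P
    rw [map_pow, hy0]
    exact pow_mem hy r
  · by_contra hcon
    push Not at hcon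
    apply hyt
    obtain ⟨h, hh, rfl⟩ := hTT t ht
    have h1 := congrArg π (hcon h hh)
    rw [map_mul, map_mul, map_pow, hy0] at h1
    have h2 : Commute ((y ^ r) ^ s) (π h) := Commute.pow_left h1 s
    rwa [hs] at h2
  · intro c hc' hct p hp
    obtain ⟨h1, h2⟩ := hc (π c) hc' (fun t ht => by
      obtain ⟨h, hh, rfl⟩ := hTT t ht
      rw [← map_mul, ← map_mul, hct h hh])
    obtain ⟨b, hb, h, hh, rfl⟩ := hdec c h1
    have h3 : p * h * p⁻¹ * h⁻¹ = 1 := by
      refine htriv _ (mul_mem (hT'n p hp h hh) (inv_mem hh)) ?_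
      have h4 := h2 (π p) hp
      rw [map_mul, hb, one_mul] at h4
      rw [map_mul, map_mul, map_mul, map_inv, map_inv, ← h4]
      group
    have h4 : p * h = h * p := by
      rw [mul_inv_eq_one] at h3
      exact mul_inv_eq_iff_eq_mul.1 h3
    rw [mul_assoc, ← h4, ← mul_assoc, ← mul_assoc, hcen b hb p]
  · have h1 : Nat.card P' = Nat.card P * Nat.card π.ker := by
      let f : P' →* P := (π.comp P'.subtype).codRestrict P fun x => x.2
      have hf : Function.Surjective f := by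
        rintro ⟨t, ht⟩
        obtain ⟨s, hs⟩ := hπ.surj t
        exact ⟨⟨s, by change π s ∈ P; rw [hs]; exact ht⟩, Subtype.ext hs⟩
      have hk : f.ker = π.ker.subgroupOf P' := by
        ext a
        rw [MonoidHom.mem_ker, mem_subgroupOf, MonoidHom.mem_ker]
        exact ⟨fun h => congrArg Subtype.val h, fun h => Subtype.ext h⟩
      have hle : π.ker ≤ P' := fun a ha => by
        change π a ∈ P
        rw [show π a = 1 from ha]
        exact one_mem _
      rw [card_eq_card_quotient_mul_card_subgroup f.ker,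
        Nat.card_congr (QuotientGroup.quotientKerEquivOfSurjective f hf).toEquiv, hk,
        Nat.card_congr (subgroupOfEquivOfLe hle).toEquiv]
    rw [h1, ← mul_assoc]
    exact Nat.mul_dvd_mul_right hcard _

/-- Every component of type `Rk 3` contains such a subgroup. -/
theorem of_quasisimple {J : Type u} [Group J] [Finite J] (hq : IsQuasisimple J) (h : Rk (J ⧸ center J) 3) :
    WLong' J := by
  have h3 : OddPow 3 := ⟨3, 1, Nat.prime_three, by norm_num, le_rfl, by norm_num⟩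
  -- an involution
  obtain ⟨b, hb⟩ : ∃ b : J, orderOf b = 2 := by
    obtain ⟨j, -, hj, -⟩ := hasLong_of_rk h3 h
    haveI : Fact (Nat.Prime 2) := ⟨Nat.prime_two⟩
    apply exists_prime_orderOf_dvd_card'
    refine dvd_trans ?_ ((center J).card_quotient_dvd_card)
    rw [← hj]
    exact orderOf_dvd_natCard j
  have hc := cOdd_mk hq hb
  refine lift hc ?_
  have hbot : oddCore (J ⧸ oddCore J) = ⊥ := oddCore_eq_bot hc (by rw [QuotientGroup.ker_mk'])
  apply of_hasLong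
  refine hasLong_cover (center_two hbot) h3 ?_
  obtain ⟨e⟩ := LieClassical.Grun.quotient_center_equiv hq.1.commutator_eq_top (QuotientGroup.mk' (oddCore J)) hc.surj hc.cen
  exact rk_congr e h

end Cfsg.Agent.OddHalf.NI3.Ex.LongW

end

-- merged: Cfsg.Agent.OddHalf.NI3.Ex.LongFixC
section

/-!
# (EX3) for a group with a large extraspecial subgroup on which 3-elements act with large commutator
(helper88)
-/

set_option autoImplicit false
set_option linter.style.haveILetI false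

namespace Cfsg.Agent.OddHalf.NI3.Ex.LongFixC

open scoped Pointwise
open Subgroup Cfsg Cfsg.Agent.OddHalf.NI Cfsg.Agent.OddHalf.NI.Ex Cfsg.Agent.OddHalf.LieOddFam
open Cfsg.Agent.Co2Type.Quad Cfsg.Agent.OddHalf.NI3.Ex.LongFix

universe u

variable {X : Type u} [Group X]

/-- A 2-group of fixed points of the involutory automorphism `α` commutes with a conjugate of `z` fixed by `α`. -/
theorem exists_fixed_z [Finite X] {Q : Subgroup X} {z : X} (hL : Large Q z)
    (hodd : Odd (centralizer ({z} : Set X)).index) {α : MulAut X} (hα : α * α = 1) {S₀ : Subgroup X}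
    (hS : IsPGroup 2 S₀) (hSα : ∀ s ∈ S₀, α s = s) :
    ∃ g : X, α (g * z * g⁻¹) = g * z * g⁻¹ ∧ ∀ s ∈ S₀, s * (g * z * g⁻¹) = g * z * g⁻¹ * s := by
  haveI : Fact (Nat.Prime 2) := ⟨Nat.prime_two⟩
  have hαα : ∀ x, α (α x) = x := fun x => by rw [← MulAut.mul_apply, hα, MulAut.one_apply]
  -- the group generated by `α` and the conjugations
  set D1 : Subgroup (MulAut X) := S₀.map (MulAut.conj (G := X)) with hD1
  set D2 : Subgroup (MulAut X) := zpowers α with hD2
  have h1 : IsPGroup 2 D1 := hS.map _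
  have h2 : IsPGroup 2 D2 := by
    rintro ⟨x, hx⟩
    obtain ⟨i, rfl⟩ := mem_zpowers_iff.1 hx
    refine ⟨1, Subtype.ext ?_⟩
    change (α ^ i) ^ 2 ^ 1 = 1
    rw [pow_one, ← zpow_natCast, ← zpow_mul, mul_comm, zpow_mul, zpow_natCast, pow_two, hα, one_zpow]
  have hn : D2 ≤ normalizer (D1 : Set (MulAut X)) := by
    rw [hD2, zpowers_le, mem_normalizer_iff]
    have hc : ∀ s ∈ S₀, α * MulAut.conj s = MulAut.conj s * α := by
      intro s hs
      ext x
      change α (s * x * s⁻¹) = s * α x * s⁻¹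
      rw [map_mul, map_mul, map_inv, hSα s hs]
    intro β
    constructor
    · rintro ⟨s, hs, rfl⟩
      rw [hc s hs, mul_inv_cancel_right]
      exact ⟨s, hs, rfl⟩
    · rintro ⟨s, hs, hβ⟩
      have h3 : β = MulAut.conj s := by
        have h4 : β = α⁻¹ * (MulAut.conj s) * α := by rw [hβ]; group
        rw [h4, mul_assoc, ← hc s hs, inv_mul_cancel_left]
      rw [h3]
      exact ⟨s, hs, rfl⟩
  have h3 : IsPGroup 2 ↥(D1 ⊔ D2) := by
    rw [sup_comm]
    exact h2.to_sup_of_normal_right' h1 hn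
  -- a fixed Sylow subgroup
  obtain ⟨T, hT⟩ := h3.nonempty_fixed_point_of_prime_not_dvd_card (Sylow 2 X) (not_dvd_card_sylow 2 X)
  have hTα : ∀ x ∈ T, α x ∈ T := by
    intro x hx
    have h4 : α • T = T := hT ⟨α, (le_sup_right : D2 ≤ _) (mem_zpowers α)⟩
    have h5 : α • x ∈ (α • T : Sylow 2 X) := Subgroup.smul_mem_pointwise_smul x α (T : Subgroup X) hx
    rwa [h4] at h5
  have hST : S₀ ≤ T := by
    have hSN : S₀ ≤ normalizer ((T : Subgroup X) : Set X) := by
      intro s hs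
      have h4 : MulAut.conj s • T = T := hT ⟨MulAut.conj s, (le_sup_left : D1 ≤ _) ⟨s, hs, rfl⟩⟩
      have h5 : ∀ x ∈ T, s * x * s⁻¹ ∈ T := by
        intro x hx
        have h5 : MulAut.conj s • x ∈ (MulAut.conj s • T : Sylow 2 X) :=
          Subgroup.smul_mem_pointwise_smul x (MulAut.conj s) (T : Subgroup X) hx
        rwa [h4] at h5
      have h6 : MulAut.conj s⁻¹ • T = T := hT ⟨MulAut.conj s⁻¹, (le_sup_left : D1 ≤ _) ⟨s⁻¹, inv_mem hs, rfl⟩⟩
      rw [mem_normalizer_iff]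
      intro x
      refine ⟨fun hx => h5 x hx, fun hx => ?_⟩
      have h7 : MulAut.conj s⁻¹ • (s * x * s⁻¹) ∈ (MulAut.conj s⁻¹ • T : Sylow 2 X) :=
        Subgroup.smul_mem_pointwise_smul _ (MulAut.conj s⁻¹) (T : Subgroup X) hx
      rw [h6] at h7
      have h8 : MulAut.conj s⁻¹ • (s * x * s⁻¹) = x := by
        change s⁻¹ * (s * x * s⁻¹) * s⁻¹⁻¹ = x
        group
      rw [h8] at h7
      exact h7
    have h4 : IsPGroup 2 ↥((T : Subgroup X) ⊔ S₀) := by
      rw [sup_comm]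
      exact hS.to_sup_of_normal_right' T.isPGroup' hSN
    have h5 := T.is_maximal' h4 le_sup_left
    rw [← h5]
    exact le_sup_right
  -- the centre of `T`
  obtain ⟨S, hSz⟩ := KFacts.AutLarge.exists_sylow hodd
  have hQS := KFacts.AutLarge.le_sylow hL S hSz
  obtain ⟨g, hg⟩ := MulAction.exists_smul_eq X S T
  have hgT : ∀ x : X, x ∈ T ↔ g⁻¹ * x * g ∈ S := by
    intro x
    rw [← hg]
    change x ∈ (MulAut.conj g • (S : Subgroup X)) ↔ _
    rw [Subgroup.mem_pointwise_smul_iff_inv_smul_mem, ← map_inv, MulAut.smul_def, MulAut.conj_apply, inv_inv]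
    rfl
  have hTu : ∀ t ∈ T, t * (g * z * g⁻¹) = g * z * g⁻¹ * t := by
    intro t ht
    have h4 : g⁻¹ * t * g * z = z * (g⁻¹ * t * g) :=
      mem_centralizer_singleton_iff.1 (hSz ((hgT t).1 ht))
    calc t * (g * z * g⁻¹) = g * (g⁻¹ * t * g * z) * g⁻¹ := by group
      _ = g * (z * (g⁻¹ * t * g)) * g⁻¹ := by rw [h4]
      _ = _ := by group
  refine ⟨g, ?_, fun s hs => hTu s (hST hs)⟩
  set v := g * z * g⁻¹ with hv
  have hαv : ∀ t ∈ T, t * α v = α v * t := by
    intro t ht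
    have h6 := congrArg α (hTu _ (hTα t ht))
    rwa [map_mul α (α t) v, map_mul α v (α t), hαα] at h6
  have hzS : z ∈ (S : Subgroup X) := hQS hL.z_mem
  have hSx : ∀ x ∈ (S : Subgroup X), x * (g⁻¹ * α v * g) = (g⁻¹ * α v * g) * x := by
    intro x hx
    have h4 : g * x * g⁻¹ ∈ T := by
      rw [hgT]
      have e : g⁻¹ * (g * x * g⁻¹) * g = x := by group
      rw [e]; exact hx
    have h5 := hαv _ h4
    calc x * (g⁻¹ * α v * g) = g⁻¹ * (g * x * g⁻¹ * α v) * g := by group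
      _ = g⁻¹ * (α v * (g * x * g⁻¹)) * g := by rw [h5]
      _ = _ := by group
  have h4 : g⁻¹ * α v * g ∈ Q := hL.self _ (hSx z hzS).symm fun x hx => (hSx x (hQS hx)).symm
  rcases hL.cent _ h4 fun y hy => (hSx y (hQS hy)).symm with h5 | h5
  · exfalso
    have h6 : α v = 1 := by
      calc α v = g * (g⁻¹ * α v * g) * g⁻¹ := by group
        _ = 1 := by rw [h5]; group
    have h7 : v = 1 := by rw [← hαα v, h6, map_one]
    apply hL.z_ne
    calc z = g⁻¹ * v * g := by rw [hv]; group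
      _ = 1 := by rw [h7]; group
  · calc α v = g * (g⁻¹ * α v * g) * g⁻¹ := by group
      _ = v := by rw [h5]

theorem Big.conj {Q : Subgroup X} {z w : X} (g : X) (h : Big Q z (g⁻¹ * w * g)) :
    Big (Q.map (MulAut.conj g).toMonoidHom) (g * z * g⁻¹) w := by
  obtain ⟨A, h1, h2, h3, h4⟩ := h
  refine ⟨A.map (MulAut.conj g).toMonoidHom, map_mono h1, ⟨z, h2, rfl⟩, ?_, ?_⟩
  · rwa [← Nat.card_congr (A.equivMapOfInjective _ (MulAut.conj g).injective).toEquiv]
  · rintro _ ⟨a, ha, rfl⟩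
    obtain ⟨q, hq, h5⟩ := h4 a ha
    refine ⟨g * q * g⁻¹, ⟨q, hq, rfl⟩, ?_⟩
    change g * a * g⁻¹ = _ ∨ g * a * g⁻¹ = _
    rcases h5 with h5 | h5
    · left; rw [h5]; group
    · right; rw [h5]; group

/-- **The lemma**: no component of type `Rk 3`. -/
theorem no3 [Finite X] {Q : Subgroup X} {z : X} (hL : Large Q z) (hodd : Odd (centralizer ({z} : Set X)).index)
    (hQ : ∀ β : MulAut X, β z = z → ∀ q ∈ Q, β q ∈ Q)
    (hbig : ∀ w : X, w * z = z * w → (∃ k : ℕ, w ^ 3 ^ k = 1) → w ≠ 1 → Big Q z w)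
    {α : MulAut X} (hα : orderOf α = 2) {J : Subgroup X} (hJ : CompIn (fix α) J)
    (hr : Rk (↥J ⧸ center ↥J) 3) : False := by
  haveI : Fact (Nat.Prime 2) := ⟨Nat.prime_two⟩
  have hαα : α * α = 1 := by rw [← pow_two, ← hα, pow_orderOf_eq_one]
  obtain ⟨j, P0, T0, y0, m, hj, hPj, hPs, hTP, hT2, hTn, hy, ⟨k, hk⟩, ⟨t, ht, hyt⟩, hc, hm, hcard⟩ :=
    LongW.of_quasisimple hJ.quasi hr
  have hjj : (j : X) * j = 1 := by
    have : j * j = 1 := by rw [← pow_two, ← hj, pow_orderOf_eq_one]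
    exact congrArg Subtype.val this
  have hJα : ∀ x ∈ J, α x = x := fun x hx => hJ.le hx
  obtain ⟨F, hF⟩ : ∃ F : Subgroup X, ∀ x, x ∈ F ↔ α x = x ∧ x * j = j * x :=
    ⟨fix α ⊓ centralizer ({(j : X)} : Set X), fun x => ⟨fun h => ⟨h.1, mem_centralizer_singleton_iff.1 h.2⟩,
      fun h => ⟨h.1, mem_centralizer_singleton_iff.2 h.2⟩⟩⟩
  have hjF : (j : X) ∈ F := (hF _).2 ⟨hJα _ j.2, rfl⟩
  -- a Sylow 2-subgroup of `F`
  obtain ⟨S⟩ : Nonempty (Sylow 2 ↥F) := inferInstance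
  have hn2 : (pCore 2 ↥F).Normal := Lib.Cores.pCore_normal 2
  have hS1 : pCore 2 ↥F ≤ S := by
    have h1 : IsPGroup 2 ↥((S : Subgroup ↥F) ⊔ pCore 2 ↥F) :=
      S.isPGroup'.to_sup_of_normal_right (Lib.Cores.pCore_isPGroup 2)
    have h2 := S.is_maximal' h1 le_sup_left
    rw [← h2]
    exact le_sup_right
  have hj2 : (⟨j, hjF⟩ : ↥F) ∈ pCore 2 ↥F := by
    have hz : zpowers (⟨j, hjF⟩ : ↥F) ≤ pCore 2 ↥F := by
      apply Lib.Cores.le_pCore
      · refine ⟨fun n hn g => ?_⟩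
        obtain ⟨i, rfl⟩ := mem_zpowers_iff.1 hn
        have h1 : g * (⟨j, hjF⟩ : ↥F) = ⟨j, hjF⟩ * g := Subtype.ext ((hF _).1 g.2).2
        have h2 : Commute g ((⟨j, hjF⟩ : ↥F) ^ i) := Commute.zpow_right h1 i
        rw [h2.eq, mul_inv_cancel_right]
        exact zpow_mem (mem_zpowers _) i
      · rintro ⟨x, hx⟩
        obtain ⟨i, rfl⟩ := mem_zpowers_iff.1 hx
        refine ⟨1, Subtype.ext ?_⟩
        change ((⟨j, hjF⟩ : ↥F) ^ i) ^ 2 ^ 1 = 1
        rw [pow_one, ← zpow_natCast, ← zpow_mul, mul_comm, zpow_mul, zpow_natCast, pow_two,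
          show (⟨j, hjF⟩ : ↥F) * ⟨j, hjF⟩ = 1 from Subtype.ext hjj, one_zpow]
    exact hz (mem_zpowers _)
  obtain ⟨g, hg1, hg2⟩ := exists_fixed_z hL hodd hαα (S₀ := (S : Subgroup ↥F).map F.subtype) (S.isPGroup'.map _) (by
    rintro _ ⟨s, -, rfl⟩
    exact ((hF _).1 s.2).1)
  -- the subgroups
  have hPF : ∀ p ∈ P0, (p : X) ∈ F := by
    intro p hp
    refine (hF _).2 ⟨hJα _ p.2, ?_⟩
    exact congrArg Subtype.val (mem_centralizer_singleton_iff.1 (hPj hp))
  set P : Subgroup ↥F := (P0.map J.subtype).subgroupOf F with hP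
  set T : Subgroup ↥F := (T0.map J.subtype).subgroupOf F with hT
  have hmP : ∀ x : ↥F, x ∈ P ↔ ∃ h : (x : X) ∈ J, (⟨x, h⟩ : ↥J) ∈ P0 := by
    intro x
    constructor
    · rintro ⟨p, hp, hpx⟩
      have hpx' : (p : X) = x := hpx
      refine ⟨hpx' ▸ p.2, ?_⟩
      have : (⟨x, hpx' ▸ p.2⟩ : ↥J) = p := Subtype.ext hpx'.symm
      rw [this]; exact hp
    · rintro ⟨h, hp⟩
      exact ⟨_, hp, rfl⟩
  have hmT : ∀ x : ↥F, x ∈ T ↔ ∃ h : (x : X) ∈ J, (⟨x, h⟩ : ↥J) ∈ T0 := by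
    intro x
    constructor
    · rintro ⟨p, hp, hpx⟩
      have hpx' : (p : X) = x := hpx
      refine ⟨hpx' ▸ p.2, ?_⟩
      have : (⟨x, hpx' ▸ p.2⟩ : ↥J) = p := Subtype.ext hpx'.symm
      rw [this]; exact hp
    · rintro ⟨h, hp⟩
      exact ⟨_, hp, rfl⟩
  have hle : P0.map J.subtype ≤ F := by
    rintro _ ⟨p, hp, rfl⟩
    exact hPF p hp
  have hcardP : Nat.card P = Nat.card P0 := by
    rw [hP, Nat.card_congr (subgroupOfEquivOfLe hle).toEquiv,
      Nat.card_congr (P0.equivMapOfInjective _ J.subtype_injective).toEquiv]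
  -- subnormality
  have hPsub : P.IsSubnormal := by
    set D : Subgroup ↥F := J.subgroupOf F with hD
    have hDs : D.IsSubnormal := by
      have hFa : F ≤ fix α := fun x hx => ((hF x).1 hx).1
      have h1 := hJ.comp.1.comap (inclusion hFa)
      have h2 : (J.subgroupOf (fix α)).comap (inclusion hFa) = D := by
        ext x; rfl
      rwa [h2] at h1
    have hDC : ∀ x : ↥D, (⟨((x : ↥F) : X), x.2⟩ : ↥J) ∈ centralizer ({j} : Set ↥J) := by
      intro x
      rw [mem_centralizer_singleton_iff]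
      exact Subtype.ext ((hF _).1 (x : ↥F).2).2
    let f : ↥D →* ↥(centralizer ({j} : Set ↥J)) :=
      { toFun := fun x => ⟨⟨((x : ↥F) : X), x.2⟩, hDC x⟩
        map_one' := rfl
        map_mul' := fun _ _ => rfl }
    have h3 := hPs.comap f
    have h4 : (P0.subgroupOf (centralizer ({j} : Set ↥J))).comap f = P.subgroupOf D := by
      ext x
      rw [mem_comap, mem_subgroupOf, mem_subgroupOf, hmP]
      exact ⟨fun h => ⟨x.2, h⟩, fun ⟨_, h⟩ => h⟩
    rw [h4] at h3
    refine Subgroup.IsSubnormal.trans (K := D) ?_ h3 hDs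
    intro x hx
    exact ((hmP x).1 hx).1
  refine main (Q := Q.map (MulAut.conj g).toMonoidHom) (z := g * z * g⁻¹) (hL.conj g) ?_ ?_ hαα hg1 (j := (j : X)) hjj
    (hJα _ j.2) ?_ hF ?_ hPsub (T := T) ?_ ?_ ?_ (y := ⟨(y0 : X), hPF y0 hy⟩) ?_ ⟨k, ?_⟩ ?_ ?_ hm (by rw [hcardP]; exact hcard)
  · -- invariance of `Q`
    rintro β hβ _ ⟨q, hq, rfl⟩
    have h1 : ((MulAut.conj g)⁻¹ * β * MulAut.conj g) z = z := by
      change (MulAut.conj g)⁻¹ (β (g * z * g⁻¹)) = z
      rw [hβ, ← map_inv]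
      change g⁻¹ * (g * z * g⁻¹) * g⁻¹⁻¹ = z
      group
    refine ⟨_, hQ _ h1 q hq, ?_⟩
    change MulAut.conj g ((MulAut.conj g)⁻¹ (β (g * q * g⁻¹))) = β (g * q * g⁻¹)
    rw [← MulAut.mul_apply, mul_inv_cancel, MulAut.one_apply]
  · intro w hwz ⟨l, hl⟩ hw1
    refine Big.conj g (hbig _ ?_ ⟨l, ?_⟩ ?_)
    · calc g⁻¹ * w * g * z = g⁻¹ * (w * (g * z * g⁻¹)) * g := by group
        _ = g⁻¹ * (g * z * g⁻¹ * w) * g := by rw [hwz]
        _ = _ := by group
    · have h1 : g⁻¹ * w * g = g⁻¹ * w * g⁻¹⁻¹ := by rw [inv_inv]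
      rw [h1, conj_pow, hl, mul_one, mul_inv_cancel]
    · intro h1
      apply hw1
      calc w = g * (g⁻¹ * w * g) * g⁻¹ := by group
        _ = 1 := by rw [h1]; group
  · exact hg2 _ ⟨_, hS1 hj2, rfl⟩
  · intro x hx
    exact hg2 _ ⟨_, hS1 hx, rfl⟩
  · intro x hx
    obtain ⟨h1, h2⟩ := (hmT x).1 hx
    exact (hmP x).2 ⟨h1, hTP h2⟩
  · exact (hT2.map _).comap_of_injective _ F.subtype_injective
  · intro p hp t' ht'
    obtain ⟨h1, h2⟩ := (hmP p).1 hp
    obtain ⟨h3, h4⟩ := (hmT t').1 ht'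
    exact (hmT _).2 ⟨mul_mem (mul_mem h1 h3) (inv_mem h1), hTn _ h2 _ h4⟩
  · exact (hmP _).2 ⟨y0.2, hy⟩
  · exact Subtype.ext (congrArg (Subtype.val : ↥J → X) hk)
  · refine ⟨⟨(t : X), hPF t (hTP ht)⟩, (hmT _).2 ⟨t.2, ht⟩, fun h => hyt ?_⟩
    exact Subtype.ext (congrArg (Subtype.val : ↥F → X) h)
  · intro c hcP hct p hp
    obtain ⟨h1, h2⟩ := (hmP c).1 hcP
    obtain ⟨h3, h4⟩ := (hmP p).1 hp
    have h5 := hc _ h2 (fun t' ht' => by
      have h6 := hct ⟨(t' : X), hPF t' (hTP ht')⟩ ((hmT _).2 ⟨t'.2, ht'⟩)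
      exact Subtype.ext (congrArg (Subtype.val : ↥F → X) h6)) _ h4
    exact Subtype.ext (congrArg (Subtype.val : ↥J → X) h5)

end Cfsg.Agent.OddHalf.NI3.Ex.LongFixC

end

-- merged: Cfsg.Agent.OddHalf.NI3.Ex.BabyMat
section

/-!
# The action of `C(z)` on `Q / ⟨z⟩` in the Baby Monster, by packed matrices
(helper88)
-/

set_option autoImplicit false
set_option linter.style.haveILetI false

namespace Cfsg.Agent.OddHalf.NI3.Ex.BabyMat

open Cfsg.Agent.Monster Cfsg.Agent.Monster.VecEngine Cfsg.Agent.Monster.VecSpace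
open Cfsg.Agent.Monster.PauliBasic Cfsg.Agent.Monster.PauliRep Cfsg.Agent.Monster.PauliClif Cfsg.Agent.Monster.PauliBits
open Cfsg.Agent.BabyM Cfsg.Agent.BabyM.QAct Cfsg.Agent.BabyM.Model Cfsg.Agent.BabyM.Conc Cfsg.Agent.BabyM.KTab
open Cfsg.Agent.BabyM.KRow Cfsg.Agent.BabyM.KQ Cfsg.Agent.BabyM.KRowData Cfsg.Agent.BabyM.QIrrInst
open Cfsg.Agent.BabyU.ClosLane (Act v v_xor v_inj v_land add_self' A R_mem_Q z_R exists_aut)
open Cfsg.Agent.OddHalf.NI3.Ex.PackM (fd ID mulM apN rk dfs leafR leafN fd_ID fd_mulM apN_lt fd_lt fd_xor rk_sound)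
open Cfsg.Agent.BabyU.ClosModel (mem_PP zz)
open Cfsg.Agent.Co2Type.Quad

/-- the subgroup `Q` -/
local notation "QQ" => Cfsg.Agent.BabyU.ClosModel.PP Inst.M

theorem ab_inv (x : Pauli 11) : ab x⁻¹ = ab x := by
  have h1 : ab x⁻¹ + ab x = 0 := by
    rw [← ab_mul, inv_mul_cancel]; rfl
  calc ab x⁻¹ = ab x⁻¹ + (ab x + ab x) := by rw [add_self', add_zero]
    _ = ab x := by rw [← add_assoc, h1, zero_add]

theorem Act.xor {g : V ≃ₗ[ℚ] V} {m n m' n' : ℕ} (h : Act g m n) (h' : Act g m' n') :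
    Act g (m ^^^ m') (n ^^^ n') := by
  intro x hx
  obtain ⟨y1, hy1, e1⟩ := h (dec 11 m) rfl
  obtain ⟨y2, hy2, e2⟩ := h' ((dec 11 m)⁻¹ * x) (by
    rw [ab_mul, ab_inv, hx, v_xor, ← add_assoc]
    change v m + v m + v m' = v m'
    rw [add_self', zero_add])
  refine ⟨y1 * y2, by rw [ab_mul, hy1, hy2, v_xor], ?_⟩
  rw [map_mul, ← e1, ← e2, map_mul, map_inv]
  group

/-- `g` acts as the matrix `A` -/
def Rep (g : V ≃ₗ[ℚ] V) (A : ℕ) : Prop := ∀ k < 22, Act g (2 ^ k) (fd A k) ∧ fd A k < 2 ^ 22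

theorem Rep.zero {g : V ≃ₗ[ℚ] V} {A : ℕ} (h : Rep g A) : Act g 0 0 := by
  have h1 := (h 0 (by norm_num)).1
  have h2 := Act.xor h1 h1
  rwa [Nat.xor_self, Nat.xor_self] at h2

theorem Rep.act {g : V ≃ₗ[ℚ] V} {A : ℕ} (h : Rep g A) {m : ℕ} (hm : m < 2 ^ 22) : Act g m (apN A m 22) := by
  have key : ∀ n ≤ 22, Act g (m % 2 ^ n) (apN A m n) := by
    intro n
    induction n with
    | zero =>
      intro _
      rw [pow_zero, Nat.mod_one]
      exact h.zero
    | succ n ih =>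
      intro hn
      have h1 : m % 2 ^ (n + 1) = (m % 2 ^ n) ^^^ (if m.testBit n = true then 2 ^ n else 0) := by
        apply Nat.eq_of_testBit_eq
        intro i
        rw [Nat.testBit_xor, Nat.testBit_mod_two_pow, Nat.testBit_mod_two_pow]
        by_cases hb : m.testBit n = true
        · rw [if_pos hb, Nat.testBit_two_pow]
          rcases lt_trichotomy i n with h2 | rfl | h2
          · simp [h2, (show i < n + 1 by omega), (show ¬ n = i by omega)]
          · simp [hb]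
          · simp [(show ¬ i < n + 1 by omega), (show ¬ i < n by omega), (show ¬ n = i by omega)]
        · rw [if_neg hb, Nat.zero_testBit, Bool.xor_false]
          rcases lt_trichotomy i n with h2 | rfl | h2
          · simp [h2, (show i < n + 1 by omega)]
          · simp [hb]
          · simp [(show ¬ i < n + 1 by omega), (show ¬ i < n by omega)]
      rw [h1, apN]
      refine Act.xor (ih (by omega)) ?_
      split_ifs
      · exact (h n (by omega)).1
      · exact h.zero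
  have h2 := key 22 le_rfl
  rwa [Nat.mod_eq_of_lt hm] at h2

theorem Rep.mul {g h : V ≃ₗ[ℚ] V} {A B : ℕ} (hg : Rep g A) (hh : Rep h B) : Rep (g * h) (mulM A B) := by
  intro k hk
  rw [fd_mulM A B hk]
  exact ⟨BabyU.ClosLane.Act.mul (hg.act (hh k hk).2) (hh k hk).1, apN_lt (fun k hk => (hg k hk).2) _ 22 le_rfl⟩

theorem rep_one : Rep 1 ID := by
  intro k hk
  rw [fd_ID k hk]
  exact ⟨fun x hx => ⟨x, hx, by rw [one_mul, inv_one, mul_one]⟩, Nat.pow_lt_pow_right (by norm_num) hk⟩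

theorem Rep.mulR {g : V ≃ₗ[ℚ] V} {A : ℕ} (hg : Rep g A) (y : Pauli 11) : Rep (g * Cd.R y) A := fun k hk =>
  ⟨BabyU.ClosLane.Act.mul (hg k hk).1 (BabyU.ClosLane.Act.R y _), (hg k hk).2⟩

theorem rep_R (y : Pauli 11) : Rep (Cd.R y) ID := by
  have := rep_one.mulR y
  rwa [one_mul] at this

theorem Rep.unique {g : V ≃ₗ[ℚ] V} {A A' : ℕ} (h : Rep g A) (h' : Rep g A') : ∀ k < 22, fd A k = fd A' k := by
  intro k hk
  obtain ⟨y, hy, e⟩ := (h k hk).1 (dec 11 (2 ^ k)) rfl
  obtain ⟨y', hy', e'⟩ := (h' k hk).1 (dec 11 (2 ^ k)) rfl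
  rw [e] at e'
  have h1 := Cd.R_injective e'
  rw [h1, hy'] at hy
  exact (v_inj (h' k hk).2 (h k hk).2 hy).symm

/-- the matrix of a letter -/
noncomputable def mat (I : ℕ) : ℕ := Nat.land I (nat_lit 219673485843489874814166095374771918722369837236109311795375249264689912499574893000142363221111095346339197113290403632270456258744163816313098903881789734911)

theorem rep_of {l : Ltr} {I A : ℕ} (hrel : ∀ k < 22, E l * Cd.R (dec 11 (2 ^ k)) = Cd.R (dec 11 (im I k)) * E l)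
    (hA : ∀ k < 22, fd A k = Nat.land (im I k) 0x3fffff) : Rep (E l) A := by
  obtain ⟨α, hα⟩ := KCore.exists_aut Cd.R Cd.R_injective (E l) closure_gens (by
    rintro x ⟨k, hk, rfl⟩
    exact ⟨_, hrel k hk⟩)
  have hα' : ∀ k < 22, α (dec 11 (2 ^ k)) = dec 11 (im I k) := by
    intro k hk
    apply Cd.R_injective
    exact mul_right_cancel ((hα _).symm.trans (hrel k hk))
  intro k hk
  refine ⟨fun x hx => ⟨α x, ?_, ?_⟩, ?_⟩
  · rw [ab_aut_congr α (show ab x = ab (dec 11 (2 ^ k)) from hx), hα' k hk, hA k hk, v_land]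
    rfl
  · rw [hα x, mul_inv_cancel_right]
  · rw [hA k hk]
    have h : Nat.land (im I k) 0x3fffff = (im I k) &&& (2 ^ 22 - 1) := rfl
    rw [h, Nat.and_two_pow_sub_one_eq_mod]
    exact Nat.mod_lt _ (by norm_num)

/-! ### elements of `C` -/

theorem exists_R {q : Inst.M.G} (hq : q ∈ QQ) : ∃ x : Pauli 11, (q : V ≃ₗ[ℚ] V) = Cd.R x := by
  obtain ⟨x, hx⟩ := KLink.link.mem_Q.1 (mem_PP.1 hq)
  exact ⟨x, hx.symm⟩

theorem zz_R : ((zz A : Inst.M.G) : V ≃ₗ[ℚ] V) = Cd.R (Pauli.z 11) := z_R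

theorem mem_C {g : Inst.M.G} (hg : g * zz A = zz A * g) : (g : V ≃ₗ[ℚ] V) ∈ Inst.M.C :=
  (KFacts.Baby.Inst.mem_cen A).1 (Subgroup.mem_centralizer_singleton_iff.2 hg)

/-- An element of `C` which acts trivially lies in `Q`. -/
theorem mem_of_id {g : Inst.M.G} (hg : g * zz A = zz A * g) (hr : Rep (g : V ≃ₗ[ℚ] V) ID) : g ∈ QQ := by
  haveI := A.finite_G
  have hL := KFacts.Baby.Inst.large A
  obtain ⟨α, hα, -⟩ := exists_aut (mem_C hg)
  have hab : ∀ x : Pauli 11, ab (α x) = ab x := by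
    intro x
    have hx : x ∈ Subgroup.closure {x : Pauli 11 | ∃ k < 22, x = dec 11 (2 ^ k)} := by
      rw [closure_gens]; exact Subgroup.mem_top _
    induction hx using Subgroup.closure_induction with
    | mem x hx =>
      obtain ⟨k, hk, rfl⟩ := hx
      obtain ⟨y, hy, e⟩ := (hr k hk).1 (dec 11 (2 ^ k)) rfl
      rw [hα] at e
      rw [Cd.R_injective e, hy, fd_ID k hk]
      rfl
    | one => rw [map_one]
    | mul x y _ _ hx hy => rw [map_mul, ab_mul, ab_mul, hx, hy]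
    | inv x _ hx => rw [map_inv, ab_inv, ab_inv, hx]
  have hgc : g ∈ Subgroup.centralizer ({zz A} : Set Inst.M.G) := Subgroup.mem_centralizer_singleton_iff.2 hg
  refine hL.mem_of_act ⟨g, hgc⟩ ?_
  apply LinearEquiv.ext
  intro w
  obtain ⟨q, rfl⟩ := hL.pr_surjective w
  rw [hL.act_pr]
  change hL.pr _ = hL.pr q
  rw [hL.pr_eq_pr, hL.conjQ_coe]
  obtain ⟨x, hx⟩ := exists_R q.2
  have h1 : (g : V ≃ₗ[ℚ] V) * ((q : Inst.M.G) : V ≃ₗ[ℚ] V) * (g : V ≃ₗ[ℚ] V)⁻¹ = Cd.R (α x) := by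
    rw [hx, hα]
  rcases (ab_eq_iff _ _).1 (hab x) with h2 | h2
  · left
    apply Subtype.ext
    change (g : V ≃ₗ[ℚ] V) * ((q : Inst.M.G) : V ≃ₗ[ℚ] V) * (g : V ≃ₗ[ℚ] V)⁻¹ = _
    rw [h1, h2, ← hx]
  · right
    apply Subtype.ext
    change (g : V ≃ₗ[ℚ] V) * ((q : Inst.M.G) : V ≃ₗ[ℚ] V) * (g : V ≃ₗ[ℚ] V)⁻¹ = _
    rw [h1, h2, map_mul]
    have h3 := hL.comm_z q q.2
    rw [h3]
    change _ = ((zz A : Inst.M.G) : V ≃ₗ[ℚ] V) * ((q : Inst.M.G) : V ≃ₗ[ℚ] V)
    rw [zz_R, hx]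

/-- Two elements of `C` with the same matrix differ by an element of `Q`. -/
theorem mem_of_eq {g h : Inst.M.G} (hg : g * zz A = zz A * g) (hh : h * zz A = zz A * h) {M M' : ℕ}
    (hr : Rep (g : V ≃ₗ[ℚ] V) M) (hr' : Rep (h : V ≃ₗ[ℚ] V) M') (he : M = M') : g⁻¹ * h ∈ QQ := by
  subst he
  have hcz : (g⁻¹ * h) * zz A = zz A * (g⁻¹ * h) := by
    have h1 : g⁻¹ * zz A = zz A * g⁻¹ := by
      rw [inv_mul_eq_iff_eq_mul, ← mul_assoc, hg, mul_inv_cancel_right]
    rw [mul_assoc, hh, ← mul_assoc, h1, mul_assoc]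
  refine mem_of_id hcz fun k hk => ⟨?_, (rep_one k hk).2⟩
  intro x hx
  obtain ⟨y, hy, e⟩ := (hr' k hk).1 x hx
  obtain ⟨y', hy', e'⟩ := (hr k hk).1 x hx
  -- `g x g⁻¹ = y'`, `h x h⁻¹ = y = y' z^ε`
  refine ⟨(if y = y' then x else Pauli.z 11 * x), ?_, ?_⟩
  · rw [fd_ID k hk]
    split_ifs
    · exact hx
    · rw [← hx]
      exact ((ab_eq_iff _ _).2 (Or.inr rfl))
  · change (((g⁻¹ * h : Inst.M.G)) : V ≃ₗ[ℚ] V) * Cd.R x * (((g⁻¹ * h : Inst.M.G)) : V ≃ₗ[ℚ] V)⁻¹ = _
    have h1 : (((g⁻¹ * h : Inst.M.G)) : V ≃ₗ[ℚ] V) = (g : V ≃ₗ[ℚ] V)⁻¹ * h := rfl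
    rw [h1]
    have h2 : (g : V ≃ₗ[ℚ] V)⁻¹ * h * Cd.R x * ((g : V ≃ₗ[ℚ] V)⁻¹ * h)⁻¹ =
        (g : V ≃ₗ[ℚ] V)⁻¹ * (h * Cd.R x * (h : V ≃ₗ[ℚ] V)⁻¹) * g := by group
    have h3 : Cd.R x = (g : V ≃ₗ[ℚ] V)⁻¹ * Cd.R y' * g := by rw [← e']; group
    rw [h2, e]
    by_cases hyy : y = y'
    · rw [if_pos hyy, hyy, ← h3]
    · rw [if_neg hyy]
      rcases (ab_eq_iff y y').1 (hy.trans hy'.symm) with h4 | h4
      · exact absurd h4 hyy
      · rw [h4, map_mul, map_mul, ← zz_R]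
        have h5 : (g : V ≃ₗ[ℚ] V)⁻¹ * ((zz A : Inst.M.G) : V ≃ₗ[ℚ] V) = ((zz A : Inst.M.G) : V ≃ₗ[ℚ] V) * (g : V ≃ₗ[ℚ] V)⁻¹ := by
          have h6 : (g : V ≃ₗ[ℚ] V) * ((zz A : Inst.M.G) : V ≃ₗ[ℚ] V) = ((zz A : Inst.M.G) : V ≃ₗ[ℚ] V) * (g : V ≃ₗ[ℚ] V) :=
            congrArg Subtype.val hg
          rw [inv_mul_eq_iff_eq_mul, ← mul_assoc, h6, mul_inv_cancel_right]
        rw [← mul_assoc, h5, mul_assoc, mul_assoc, ← mul_assoc _ (Cd.R y'), ← h3]

/-! ### the rank -/

open Cfsg.Agent.OddHalf.NI3.Ex.LongFix (Big kap kap_apply quo_comm)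

theorem card_ge {B' : Subgroup Inst.M.G} {D n : ℕ} (hz : zz A ∈ B') (hD : ∀ k < 22, fd D k < 2 ^ 22)
    (hB : ∀ k < 22, ∀ x : Pauli 11, ab x = v (fd D k) → (⟨Cd.R x, A.C_le_G (A.grp.Q_le (R_mem_Q x))⟩ : Inst.M.G) ∈ B')
    (hrk : rk 22 D n = true) : 2 ^ (n + 1) ≤ Nat.card B' := by
  classical
  haveI := A.finite_G
  have hRG : ∀ x : Pauli 11, Cd.R x ∈ Inst.M.G := fun x => A.C_le_G (A.grp.Q_le (R_mem_Q x))
  have hRm : ∀ x y : Pauli 11, (⟨Cd.R (x * y), hRG _⟩ : Inst.M.G) = ⟨Cd.R x, hRG x⟩ * ⟨Cd.R y, hRG y⟩ :=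
    fun x y => Subtype.ext (map_mul _ _ _)
  set T : Finset ℕ := (Finset.range (2 ^ 22)).filter (fun m => ∀ x : Pauli 11, ab x = v m →
    (⟨Cd.R x, hRG x⟩ : Inst.M.G) ∈ B') with hT
  have hmT : ∀ m, m ∈ T ↔ m < 2 ^ 22 ∧ ∀ x : Pauli 11, ab x = v m → (⟨Cd.R x, hRG x⟩ : Inst.M.G) ∈ B' := by
    intro m
    rw [hT, Finset.mem_filter, Finset.mem_range]
  have h1 : 2 ^ n ≤ T.card := by
    refine rk_sound 22 le_rfl D n hrk T ?_ ?_
    · intro a ha b hb
      rw [hmT] at ha hb ⊢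
      refine ⟨Nat.xor_lt_two_pow ha.1 hb.1, fun x hx => ?_⟩
      have h2 : x = dec 11 a * ((dec 11 a)⁻¹ * x) := by rw [mul_inv_cancel_left]
      rw [h2, hRm]
      refine mul_mem (ha.2 _ rfl) (hb.2 _ ?_)
      rw [ab_mul, ab_inv, hx, v_xor, ← add_assoc]
      change v a + v a + v b = v b
      rw [add_self', zero_add]
    · intro k hk
      rw [hmT]
      exact ⟨hD k hk, hB k hk⟩
  have hz2 : (⟨Cd.R (Pauli.z 11), hRG _⟩ : Inst.M.G) ∈ B' := by
    have : (⟨Cd.R (Pauli.z 11), hRG _⟩ : Inst.M.G) = zz A := Subtype.ext zz_R.symm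
    rw [this]; exact hz
  have habz : ∀ x : Pauli 11, ab (Pauli.z 11 * x) = ab x := fun x => (ab_eq_iff _ _).2 (Or.inr rfl)
  let f : T × Bool → B' := fun p => ⟨⟨Cd.R (if p.2 = true then Pauli.z 11 * dec 11 p.1 else dec 11 p.1), hRG _⟩, by
    have h3 := (hmT p.1.1).1 p.1.2
    split_ifs
    · rw [hRm]
      exact mul_mem hz2 (h3.2 _ rfl)
    · exact h3.2 _ rfl⟩
  have hf : Function.Injective f := by
    rintro ⟨a, b⟩ ⟨a', b'⟩ h
    have h3 := Cd.R_injective (congrArg (fun x : B' => ((x : Inst.M.G) : V ≃ₗ[ℚ] V)) h)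
    dsimp only at h3
    have h4 := congrArg ab h3
    have h5 : ∀ (b : Bool) (m : ℕ), ab (if b = true then Pauli.z 11 * dec 11 m else dec 11 m) = v m := by
      intro b m
      split_ifs
      · rw [habz]; rfl
      · rfl
    rw [h5, h5] at h4
    have h6 : a = a' := Subtype.ext (v_inj ((hmT _).1 a.2).1 ((hmT _).1 a'.2).1 h4)
    subst h6
    have h7 : b = b' := by
      cases b <;> cases b'
      · rfl
      · exfalso
        simp only [if_true, Bool.false_eq_true, if_false] at h3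
        exact Pauli.z_ne_one (mul_eq_right.1 h3.symm)
      · exfalso
        simp only [if_true, Bool.false_eq_true, if_false] at h3
        exact Pauli.z_ne_one (mul_eq_right.1 h3)
      · rfl
    rw [h7]
  have h3 := Nat.card_le_card_of_injective f hf
  have h4 : Nat.card (T × Bool) = T.card * 2 := by
    rw [Nat.card_prod, Nat.card_eq_fintype_card, Nat.card_eq_fintype_card, Fintype.card_coe, Fintype.card_bool]
  rw [h4] at h3
  rw [pow_succ]
  omega

/-- an element whose matrix minus one has rank at least 10 -/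
theorem big {w : Inst.M.G} (hw : w * zz A = zz A * w) {M : ℕ} (hr : Rep (w : V ≃ₗ[ℚ] V) M)
    (hrk : rk 22 (Nat.xor M ID) 10 = true) : Big QQ (zz A) w := by
  haveI := A.finite_G
  have hL := KFacts.Baby.Inst.large A
  -- the subgroup
  have hcomm : ∀ a ∈ QQ, ∀ b ∈ QQ, ∃ e : Inst.M.G, (e = 1 ∨ e = zz A) ∧ a * b = b * a * e := by
    intro a ha b hb
    rcases hL.comm a ha b hb with h | h
    · exact ⟨1, Or.inl rfl, by rw [h, mul_one]⟩
    · exact ⟨zz A, Or.inr rfl, h⟩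
  let B' : Subgroup Inst.M.G :=
    { carrier := {a | a ∈ QQ ∧ ∃ q ∈ QQ, ∃ e : Inst.M.G, (e = 1 ∨ e = zz A) ∧ a = q⁻¹ * (w * q * w⁻¹) * e}
      one_mem' := ⟨one_mem _, 1, one_mem _, 1, Or.inl rfl, by group⟩
      mul_mem' := by
        rintro a b ⟨ha, q, hq, e, he, h1⟩ ⟨hb, q', hq', e', he', h2⟩
        refine ⟨mul_mem ha hb, q * q', mul_mem hq hq', ?_⟩
        have hx := mul_mem (inv_mem hq) (hL.conj_mem w hw q hq)
        obtain ⟨e2, he2, h3⟩ := hcomm _ hx _ (inv_mem hq')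
        have hcen : ∀ {e : Inst.M.G}, (e = 1 ∨ e = zz A) → ∀ y ∈ QQ, y * e = e * y := by
          rintro e (rfl | rfl) y hy
          · rw [one_mul, mul_one]
          · exact hL.comm_z y hy
        have hprod : ∀ {e e' : Inst.M.G}, (e = 1 ∨ e = zz A) → (e' = 1 ∨ e' = zz A) → (e * e' = 1 ∨ e * e' = zz A) := by
          rintro e e' (rfl | rfl) (rfl | rfl)
          · left; rw [one_mul]
          · right; rw [one_mul]
          · right; rw [mul_one]
          · left; exact hL.z_sq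
        have hinv : ∀ {e : Inst.M.G}, (e = 1 ∨ e = zz A) → (e⁻¹ = 1 ∨ e⁻¹ = zz A) := by
          rintro e (rfl | rfl)
          · left; rw [inv_one]
          · right; exact hL.z_inv
        have hx' := mul_mem (inv_mem hq') (hL.conj_mem w hw q' hq')
        refine ⟨e2 * (e * e'), hprod he2 (hprod he he'), ?_⟩
        have e1 := hcen he _ hx'
        have e2' := hcen he2 _ (hL.conj_mem w hw q' hq')
        -- `κ(q) q'⁻¹ = q'⁻¹ κ(q) e₂`
        calc a * b = (q⁻¹ * (w * q * w⁻¹)) * (e * (q'⁻¹ * (w * q' * w⁻¹))) * e' := by rw [h1, h2]; group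
          _ = (q⁻¹ * (w * q * w⁻¹)) * ((q'⁻¹ * (w * q' * w⁻¹)) * e) * e' := by rw [e1]
          _ = ((q⁻¹ * (w * q * w⁻¹)) * q'⁻¹) * (w * q' * w⁻¹) * (e * e') := by group
          _ = (q'⁻¹ * (q⁻¹ * (w * q * w⁻¹)) * e2) * (w * q' * w⁻¹) * (e * e') := by rw [h3]
          _ = (q'⁻¹ * (q⁻¹ * (w * q * w⁻¹))) * (e2 * (w * q' * w⁻¹)) * (e * e') := by group
          _ = (q'⁻¹ * (q⁻¹ * (w * q * w⁻¹))) * ((w * q' * w⁻¹) * e2) * (e * e') := by rw [e2']
          _ = _ := by group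
      inv_mem' := by
        rintro a ⟨ha, q, hq, e, he, h1⟩
        refine ⟨inv_mem ha, q⁻¹, inv_mem hq, ?_⟩
        have hc := hL.conj_mem w hw q hq
        obtain ⟨e2, he2, h3⟩ := hcomm _ (inv_mem hc) _ hq
        rcases he with rfl | rfl
        · refine ⟨e2, he2, ?_⟩
          calc a⁻¹ = (w * q * w⁻¹)⁻¹ * q := by rw [h1]; group
            _ = q * (w * q * w⁻¹)⁻¹ * e2 := h3
            _ = _ := by group
        · refine ⟨e2 * zz A, ?_, ?_⟩
          · rcases he2 with rfl | rfl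
            · right; rw [one_mul]
            · left; exact hL.z_sq
          · have h4 : a⁻¹ = (zz A)⁻¹ * ((w * q * w⁻¹)⁻¹ * q) := by rw [h1]; group
            have h5 := hL.comm_z _ (mul_mem (inv_mem hc) hq)
            rw [h4, hL.z_inv, ← h5, h3]
            group }
  have hB' : ∀ a, a ∈ B' ↔ a ∈ QQ ∧ ∃ q ∈ QQ, ∃ e : Inst.M.G, (e = 1 ∨ e = zz A) ∧ a = q⁻¹ * (w * q * w⁻¹) * e :=
    fun _ => Iff.rfl
  have hzB : zz A ∈ B' := (hB' _).2 ⟨hL.z_mem, 1, one_mem _, zz A, Or.inr rfl, by group⟩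
  refine ⟨B', fun a ha => ((hB' a).1 ha).1, hzB, ?_, ?_⟩
  · refine card_ge hzB (D := Nat.xor M ID) ?_ ?_ hrk
    · intro k hk
      rw [fd_xor]
      exact Nat.xor_lt_two_pow (hr k hk).2 (rep_one k hk).2
    · intro k hk x hx
      rw [fd_xor, v_xor, fd_ID k hk] at hx
      obtain ⟨y, hy, e⟩ := (hr k hk).1 (dec 11 (2 ^ k)) rfl
      have hRG : ∀ x : Pauli 11, Cd.R x ∈ Inst.M.G := fun x => A.C_le_G (A.grp.Q_le (R_mem_Q x))
      have hRQ : ∀ x : Pauli 11, (⟨Cd.R x, hRG x⟩ : Inst.M.G) ∈ QQ := fun x => mem_PP.2 (R_mem_Q x)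
      rw [hB']
      refine ⟨hRQ x, ⟨Cd.R (dec 11 (2 ^ k)), hRG _⟩, hRQ _, ?_⟩
      have h1 : ab x = ab ((dec 11 (2 ^ k))⁻¹ * y) := by
        rw [ab_mul, ab_inv, hy, hx, add_comm]
        rfl
      rcases (ab_eq_iff _ _).1 h1 with h2 | h2
      · refine ⟨1, Or.inl rfl, ?_⟩
        apply Subtype.ext
        change Cd.R x = (Cd.R (dec 11 (2 ^ k)))⁻¹ * ((w : V ≃ₗ[ℚ] V) * Cd.R (dec 11 (2 ^ k)) * (w : V ≃ₗ[ℚ] V)⁻¹) * 1
        rw [e, h2, map_mul, map_inv, mul_one]
      · refine ⟨zz A, Or.inr rfl, ?_⟩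
        apply Subtype.ext
        change Cd.R x = (Cd.R (dec 11 (2 ^ k)))⁻¹ * ((w : V ≃ₗ[ℚ] V) * Cd.R (dec 11 (2 ^ k)) * (w : V ≃ₗ[ℚ] V)⁻¹) *
          ((zz A : Inst.M.G) : V ≃ₗ[ℚ] V)
        rw [e, h2, map_mul, zz_R, ← map_inv, ← map_mul, ← map_mul, ← map_mul]
        exact congrArg (fun x => Cd.R x)
          (Subgroup.mem_center_iff.1 ((Pauli.mem_center_iff' _).2 (Or.inr rfl)) _).symm
  · intro a ha
    obtain ⟨-, q, hq, e, he, h⟩ := (hB' a).1 ha
    refine ⟨q, hq, ?_⟩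
    rcases he with rfl | rfl
    · left; rw [h, mul_one]
    · right; exact h

end Cfsg.Agent.OddHalf.NI3.Ex.BabyMat

end

-- merged: Cfsg.Agent.OddHalf.NI3.Ex.ChainThree
section

/-!
# Adding an element of order 3 modulo a subgroup (helper88)
-/

set_option autoImplicit false
set_option linter.style.haveILetI false

namespace Cfsg.Agent.OddHalf.NI3.Ex.ChainThree

open Subgroup

variable {G : Type*} [Group G]

theorem conj_inv_mem [Finite G] {H : Subgroup G} {w : G} (hn : ∀ h ∈ H, w * h * w⁻¹ ∈ H) : ∀ h ∈ H, w⁻¹ * h * w ∈ H := by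
  have h1 : ∀ n : ℕ, ∀ h ∈ H, w ^ n * h * (w ^ n)⁻¹ ∈ H := by
    intro n
    induction n with
    | zero => intro h hh; simpa using hh
    | succ n ih =>
      intro h hh
      have := hn _ (ih h hh)
      have e : w ^ (n + 1) * h * (w ^ (n + 1))⁻¹ = w * (w ^ n * h * (w ^ n)⁻¹) * w⁻¹ := by
        rw [pow_succ', mul_inv_rev]; group
      rwa [e]
  intro h hh
  have h2 : w⁻¹ = w ^ (orderOf w - 1) := by
    have h3 := orderOf_pos w
    rw [inv_eq_iff_mul_eq_one, ← pow_succ', Nat.sub_add_cancel h3, pow_orderOf_eq_one]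
  have h4 := h1 (orderOf w - 1) h hh
  rwa [← h2, inv_inv] at h4

theorem step [Finite G] {H : Subgroup G} {w : G} (hn : ∀ h ∈ H, w * h * w⁻¹ ∈ H) (h3 : w * w * w ∈ H) (hw : w ∉ H) :
    ∃ H' : Subgroup G, H ≤ H' ∧ w ∈ H' ∧ Nat.card H' = 3 * Nat.card H ∧
      (∀ x ∈ H', ∃ h ∈ H, x = h ∨ x = w * h ∨ x = w * w * h) ∧ ∀ K : Subgroup G, H ≤ K → w ∈ K → H' ≤ K := by
  have hn' := conj_inv_mem hn
  have hw2 : w * w ∉ H := fun h => hw (by
    have := mul_mem h3 (inv_mem h)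
    have e : w * w * w * (w * w)⁻¹ = w := by group
    rwa [e] at this)
  -- moving `w` to the left
  have hmv : ∀ h ∈ H, ∃ h' ∈ H, h * w = w * h' := fun h hh => ⟨w⁻¹ * h * w, hn' h hh, by group⟩
  have hmv2 : ∀ h ∈ H, ∃ h' ∈ H, h * (w * w) = w * w * h' := fun h hh =>
    ⟨w⁻¹ * (w⁻¹ * h * w) * w, hn' _ (hn' h hh), by group⟩
  let H' : Subgroup G :=
    { carrier := {x | ∃ h ∈ H, x = h ∨ x = w * h ∨ x = w * w * h}
      one_mem' := ⟨1, one_mem _, Or.inl rfl⟩
      mul_mem' := by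
        rintro x y ⟨a, ha, e1⟩ ⟨b, hb, e2⟩
        rcases e1 with e1 | e1 | e1 <;> rcases e2 with e2 | e2 | e2 <;> rw [e1, e2]
        · exact ⟨_, mul_mem ha hb, Or.inl rfl⟩
        · obtain ⟨c, hc, e⟩ := hmv a ha
          exact ⟨_, mul_mem hc hb, Or.inr (Or.inl (by rw [← mul_assoc, e, mul_assoc]))⟩
        · obtain ⟨c, hc, e⟩ := hmv2 a ha
          exact ⟨_, mul_mem hc hb, Or.inr (Or.inr (by rw [← mul_assoc, e, mul_assoc]))⟩
        · exact ⟨_, mul_mem ha hb, Or.inr (Or.inl (by rw [mul_assoc]))⟩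
        · obtain ⟨c, hc, e⟩ := hmv a ha
          exact ⟨_, mul_mem hc hb, Or.inr (Or.inr (by
            calc w * a * (w * b) = w * (a * w) * b := by group
              _ = w * w * (c * b) := by rw [e]; group))⟩
        · obtain ⟨c, hc, e⟩ := hmv2 a ha
          exact ⟨_, mul_mem (mul_mem h3 hc) hb, Or.inl (by
            calc w * a * (w * w * b) = w * (a * (w * w)) * b := by group
              _ = w * w * w * c * b := by rw [e]; group)⟩
        · exact ⟨_, mul_mem ha hb, Or.inr (Or.inr (by rw [mul_assoc (w * w)]))⟩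
        · obtain ⟨c, hc, e⟩ := hmv a ha
          exact ⟨_, mul_mem (mul_mem h3 hc) hb, Or.inl (by
            calc w * w * a * (w * b) = w * w * (a * w) * b := by group
              _ = w * w * w * c * b := by rw [e]; group)⟩
        · obtain ⟨c, hc, e⟩ := hmv2 a ha
          exact ⟨_, mul_mem (mul_mem h3 hc) hb, Or.inr (Or.inl (by
            calc w * w * a * (w * w * b) = w * w * (a * (w * w)) * b := by group
              _ = w * (w * w * w * c * b) := by rw [e]; group))⟩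
      inv_mem' := by
        rintro x ⟨a, ha, e1⟩
        rcases e1 with e1 | e1 | e1 <;> rw [e1]
        · exact ⟨_, inv_mem ha, Or.inl rfl⟩
        · refine ⟨(w⁻¹ * (w⁻¹ * a⁻¹ * w) * w) * (w * w * w)⁻¹, mul_mem (hn' _ (hn' _ (inv_mem ha))) (inv_mem h3),
            Or.inr (Or.inr (by group))⟩
        · refine ⟨(w⁻¹ * a⁻¹ * w) * (w * w * w)⁻¹, mul_mem (hn' _ (inv_mem ha)) (inv_mem h3),
            Or.inr (Or.inl (by group))⟩ }
  have hmem : ∀ x, x ∈ H' ↔ ∃ h ∈ H, x = h ∨ x = w * h ∨ x = w * w * h := fun _ => Iff.rfl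
  refine ⟨H', fun x hx => ⟨x, hx, Or.inl rfl⟩, ⟨1, one_mem _, Or.inr (Or.inl (mul_one _).symm)⟩, ?_,
    fun x hx => hx, ?_⟩
  · let f : Fin 3 × H → H' := fun p => ⟨w ^ (p.1 : ℕ) * p.2, by
      rw [hmem]
      refine ⟨p.2, p.2.2, ?_⟩
      obtain ⟨i, h⟩ := p
      fin_cases i
      · left; simp
      · right; left; simp
      · right; right
        change w ^ 2 * (h : G) = _
        rw [pow_two]⟩
    have hf : Function.Bijective f := by
      constructor
      · rintro ⟨i, a⟩ ⟨j, b⟩ h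
        have h4 : w ^ (i : ℕ) * (a : G) = w ^ (j : ℕ) * b := congrArg Subtype.val h
        have key : ∀ (i j : ℕ) (a b : H), i < j → j < 3 → w ^ i * (a : G) = w ^ j * b → False := by
          intro i j a b hij hj h
          have h5 : w ^ (j - i) * (b : G) = a := by
            have h6 : w ^ j = w ^ i * w ^ (j - i) := by rw [← pow_add]; congr 1; omega
            rw [h6, mul_assoc] at h
            exact (mul_left_cancel h).symm
          have h6 : w ^ (j - i) ∈ H := by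
            have : w ^ (j - i) = a * (b : G)⁻¹ := by rw [← h5]; group
            rw [this]
            exact mul_mem a.2 (inv_mem b.2)
          have h7 : j - i = 1 ∨ j - i = 2 := by omega
          rcases h7 with h7 | h7
          · rw [h7, pow_one] at h6; exact hw h6
          · rw [h7, pow_two] at h6; exact hw2 h6
        rcases lt_trichotomy (i : ℕ) j with h5 | h5 | h5
        · exact (key _ _ a b h5 j.2 h4).elim
        · rw [h5] at h4
          have h6 : a = b := Subtype.ext (mul_left_cancel h4)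
          have h7 : i = j := Fin.ext h5
          rw [h6, h7]
        · exact (key _ _ b a h5 i.2 h4.symm).elim
      · rintro ⟨x, hx⟩
        obtain ⟨h, hh, rfl | rfl | rfl⟩ := hx
        · exact ⟨(0, ⟨_, hh⟩), Subtype.ext (by simp [f])⟩
        · exact ⟨(1, ⟨_, hh⟩), Subtype.ext (by simp [f])⟩
        · exact ⟨(2, ⟨_, hh⟩), Subtype.ext (by
            change w ^ 2 * h = _
            rw [pow_two])⟩
    rw [← Nat.card_congr (Equiv.ofBijective f hf), Nat.card_prod, Nat.card_eq_fintype_card, Fintype.card_fin]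
  · rintro K hK hwK _ ⟨h, hh, rfl | rfl | rfl⟩
    · exact hK hh
    · exact mul_mem hwK (hK hh)
    · exact mul_mem (mul_mem hwK hwK) (hK hh)

/-- A `p`-element has a conjugate in every subgroup of index not divisible by `p`. -/
theorem exists_conj {C : Type*} [Group C] [Finite C] {p : ℕ} [Fact p.Prime] {H : Subgroup C} (hi : ¬ p ∣ H.index) {w : C}
    (hw : ∃ k : ℕ, w ^ p ^ k = 1) : ∃ c : C, c⁻¹ * w * c ∈ H := by
  have hp : IsPGroup p (zpowers w) := by
    obtain ⟨k, hk⟩ := hw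
    rintro ⟨x, hx⟩
    obtain ⟨i, rfl⟩ := mem_zpowers_iff.1 hx
    refine ⟨k, Subtype.ext ?_⟩
    change (w ^ i) ^ p ^ k = 1
    rw [← zpow_natCast, ← zpow_mul, mul_comm, zpow_mul, zpow_natCast, hk, one_zpow]
  obtain ⟨a, ha⟩ := hp.nonempty_fixed_point_of_prime_not_dvd_card (C ⧸ H) (by rwa [← Subgroup.index_eq_card])
  obtain ⟨g, rfl⟩ := QuotientGroup.mk_surjective a
  have h1 := ha ⟨w, mem_zpowers w⟩
  have h2 : (QuotientGroup.mk (w * g) : C ⧸ H) = QuotientGroup.mk g := h1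
  rw [QuotientGroup.eq] at h2
  refine ⟨g, ?_⟩
  have h3 := inv_mem h2
  have e : ((w * g)⁻¹ * g)⁻¹ = g⁻¹ * w * g := by group
  rwa [← e]

end Cfsg.Agent.OddHalf.NI3.Ex.ChainThree

end

-- merged: Cfsg.Agent.OddHalf.NI3.Ex.BabySyl
section

/-!
# Six elements of `C(z)` in the Baby Monster which generate a Sylow 3-subgroup modulo `Q`
(helper88)
-/

set_option autoImplicit false
set_option linter.style.haveILetI false

namespace Cfsg.Agent.OddHalf.NI3.Ex.BabySyl

open Cfsg.Agent.Monster Cfsg.Agent.Monster.VecEngine Cfsg.Agent.Monster.VecSpace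
open Cfsg.Agent.Monster.PauliBasic Cfsg.Agent.Monster.PauliRep Cfsg.Agent.Monster.PauliClif Cfsg.Agent.Monster.PauliBits
open Cfsg.Agent.BabyM Cfsg.Agent.BabyM.QAct Cfsg.Agent.BabyM.Model Cfsg.Agent.BabyM.Conc Cfsg.Agent.BabyM.KTab
open Cfsg.Agent.BabyM.KRow Cfsg.Agent.BabyM.KQ Cfsg.Agent.BabyM.KRowData Cfsg.Agent.BabyM.QIrrInst
open Cfsg.Agent.OddHalf.NI3.Ex.PackM Cfsg.Agent.OddHalf.NI3.Ex.BabyMat

/-- the matrix of `y1` -/
def M_y1 : ℕ := nat_lit 109944028300512093524711912799965480114279835906812985667707731869144910403008891331745394370759175016072146763517064223817997725468259586724808483337020638209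

/-- the matrix of `y2` -/
def M_y2 : ℕ := nat_lit 110051290762674839060325295889016582164113180839952567552982583648471167631031075362622902674737846782208218203486609488259097089214935542885057885755792162817

/-- the matrix of `y3` -/
def M_y3 : ℕ := nat_lit 110265920438546609650350048376223336129744232611135035128364887804402350327196338449946335482506086764719326203004471869529541212005139637201686423669020033025

/-- the matrix of `y4` -/
def M_y4 : ℕ := nat_lit 110694865543149752801884469058232593283991817521277929649386395011423726903918145180395369520239898053204818728060420251732999773853956598235769254549074739201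

/-- the matrix of `y5` -/
def M_y5 : ℕ := nat_lit 111552965251540168723290609990778586775580860548326584594904509603533595676385971929315667020039966887530572645113041734251560826689537997377930912569963315201

/-- the matrix of `y6` -/
def M_y6 : ℕ := nat_lit 113269583659577915714251078348384581343737808324839682385862084843249551675834945202734897721159950913760847523218364453524887752094996109017134009493057699841

/-- the matrix of `y7` -/
def M_y7 : ℕ := nat_lit 116702401484065589059532307055405306870865769841693303039015633279743408005365535479577083622236608687465198853014686347816109608399371467393143517977178537985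

/-- the matrix of `y8` -/
def M_y8 : ℕ := nat_lit 123566361155944593985163122865580409388464501237154701839395253382563146574994386350656160542579463906587036869874869927476658727112655502640860252429193576449

/-- the matrix of `y9` -/
def M_y9 : ℕ := nat_lit 137295956476068456469981627093770232206469826331053226456732472622842076876960898092016793140971693130372001458796945312881959706264563457178590731212249104385

/-- the matrix of `y10` -/
def M_y10 : ℕ := nat_lit 164755199490775064952529999834626742606884062508416975939440325474300073085225477167470757483992330089334750007904113404978518864743214054644940477114995441665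

/-- the matrix of `p` -/
def M_p : ℕ := nat_lit 109836768509945064975648331154295350794880538614961813687938266340586730206969649145896364432278066356866899369033732754369920584103804228411399185567846498635

/-- the matrix of `p10` -/
def M_p10 : ℕ := nat_lit 109836762743201324809755043721667570295019481826632637997213091290562016797059180895907246803984946306365627211859164990308083604224478889723534532338092343328

/-- the matrix of `h` -/
def M_h : ℕ := nat_lit 109836763010260471214545054239974697033142183047012852872371578004404254590637158389601062353400748078729534078097018219715274374269341170614161778936008146945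

/-- the matrix of `xi` -/
def M_xi : ℕ := nat_lit 163719076612060811426398255171961626540111062561129828884102984022672649909620749443203898331902156870148611476241262798050079923045850909049243079981306720955

theorem rep_y1 : Rep (E .y1) M_y1 := rep_of KRelY1.rel_y1 (by decide +kernel)

theorem rep_y2 : Rep (E .y2) M_y2 := rep_of KRelY1.rel_y2 (by decide +kernel)

theorem rep_y3 : Rep (E .y3) M_y3 := rep_of KRelY1.rel_y3 (by decide +kernel)

theorem rep_y4 : Rep (E .y4) M_y4 := rep_of KRelY1.rel_y4 (by decide +kernel)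

theorem rep_y5 : Rep (E .y5) M_y5 := rep_of KRelY1.rel_y5 (by decide +kernel)

theorem rep_y6 : Rep (E .y6) M_y6 := rep_of KRelY2.rel_y6 (by decide +kernel)

theorem rep_y7 : Rep (E .y7) M_y7 := rep_of KRelY2.rel_y7 (by decide +kernel)

theorem rep_y8 : Rep (E .y8) M_y8 := rep_of KRelY2.rel_y8 (by decide +kernel)

theorem rep_y9 : Rep (E .y9) M_y9 := rep_of KRelY2.rel_y9 (by decide +kernel)

theorem rep_y10 : Rep (E .y10) M_y10 := rep_of KRelY2.rel_y10 (by decide +kernel)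

theorem rep_p : Rep (E .p) M_p := rep_of KRelP.rel_p (by decide +kernel)

theorem rep_h : Rep (E .h) M_h := rep_of KRelP.rel_h (by decide +kernel)

theorem rep_xi : Rep (E .xi) M_xi := rep_of KRelXi.rel_xi (by decide +kernel)

/-- powers -/
noncomputable def mpow (A n : ℕ) : ℕ := Nat.rec ID (fun _ ih => mulM A ih) n

theorem rep_pow {g : V ≃ₗ[ℚ] V} {A : ℕ} (h : Rep g A) (n : ℕ) : Rep (g ^ n) (mpow A n) := by
  induction n with
  | zero => rw [pow_zero]; exact rep_one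
  | succ n ih => rw [pow_succ']; exact h.mul ih

theorem M_p10_eq : mpow M_p 10 = M_p10 := by decide +kernel

theorem rep_p10 : Rep (E .p10) M_p10 := by
  rw [TransInv.pow_ten, ← M_p10_eq]
  exact rep_pow rep_p 10

/-- the letters -/
def ok : Ltr → Bool

  | .y1 => true
  | .y2 => true
  | .y3 => true
  | .y4 => true
  | .y5 => true
  | .y6 => true
  | .y7 => true
  | .y8 => true
  | .y9 => true
  | .y10 => true
  | .p => true
  | .p10 => true
  | .h => true
  | .xi => true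
  | _ => false

/-- the matrix of a letter -/
def mat : Ltr → ℕ
  | .y1 => M_y1
  | .y2 => M_y2
  | .y3 => M_y3
  | .y4 => M_y4
  | .y5 => M_y5
  | .y6 => M_y6
  | .y7 => M_y7
  | .y8 => M_y8
  | .y9 => M_y9
  | .y10 => M_y10
  | .p => M_p
  | .p10 => M_p10
  | .h => M_h
  | .xi => M_xi
  | _ => nat_lit 0

theorem rep_mat {l : Ltr} (h : ok l = true) : Rep (E l) (mat l) := by
  cases l <;> first
    | exact absurd (show false = true from h) (by simp)
    | exact rep_y1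
    | exact rep_y2
    | exact rep_y3
    | exact rep_y4
    | exact rep_y5
    | exact rep_y6
    | exact rep_y7
    | exact rep_y8
    | exact rep_y9
    | exact rep_y10
    | exact rep_p
    | exact rep_p10
    | exact rep_h
    | exact rep_xi

theorem okC {l : Ltr} (h : ok l = true) : ConcGrp.inC l = true := by
  cases l <;> first
    | rfl
    | exact absurd (show false = true from h) (by simp)

/-- the product of the letters -/
noncomputable def wd (l : List Ltr) : V ≃ₗ[ℚ] V := (l.map E).prod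

/-- the product of the matrices -/
noncomputable def ml (l : List Ltr) : ℕ := List.rec ID (fun a _ ih => mulM (mat a) ih) l

theorem rep_wd {l : List Ltr} (h : l.all ok = true) : Rep (wd l) (ml l) := by
  induction l with
  | nil => exact rep_one
  | cons a l ih =>
    rw [List.all_cons, Bool.and_eq_true] at h
    have h1 : wd (a :: l) = E a * wd l := by
      unfold wd; rw [List.map_cons, List.prod_cons]
    rw [h1]
    exact (rep_mat h.1).mul (ih h.2)

theorem wd_C {l : List Ltr} (h : l.all ok = true) : wd l ∈ Inst.M.C := by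
  induction l with
  | nil => exact one_mem _
  | cons a l ih =>
    rw [List.all_cons, Bool.and_eq_true] at h
    have h1 : wd (a :: l) = E a * wd l := by
      unfold wd; rw [List.map_cons, List.prod_cons]
    rw [h1]
    exact mul_mem (ConcGrp.mem_C (okC h.1)) (ih h.2)

/-- the element of `Inst.M.G` -/
noncomputable def el (l : List Ltr) (h : l.all ok = true) : Inst.M.G := ⟨wd l, BabyU.ClosLane.A.C_le_G (wd_C h)⟩

/-- the word -/
def L1 : List Ltr := [.y2, .y10, .xi, .p, .p, .y1, .p, .h, .p10, .h, .p10, .p10, .y9, .xi, .y2]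

/-- the matrix -/
def W1 : ℕ := nat_lit 114264011055206554852911017290973543310888908108480924517880017800273892185096889566022764581924991045266234953237525074796190604204650751901063188373219312051

theorem ok1 : L1.all ok = true := by decide +kernel

theorem ml1 : ml L1 = W1 := by decide +kernel

theorem rep1 : Rep (el L1 ok1 : V ≃ₗ[ℚ] V) W1 := by
  rw [← ml1]; exact rep_wd ok1

/-- the word -/
def L2 : List Ltr := [.y8, .xi, .p10, .y7, .y10, .xi, .p10, .y2, .p10, .p10, .xi, .y3, .p, .xi, .h, .y6, .y4]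

/-- the matrix -/
def W2 : ℕ := nat_lit 111985419430734497848749413542331393096576810674428083301445245162747759789378630218630853325265525705802980771823374103397882575120114768956818017095350484993

theorem ok2 : L2.all ok = true := by decide +kernel

theorem ml2 : ml L2 = W2 := by decide +kernel

theorem rep2 : Rep (el L2 ok2 : V ≃ₗ[ℚ] V) W2 := by
  rw [← ml2]; exact rep_wd ok2

/-- the word -/
def L3 : List Ltr := [.y2, .y10, .xi, .y8, .p10, .y7, .h, .xi, .y8, .p, .y9, .xi, .h, .y10, .xi, .y3]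

/-- the matrix -/
def W3 : ℕ := nat_lit 114264020785684737030317885361829776289247675190325860062788770827518610843387965589120058961011969666528984274218269831164497260679909865744277343101718493881

theorem ok3 : L3.all ok = true := by decide +kernel

theorem ml3 : ml L3 = W3 := by decide +kernel

theorem rep3 : Rep (el L3 ok3 : V ≃ₗ[ℚ] V) W3 := by
  rw [← ml3]; exact rep_wd ok3

/-- the word -/
def L4 : List Ltr := [.y1, .h, .y10, .p, .p, .xi, .p, .y4, .xi, .p10, .xi, .p10, .y10, .h, .xi, .p, .y1]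

/-- the matrix -/
def W4 : ℕ := nat_lit 138159144951303452561585071349421734788534749673734824218408659069127531212793714496265644351607752805773355558723709434032185251582761033966426882993547836774

theorem ok4 : L4.all ok = true := by decide +kernel

theorem ml4 : ml L4 = W4 := by decide +kernel

theorem rep4 : Rep (el L4 ok4 : V ≃ₗ[ℚ] V) W4 := by
  rw [← ml4]; exact rep_wd ok4

/-- the word -/
def L5 : List Ltr := [.p10, .xi, .y5, .y10, .xi, .p10, .y10, .p10, .h, .p10, .p10, .h, .p, .h, .y1]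

/-- the matrix -/
def W5 : ℕ := nat_lit 137295953215711054283412791394661585646873615263081220289498684941572139190707445802457658988474769893656566869372630027973092085007546831085535839163286290464

theorem ok5 : L5.all ok = true := by decide +kernel

theorem ml5 : ml L5 = W5 := by decide +kernel

theorem rep5 : Rep (el L5 ok5 : V ≃ₗ[ℚ] V) W5 := by
  rw [← ml5]; exact rep_wd ok5

/-- the word -/
def L6 : List Ltr := [.y1, .y3, .xi, .y3, .y8, .p10, .xi, .p10, .xi, .y3, .p10, .xi, .y7, .h, .y8, .xi, .y9, .y5]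

/-- the matrix -/
def W6 : ℕ := nat_lit 78719078144281185491703168508175661331935390229040105909940811682361981525893811208119279073761710974370292623311986863935942475474689105213477733026520610348

theorem ok6 : L6.all ok = true := by decide +kernel

theorem ml6 : ml L6 = W6 := by decide +kernel

theorem rep6 : Rep (el L6 ok6 : V ≃ₗ[ℚ] V) W6 := by
  rw [← ml6]; exact rep_wd ok6

end Cfsg.Agent.OddHalf.NI3.Ex.BabySyl

end

-- merged: Cfsg.Agent.OddHalf.NI3.Ex.BabyStage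
section

/-!
# The 3-elements of `C(z)` in the Baby Monster have commutators of dimension at least 10 on `Q / ⟨z⟩`
(helper88)
-/

set_option autoImplicit false
set_option linter.style.haveILetI false

namespace Cfsg.Agent.OddHalf.NI3.Ex.BabyStage

open Cfsg.Agent.BabyM Cfsg.Agent.BabyM.Model Cfsg.Agent.BabyM.Conc
open Cfsg.Agent.OddHalf.NI3.Ex.PackM Cfsg.Agent.OddHalf.NI3.Ex.BabyMat Cfsg.Agent.OddHalf.NI3.Ex.BabySyl
open Cfsg.Agent.BabyU.ClosModel (mem_PP zz)
open Cfsg.Agent.BabyU.ClosLane (A)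
open Cfsg.Agent.Co2Type.Quad

/-- the subgroup `Q` -/
local notation "QQ" => Cfsg.Agent.BabyU.ClosModel.PP Inst.M

/-- `H` is the preimage of a group of matrices which are the products of the list `l`. -/
structure Stage (l : List ℕ) (n : ℕ) (H : Subgroup Inst.M.G) : Prop where
  cen : ∀ h ∈ H, h * zz A = zz A * h
  Qle : QQ ≤ H
  card : Nat.card H = 3 ^ n * Nat.card QQ
  dfs : ∀ (leaf : ℕ → Bool) (P : ℕ), dfs leaf l P = true → ∀ g : V ≃ₗ[ℚ] V, Rep g P → ∀ x ∈ H,
    ∃ M, Rep (g * (x : V ≃ₗ[ℚ] V)) M ∧ leaf M = true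

theorem stage_nil : Stage [] 0 QQ where
  cen := (KFacts.Baby.Inst.large A).comm_z
  Qle := le_rfl
  card := by rw [pow_zero, one_mul]
  dfs := by
    intro leaf P h g hg x hx
    obtain ⟨y, hy⟩ := exists_R hx
    refine ⟨P, ?_, by rwa [dfs_nil] at h⟩
    rw [hy]
    exact hg.mulR y

theorem Stage.step {l : List ℕ} {n : ℕ} {H : Subgroup Inst.M.G} (S : Stage l n H) {w : Inst.M.G}
    (hw : w * zz A = zz A * w) {B : ℕ} (hr : Rep (w : V ≃ₗ[ℚ] V) B) (hn : ∀ h ∈ H, w * h * w⁻¹ ∈ H)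
    (h3 : mulM (mulM B B) B = ID) (hnot : PackM.dfs (leafN B) l ID = true) :
    ∃ H' : Subgroup Inst.M.G, Stage (B :: l) (n + 1) H' ∧ H ≤ H' ∧ w ∈ H' ∧
      ∀ K : Subgroup Inst.M.G, H ≤ K → w ∈ K → H' ≤ K := by
  haveI := A.finite_G
  have hw3 : w * w * w ∈ H := by
    apply S.Qle
    refine mem_of_id ?_ ?_
    · have hc : Commute w (zz A) := hw
      exact ((hc.mul_left hc).mul_left hc)
    · rw [← h3]
      exact (hr.mul hr).mul hr
  have hwH : w ∉ H := by
    intro hwH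
    obtain ⟨M, hM, hl⟩ := S.dfs _ _ hnot 1 rep_one w hwH
    rw [one_mul] at hM
    exact leafN_spec hl (hM.unique hr)
  obtain ⟨H', h1, h2, h4, h5, h6⟩ := ChainThree.step hn hw3 hwH
  refine ⟨H', ⟨?_, S.Qle.trans h1, ?_, ?_⟩, h1, h2, h6⟩
  · have hC : H' ≤ Subgroup.centralizer ({zz A} : Set Inst.M.G) := by
      refine h6 _ (fun h hh => Subgroup.mem_centralizer_singleton_iff.2 (S.cen h hh)) ?_
      exact Subgroup.mem_centralizer_singleton_iff.2 hw
    exact fun h hh => Subgroup.mem_centralizer_singleton_iff.1 (hC hh)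
  · rw [h4, S.card, pow_succ]; ring
  · intro leaf P h g hg x hx
    rw [dfs_cons, Bool.and_eq_true, Bool.and_eq_true] at h
    obtain ⟨k, hk, h7 | h7 | h7⟩ := h5 x hx
    · obtain ⟨M, hM, hl⟩ := S.dfs leaf P h.1 g hg k hk
      exact ⟨M, by rw [h7]; exact hM, hl⟩
    · obtain ⟨M, hM, hl⟩ := S.dfs leaf _ h.2.1 (g * (w : V ≃ₗ[ℚ] V)) (hg.mul hr) k hk
      refine ⟨M, ?_, hl⟩
      rw [h7]
      have e : g * ((w * k : Inst.M.G) : V ≃ₗ[ℚ] V) = g * (w : V ≃ₗ[ℚ] V) * k := (mul_assoc _ _ _).symm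
      rwa [e]
    · obtain ⟨M, hM, hl⟩ := S.dfs leaf _ h.2.2 (g * (w : V ≃ₗ[ℚ] V) * (w : V ≃ₗ[ℚ] V)) ((hg.mul hr).mul hr) k hk
      refine ⟨M, ?_, hl⟩
      rw [h7]
      have e : g * ((w * w * k : Inst.M.G) : V ≃ₗ[ℚ] V) = g * (w : V ≃ₗ[ℚ] V) * w * k := by
        change g * ((w : V ≃ₗ[ℚ] V) * w * k) = _
        group
      rwa [e]

/-- the matrices of the elements of `H` -/
def In (H : Subgroup Inst.M.G) (U : ℕ) : Prop := ∃ u ∈ H, Rep (u : V ≃ₗ[ℚ] V) U

theorem In.mul {H : Subgroup Inst.M.G} {U U' : ℕ} (h : In H U) (h' : In H U') : In H (mulM U U') := by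
  obtain ⟨u, hu, hr⟩ := h
  obtain ⟨u', hu', hr'⟩ := h'
  exact ⟨u * u', mul_mem hu hu', hr.mul hr'⟩

theorem Stage.conj {l : List ℕ} {n : ℕ} {H : Subgroup Inst.M.G} (S : Stage l n H) {w w' : Inst.M.G}
    (hw : w * zz A = zz A * w) (hw' : w' * zz A = zz A * w') {B B' U : ℕ} (hr : Rep (w : V ≃ₗ[ℚ] V) B)
    (hr' : Rep (w' : V ≃ₗ[ℚ] V) B') (hU : In H U) (he : mulM B B' = mulM U B) : w * w' * w⁻¹ ∈ H := by
  obtain ⟨u, hu, hru⟩ := hU
  have hL := KFacts.Baby.Inst.large A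
  have hm : ∀ {a b : Inst.M.G}, a * zz A = zz A * a → b * zz A = zz A * b → (a * b) * zz A = zz A * (a * b) := by
    intro a b ha hb
    rw [mul_assoc, hb, ← mul_assoc, ha, mul_assoc]
  have h1 : (u * w)⁻¹ * (w * w') ∈ QQ := mem_of_eq (hm (S.cen u hu) hw) (hm hw hw') (hru.mul hr) (hr.mul hr') he.symm
  have h2 := hL.conj_mem w hw _ h1
  have e : w * w' * w⁻¹ = u * (w * ((u * w)⁻¹ * (w * w')) * w⁻¹) := by group
  rw [e]
  exact mul_mem hu (S.Qle h2)

/-- the normalizer as a condition -/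
theorem conj_le {H K : Subgroup Inst.M.G} (w : Inst.M.G) (h : H ≤ K.comap (MulAut.conj w).toMonoidHom) :
    ∀ x ∈ H, w * x * w⁻¹ ∈ K := fun _ hx => h hx

theorem el_cen {l : List Ltr} (h : l.all ok = true) : el l h * zz A = zz A * el l h :=
  Subgroup.mem_centralizer_singleton_iff.1 ((KFacts.Baby.Inst.mem_cen A).2 (wd_C h))

theorem cube1 : mulM (mulM W1 W1) W1 = ID := by decide +kernel

theorem cube2 : mulM (mulM W2 W2) W2 = ID := by decide +kernel

theorem cube3 : mulM (mulM W3 W3) W3 = ID := by decide +kernel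

theorem cube4 : mulM (mulM W4 W4) W4 = ID := by decide +kernel

theorem cube5 : mulM (mulM W5 W5) W5 = ID := by decide +kernel

theorem cube6 : mulM (mulM W6 W6) W6 = ID := by decide +kernel

theorem not1 : PackM.dfs (leafN W1) [W2, W3, W4, W5, W6] ID = true := by decide +kernel

theorem not2 : PackM.dfs (leafN W2) [W3, W4, W5, W6] ID = true := by decide +kernel

theorem not3 : PackM.dfs (leafN W3) [W4, W5, W6] ID = true := by decide +kernel

theorem not4 : PackM.dfs (leafN W4) [W5, W6] ID = true := by decide +kernel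

theorem not5 : PackM.dfs (leafN W5) [W6] ID = true := by decide +kernel

theorem not6 : PackM.dfs (leafN W6) [] ID = true := by decide +kernel

theorem rel56 : mulM W5 W6 = mulM W6 W5 := by decide +kernel

theorem rel46 : mulM W4 W6 = mulM W6 W4 := by decide +kernel

theorem rel45 : mulM W4 W5 = mulM (mulM W5 (mulM W6 W6)) W4 := by decide +kernel

theorem rel36 : mulM W3 W6 = mulM W6 W3 := by decide +kernel

theorem rel35 : mulM W3 W5 = mulM (mulM W5 W6) W3 := by decide +kernel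

theorem rel34 : mulM W3 W4 = mulM W4 W3 := by decide +kernel

theorem rel26 : mulM W2 W6 = mulM W6 W2 := by decide +kernel

theorem rel25 : mulM W2 W5 = mulM W5 W2 := by decide +kernel

theorem rel24 : mulM W2 W4 = mulM (mulM W4 (mulM W5 (mulM W6 W6))) W2 := by decide +kernel

theorem rel23 : mulM W2 W3 = mulM (mulM W3 (mulM (mulM W5 W5) (mulM W6 W6))) W2 := by decide +kernel

theorem rel16 : mulM W1 W6 = mulM W6 W1 := by decide +kernel

theorem rel15 : mulM W1 W5 = mulM W5 W1 := by decide +kernel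

theorem rel14 : mulM W1 W4 = mulM (mulM W4 W6) W1 := by decide +kernel

theorem rel13 : mulM W1 W3 = mulM W3 W1 := by decide +kernel

theorem rel12 : mulM W1 W2 = mulM (mulM (mulM W2 W3) (mulM W4 W6)) W1 := by decide +kernel

/-- **The Sylow 3-subgroup.** -/
theorem exists_top : ∃ H : Subgroup Inst.M.G, Stage [W1, W2, W3, W4, W5, W6] 6 H := by
  have hL := KFacts.Baby.Inst.large A
  obtain ⟨w1, c1, r1⟩ : ∃ w : Inst.M.G, w * zz A = zz A * w ∧ Rep (w : V ≃ₗ[ℚ] V) W1 := ⟨el L1 ok1, el_cen ok1, rep1⟩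
  obtain ⟨w2, c2, r2⟩ : ∃ w : Inst.M.G, w * zz A = zz A * w ∧ Rep (w : V ≃ₗ[ℚ] V) W2 := ⟨el L2 ok2, el_cen ok2, rep2⟩
  obtain ⟨w3, c3, r3⟩ : ∃ w : Inst.M.G, w * zz A = zz A * w ∧ Rep (w : V ≃ₗ[ℚ] V) W3 := ⟨el L3 ok3, el_cen ok3, rep3⟩
  obtain ⟨w4, c4, r4⟩ : ∃ w : Inst.M.G, w * zz A = zz A * w ∧ Rep (w : V ≃ₗ[ℚ] V) W4 := ⟨el L4 ok4, el_cen ok4, rep4⟩
  obtain ⟨w5, c5, r5⟩ : ∃ w : Inst.M.G, w * zz A = zz A * w ∧ Rep (w : V ≃ₗ[ℚ] V) W5 := ⟨el L5 ok5, el_cen ok5, rep5⟩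
  obtain ⟨w6, c6, r6⟩ : ∃ w : Inst.M.G, w * zz A = zz A * w ∧ Rep (w : V ≃ₗ[ℚ] V) W6 := ⟨el L6 ok6, el_cen ok6, rep6⟩
  obtain ⟨H6, S6, -, m6, g6⟩ := stage_nil.step c6 r6 (hL.conj_mem _ c6) cube6 not6
  have hQ6 : ∀ w : Inst.M.G, w * zz A = zz A * w → QQ ≤ H6.comap (MulAut.conj w).toMonoidHom :=
    fun w hw x hx => S6.Qle (hL.conj_mem w hw x hx)
  have i66 : In H6 W6 := ⟨w6, m6, r6⟩
  -- w5
  obtain ⟨H5, S5, l56, m5, g5⟩ := S6.step c5 r5 (conj_le _ (g6 _ (hQ6 _ c5)
    (S6.conj c5 c6 r5 r6 i66 rel56))) cube5 not5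
  have hQ5 : ∀ w : Inst.M.G, w * zz A = zz A * w → QQ ≤ H5.comap (MulAut.conj w).toMonoidHom :=
    fun w hw x hx => S5.Qle (hL.conj_mem w hw x hx)
  have i56 : In H5 W6 := ⟨w6, l56 m6, r6⟩
  have i55 : In H5 W5 := ⟨w5, m5, r5⟩
  -- w4
  obtain ⟨H4, S4, l45, m4, g4⟩ := S5.step c4 r4 (conj_le _ (g5 _ (g6 _ (hQ5 _ c4)
      (S5.conj c4 c6 r4 r6 i56 rel46))
      (S5.conj c4 c5 r4 r5 (i55.mul (i56.mul i56)) rel45))) cube4 not4
  have hQ4 : ∀ w : Inst.M.G, w * zz A = zz A * w → QQ ≤ H4.comap (MulAut.conj w).toMonoidHom :=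
    fun w hw x hx => S4.Qle (hL.conj_mem w hw x hx)
  have i46 : In H4 W6 := ⟨w6, l45 (l56 m6), r6⟩
  have i45 : In H4 W5 := ⟨w5, l45 m5, r5⟩
  have i44 : In H4 W4 := ⟨w4, m4, r4⟩
  -- w3
  obtain ⟨H3, S3, l34, m3, g3⟩ := S4.step c3 r3 (conj_le _ (g4 _ (g5 _ (g6 _ (hQ4 _ c3)
      (S4.conj c3 c6 r3 r6 i46 rel36))
      (S4.conj c3 c5 r3 r5 (i45.mul i46) rel35))
      (S4.conj c3 c4 r3 r4 i44 rel34))) cube3 not3
  have hQ3 : ∀ w : Inst.M.G, w * zz A = zz A * w → QQ ≤ H3.comap (MulAut.conj w).toMonoidHom :=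
    fun w hw x hx => S3.Qle (hL.conj_mem w hw x hx)
  have i36 : In H3 W6 := ⟨w6, l34 (l45 (l56 m6)), r6⟩
  have i35 : In H3 W5 := ⟨w5, l34 (l45 m5), r5⟩
  have i34 : In H3 W4 := ⟨w4, l34 m4, r4⟩
  have i33 : In H3 W3 := ⟨w3, m3, r3⟩
  -- w2
  obtain ⟨H2, S2, l23, m2, g2⟩ := S3.step c2 r2 (conj_le _ (g3 _ (g4 _ (g5 _ (g6 _ (hQ3 _ c2)
      (S3.conj c2 c6 r2 r6 i36 rel26))
      (S3.conj c2 c5 r2 r5 i35 rel25))
      (S3.conj c2 c4 r2 r4 (i34.mul (i35.mul (i36.mul i36))) rel24))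
      (S3.conj c2 c3 r2 r3 (i33.mul ((i35.mul i35).mul (i36.mul i36))) rel23)))
      cube2 not2
  have hQ2 : ∀ w : Inst.M.G, w * zz A = zz A * w → QQ ≤ H2.comap (MulAut.conj w).toMonoidHom :=
    fun w hw x hx => S2.Qle (hL.conj_mem w hw x hx)
  have i26 : In H2 W6 := ⟨w6, l23 (l34 (l45 (l56 m6))), r6⟩
  have i25 : In H2 W5 := ⟨w5, l23 (l34 (l45 m5)), r5⟩
  have i24 : In H2 W4 := ⟨w4, l23 (l34 m4), r4⟩
  have i23 : In H2 W3 := ⟨w3, l23 m3, r3⟩
  have i22 : In H2 W2 := ⟨w2, m2, r2⟩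
  -- w1
  obtain ⟨H1, S1, -, -, -⟩ := S2.step c1 r1 (conj_le _ (g2 _ (g3 _ (g4 _ (g5 _ (g6 _ (hQ2 _ c1)
      (S2.conj c1 c6 r1 r6 i26 rel16))
      (S2.conj c1 c5 r1 r5 i25 rel15))
      (S2.conj c1 c4 r1 r4 (i24.mul i26) rel14))
      (S2.conj c1 c3 r1 r3 i23 rel13))
      (S2.conj c1 c2 r1 r2 ((i22.mul i23).mul (i24.mul i26)) rel12)))
      cube1 not1
  exact ⟨H1, S1⟩

/-- **The ranks.** -/
theorem ranks : dfs leafR [W1, W2, W3, W4, W5, W6] ID = true := by decide +kernel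

end Cfsg.Agent.OddHalf.NI3.Ex.BabyStage

end

-- merged: Cfsg.Agent.OddHalf.NI3.Ex.RowB
section

/-!
# Row `No3` of (EX3): the Baby Monster (helper88)

`LongFixC.no3` for the large extraspecial subgroup `2^{1+22}`: every 3-element `≠ 1` of `C(z)` has commutator of
dimension at least 10 on `Q / ⟨z⟩` (`BabyStage.ranks`).
-/

set_option autoImplicit false
set_option linter.style.haveILetI false

namespace Cfsg.Agent.OddHalf.NI3.Ex.RowB

open Subgroup Cfsg Cfsg.Agent.OddHalf.NI Cfsg.Agent.OddHalf.NI.Ex Cfsg.Agent.OddHalf.LieOddFam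
open Cfsg.Agent.BabyM Cfsg.Agent.BabyM.Model Cfsg.Agent.BabyM.Conc
open Cfsg.Agent.OddHalf.NI3.Ex.PackM Cfsg.Agent.OddHalf.NI3.Ex.BabyMat Cfsg.Agent.OddHalf.NI3.Ex.BabySyl
open Cfsg.Agent.OddHalf.NI3.Ex.BabyStage Cfsg.Agent.OddHalf.NI3.Ex.LongFix
open Cfsg.Agent.BabyU.ClosModel (mem_PP zz)
open Cfsg.Agent.BabyU.ClosLane (A)
open Cfsg.Agent.Co2Type.Quad

universe u

/-- the subgroup `Q` -/
local notation "QQ" => Cfsg.Agent.BabyU.ClosModel.PP Inst.M

theorem hbig (w : Inst.M.G) (hw : w * zz A = zz A * w) (h3 : ∃ k : ℕ, w ^ 3 ^ k = 1) (h1 : w ≠ 1) :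
    Big QQ (zz A) w := by
  haveI := A.finite_G
  haveI : Fact (Nat.Prime 3) := ⟨Nat.prime_three⟩
  have hL := KFacts.Baby.Inst.large A
  obtain ⟨H, S⟩ := exists_top
  set C : Subgroup Inst.M.G := centralizer ({zz A} : Set Inst.M.G) with hC
  have hHC : H ≤ C := fun h hh => mem_centralizer_singleton_iff.2 (S.cen h hh)
  have hcard : Nat.card C = 2 ^ 23 * 42305421312000 := by
    rw [Nat.card_congr (KFacts.Baby.Inst.eC A).toEquiv, A.grp.card_C]
  have hidx : ¬ 3 ∣ (H.subgroupOf C).index := by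
    intro hdvd
    have h2 := (H.subgroupOf C).card_mul_index
    rw [hcard, Nat.card_congr (subgroupOfEquivOfLe hHC).toEquiv, S.card] at h2
    obtain ⟨m, hm⟩ := hdvd
    rw [hm] at h2
    have h4 : 3 ^ 7 ∣ 2 ^ 23 * 42305421312000 := ⟨Nat.card QQ * m, by rw [← h2]; ring⟩
    revert h4
    norm_num
  have hwC : w ∈ C := mem_centralizer_singleton_iff.2 hw
  obtain ⟨k, hk⟩ := h3
  obtain ⟨c, hc⟩ := ChainThree.exists_conj hidx (w := ⟨w, hwC⟩) ⟨k, Subtype.ext hk⟩
  have hc' : (c : Inst.M.G)⁻¹ * w * c ∈ H := hc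
  have hcz : (c : Inst.M.G) * zz A = zz A * c := mem_centralizer_singleton_iff.1 c.2
  set s := (c : Inst.M.G)⁻¹ * w * c with hs
  obtain ⟨M, hM, hl⟩ := S.dfs leafR ID ranks 1 rep_one s hc'
  rw [one_mul] at hM
  have hsz := S.cen s hc'
  have hs1 : s ≠ 1 := by
    intro h
    apply h1
    calc w = c * s * (c : Inst.M.G)⁻¹ := by rw [hs]; group
      _ = 1 := by rw [h]; group
  have hsk : s ^ 3 ^ k = 1 := by
    have e : s = (c : Inst.M.G)⁻¹ * w * (c : Inst.M.G)⁻¹⁻¹ := by rw [hs, inv_inv]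
    rw [e, conj_pow, hk, mul_one, mul_inv_cancel]
  rcases leafR_spec hl with h | h
  · exfalso
    rw [h] at hM
    have hsQ := mem_of_id hsz hM
    have h4 : s ^ 4 = 1 := by
      have e : s ^ 4 = (s * s) * (s * s) := by rw [← pow_two, ← pow_two, ← pow_mul]
      rw [e]
      rcases hL.sq s hsQ with h | h
      · rw [h, mul_one]
      · rw [h, hL.z_sq]
    apply hs1
    rw [← orderOf_eq_one_iff]
    exact Nat.eq_one_of_dvd_coprimes (Nat.Coprime.pow_right k (by norm_num : Nat.Coprime 4 3))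
      (orderOf_dvd_of_pow_eq_one h4) (orderOf_dvd_of_pow_eq_one hsk)
  · have h2 := LongFixC.Big.conj (c : Inst.M.G) (w := w) (BabyMat.big hsz hM h)
    have e1 : (c : Inst.M.G) * zz A * (c : Inst.M.G)⁻¹ = zz A := by rw [hcz, mul_inv_cancel_right]
    have e2 : (QQ).map (MulAut.conj (c : Inst.M.G)).toMonoidHom = QQ := by
      apply le_antisymm
      · rintro _ ⟨q, hq, rfl⟩
        exact hL.conj_mem _ hcz q hq
      · intro q hq
        have hcz' : (c : Inst.M.G)⁻¹ * zz A = zz A * (c : Inst.M.G)⁻¹ := by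
          rw [inv_mul_eq_iff_eq_mul, ← mul_assoc, hcz, mul_inv_cancel_right]
        refine ⟨_, hL.conj_mem _ hcz' q hq, ?_⟩
        change (c : Inst.M.G) * ((c : Inst.M.G)⁻¹ * q * (c : Inst.M.G)⁻¹⁻¹) * (c : Inst.M.G)⁻¹ = q
        group
    rwa [e1, e2] at h2

/-- the group of the model -/
theorem model {α : MulAut Inst.M.G} (hα : orderOf α = 2) {J : Subgroup Inst.M.G} (hJ : CompIn (fix α) J)
    (hr : Rk (↥J ⧸ center ↥J) 3) : False := by
  haveI := A.finite_G
  have hL := KFacts.Baby.Inst.large A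
  have hne : ∃ x ∈ QQ, x ≠ 1 ∧ x ≠ zz A := by
    obtain ⟨n₀, h1, h2, -⟩ := KFacts.Baby.Inst.gen A
    refine ⟨_, h1, fun h => hL.z_ne ?_, h2⟩
    have h3 : n₀ * zz A = n₀ := by
      have := congrArg (· * n₀) h
      simpa using this
    exact mul_eq_left.1 h3
  exact LongFixC.no3 hL (KFacts.Baby.Inst.odd_index A)
    (fun β hβ q hq => KFacts.AutLarge.map_mem hL (KFacts.Baby.Inst.irr' A) hne hβ hq) hbig hα hJ hr

/-- **Row `B`.** -/
theorem no3_b {X : Type u} [Group X] (h : Spor.IsoB X) : No3 X := by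
  obtain ⟨e⟩ := KFacts.Baby.RowB.exists_iso h
  intro α hα J hJ _ hr
  exfalso
  set α' : MulAut Inst.M.G := MulAut.congr e.symm α with hα'
  have h1 : orderOf α' = 2 := by rw [hα', MulEquiv.orderOf_eq, hα]
  have h2 : CompIn (fix α') (J.map e.symm.toMonoidHom) := by
    rw [hα', fix_congr]
    exact compIn_equiv e.symm hJ
  obtain ⟨f⟩ := Fischer919.CentralQuot.equiv_quotient_center (J.equivMapOfInjective e.symm.toMonoidHom e.symm.injective)
  exact model h1 h2 (rk_congr f hr)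

end Cfsg.Agent.OddHalf.NI3.Ex.RowB

end
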