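import Cfsg.Agent.OddHalf.NI3.Ex.USixGeom

-- merged: Cfsg.Agent.OddHalf.NI3.Ex.USixOdd
section

/-!
# (EX), (EX3): the row `U₆(2)`, the form is not alternating (helper5)
-/

set_option autoImplicit false
set_option linter.unusedSectionVars false

namespace Cfsg.Agent.OddHalf.NI3.Ex.USix

open Cfsg Cfsg.Agent.LieClassical.HermBasic Cfsg.Agent.LieClassical.HermSiegel
  Cfsg.Agent.LieClassical.HermGen Cfsg.Agent.LieClassical.SUBasic
  Cfsg.Agent.ClassicalGeometry.UnitAutBasic Cfsg.Agent.LieClassical.FieldTransfer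
  Cfsg.Agent.ClassicalGeometry.PSUAutCount
  Cfsg.Agent.ClassicalGeometry.PSUAutMain Matrix

/-- the action on vectors -/
local notation "ac" => Cfsg.Agent.LieClassical.HermSiegel.act

section Odd

variable {F : Type*} [Field F] [Fintype F] {A : GU 6 F 2} {ρ : F ≃+* F} (I : Inv A ρ)

theorem lam_rep (g : Gam A ρ) (x : V0 A ρ) : lam I (rep A ρ g x) = lam I x := by
  apply Subtype.ext
  rw [coe_lam, coe_lam, coe_rep]
  exact herm_act _ _ _

/-- the vectors `x` with `(x, x) ≠ 0` -/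
abbrev Out (I : Inv A ρ) : Type _ := {x : V0 A ρ // lam I x ≠ 0}

/-- the action on them -/
@[instance_reducible]
noncomputable def actOut (I : Inv A ρ) : MulAction (Gam A ρ) (Out I) where
  smul g x := ⟨rep A ρ g x.1, by rw [lam_rep]; exact x.2⟩
  one_smul x := by
    apply Subtype.ext
    change rep A ρ 1 x.1 = x.1
    rw [map_one]
    rfl
  mul_smul g h x := by
    apply Subtype.ext
    change rep A ρ (g * h) x.1 = rep A ρ g (rep A ρ h x.1)
    rw [map_mul]
    rfl

include I in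
theorem k2_cases (c : k2 ρ) : c = 0 ∨ c = 1 := by
  have h1 := mem_k2.mp c.2
  rw [I.frob] at h1
  have h2 : (c : F) * ((c : F) - 1) = 0 := by linear_combination h1
  rcases mul_eq_zero.mp h2 with h3 | h3
  · exact Or.inl (Subtype.ext h3)
  · exact Or.inr (Subtype.ext (sub_eq_zero.mp h3))

theorem finrank_ker {v : V0 A ρ} (hv : lam I v ≠ 0) : Module.finrank (k2 ρ) (LinearMap.ker (lam I)) = 5 := by
  have : FiniteDimensional (k2 ρ) (V0 A ρ) := FiniteDimensional.of_finrank_eq_succ (finrank_V0 I)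
  have h1 := LinearMap.finrank_range_add_finrank_ker (lam I)
  have h2 : LinearMap.range (lam I) = ⊤ := by
    rw [LinearMap.range_eq_top]
    intro c
    refine ⟨(c * (lam I v)⁻¹) • v, ?_⟩
    rw [map_smul, smul_eq_mul, mul_assoc, inv_mul_cancel₀ hv, mul_one]
  rw [h2, finrank_top, Module.finrank_self, finrank_V0 I] at h1
  omega

theorem card_ker {v : V0 A ρ} (hv : lam I v ≠ 0) : Nat.card (LinearMap.ker (lam I)) = 32 := by
  have : FiniteDimensional (k2 ρ) (V0 A ρ) := FiniteDimensional.of_finrank_eq_succ (finrank_V0 I)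
  have h1 := Module.natCard_eq_pow_finrank (K := k2 ρ) (V := LinearMap.ker (lam I))
  have h2 := finrank_ker I hv
  rw [h1, card_k2 I, h2]
  norm_num

theorem card_out {v : V0 A ρ} (hv : lam I v ≠ 0) : Nat.card (Out I) = 32 := by
  classical
  have : Finite (Fin 6 → F) := inferInstance
  have h1 : Nat.card (V0 A ρ) = Nat.card {x : V0 A ρ // lam I x = 0} + Nat.card {x : V0 A ρ // ¬ lam I x = 0} := by
    rw [← Nat.card_sum]
    exact (Nat.card_congr (Equiv.sumCompl (fun x : V0 A ρ => lam I x = 0))).symm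
  have h2 : Nat.card {x : V0 A ρ // lam I x = 0} = 32 := card_ker I hv
  rw [card_V0 I, h2] at h1
  have h3 : Nat.card (Out I) = Nat.card {x : V0 A ρ // ¬ lam I x = 0} := rfl
  omega

/-- **The form is not alternating: `27 ∤ |C(t)|`.** -/
theorem odd_case {v : V0 A ρ} (hv : lam I v ≠ 0) : ¬ 27 ∣ Nat.card (Gam A ρ) := by
  intro h81
  have : Fact (Nat.Prime 3) := ⟨Nat.prime_three⟩
  have hfin : Finite (Gam A ρ) := inferInstance
  obtain ⟨P, hP⟩ := Sylow.exists_subgroup_card_pow_prime (G := Gam A ρ) 3 (n := 3) (by norm_num; exact h81)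
  have hPg : IsPGroup 3 P := IsPGroup.of_card hP
  let _ := actOut I
  obtain ⟨x, hx⟩ := hPg.nonempty_fixed_point_of_prime_not_dvd_card (Out I) (by rw [card_out I hv]; norm_num)
  have hx' : ∀ g : P, rep A ρ (g : Gam A ρ) x.1 = x.1 := fun g => congrArg Subtype.val (hx g)
  -- `P` is faithful on the kernel
  let f : P →* (LinearMap.ker (lam I) ≃ₗ[k2 ρ] LinearMap.ker (lam I)) :=
    { toFun := fun g =>
        { toFun := fun y => ⟨rep A ρ (g : Gam A ρ) y, by
            rw [LinearMap.mem_ker, lam_rep]; exact y.2⟩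
          map_add' := fun y z => Subtype.ext (map_add _ _ _)
          map_smul' := fun c y => Subtype.ext (map_smul _ _ _)
          invFun := fun y => ⟨rep A ρ ((g⁻¹ : P) : Gam A ρ) y, by
            rw [LinearMap.mem_ker, lam_rep]; exact y.2⟩
          left_inv := fun y => by
            apply Subtype.ext
            change rep A ρ ((g⁻¹ : P) : Gam A ρ) (rep A ρ (g : Gam A ρ) y) = y
            rw [← LinearEquiv.mul_apply, ← map_mul, ← Subgroup.coe_mul, inv_mul_cancel, Subgroup.coe_one, map_one]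
            rfl
          right_inv := fun y => by
            apply Subtype.ext
            change rep A ρ (g : Gam A ρ) (rep A ρ ((g⁻¹ : P) : Gam A ρ) y) = y
            rw [← LinearEquiv.mul_apply, ← map_mul, ← Subgroup.coe_mul, mul_inv_cancel, Subgroup.coe_one, map_one]
            rfl }
      map_one' := by
        ext y : 1
        apply Subtype.ext
        change rep A ρ ((1 : P) : Gam A ρ) y = y
        rw [Subgroup.coe_one, map_one]
        rfl
      map_mul' := fun g h => by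
        ext y : 1
        apply Subtype.ext
        change rep A ρ ((g * h : P) : Gam A ρ) y = rep A ρ (g : Gam A ρ) (rep A ρ (h : Gam A ρ) y)
        rw [Subgroup.coe_mul, map_mul]
        rfl }
  have hf : Function.Injective f := by
    rw [injective_iff_map_eq_one]
    intro g hg
    apply Subtype.ext
    apply rep_injective I
    rw [Subgroup.coe_one, map_one]
    ext z : 1
    change rep A ρ (g : Gam A ρ) z = z
    have hk : ∀ y : V0 A ρ, lam I y = 0 → rep A ρ (g : Gam A ρ) y = y := by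
      intro y hy
      have h1 : f g ⟨y, hy⟩ = ⟨y, hy⟩ := by rw [hg]; rfl
      exact congrArg Subtype.val h1
    rcases k2_cases I (lam I z) with h1 | h1
    · exact hk z h1
    · have h2 : lam I x.1 = 1 := (k2_cases I (lam I x.1)).resolve_left x.2
      have h3 : lam I (z - x.1) = 0 := by rw [map_sub, h1, h2, sub_self]
      have h4 := hk _ h3
      rw [map_sub, hx' g, sub_left_inj] at h4
      exact h4
  have h1 := Subgroup.card_dvd_of_injective f hf
  have : Fintype (k2 ρ) := Fintype.ofFinite _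
  have h2 := card_k2 I
  rw [Nat.card_eq_fintype_card] at h2
  have : FiniteDimensional (k2 ρ) (V0 A ρ) := FiniteDimensional.of_finrank_eq_succ (finrank_V0 I)
  have h3 := card_aut (K := k2 ρ) (V := LinearMap.ker (lam I)) (n := 5) (finrank_ker I hv)
  rw [h2] at h3
  rw [hP] at h1
  have h4 := h1.trans (dvd_of_eq h3)
  revert h4
  decide

end Odd

end Cfsg.Agent.OddHalf.NI3.Ex.USix

end

-- merged: Cfsg.Agent.OddHalf.NI3.Ex.USixAlt
section

/-!
# (EX), (EX3): the row `U₆(2)`, the form is alternating (helper5)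
-/

set_option autoImplicit false
set_option linter.unusedSectionVars false

namespace Cfsg.Agent.OddHalf.NI3.Ex.USix

open Cfsg Cfsg.Agent.LieClassical.HermBasic Cfsg.Agent.LieClassical.HermSiegel
  Cfsg.Agent.LieClassical.HermGen Cfsg.Agent.LieClassical.SUBasic
  Cfsg.Agent.ClassicalGeometry.UnitAutBasic Cfsg.Agent.LieClassical.FieldTransfer
  Cfsg.Agent.ClassicalGeometry.PSUAutCount
  Cfsg.Agent.ClassicalGeometry.PSUAutMain Matrix

/-- the action on vectors -/
local notation "ac" => Cfsg.Agent.LieClassical.HermSiegel.act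

section Alt

variable {F : Type*} [Field F] [Fintype F] {A : GU 6 F 2} {ρ : F ≃+* F} (I : Inv A ρ)

/-- A symplectic basis of `V₀` -/
theorem exists_basis (h : ∀ x : V0 A ρ, lam I x = 0) :
    ∃ v : Fin 3 ⊕ Fin 3 → (Fin 6 → F), (∀ s, v s ∈ V0 A ρ) ∧
      ∀ s s', hermForm 6 F 2 (v s) (v s') = Matrix.J (Fin 3) F s s' := by
  have hfd : FiniteDimensional (k2 ρ) (V0 A ρ) := FiniteDimensional.of_finrank_eq_succ (finrank_V0 I)
  have hAlt : (form I).IsAlt := fun x => h x
  obtain ⟨m, n, b, h1, h2, h3, h4⟩ := S0752.result (form I) hAlt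
  have hn : n = 0 := by
    by_contra hn
    have h5 : b (Sum.inr ⟨0, by omega⟩) = 0 := by
      refine nondeg I fun y => ?_
      have h6 := h4 ⟨0, by omega⟩ y
      rw [← coe_form I, h6]
      rfl
    exact b.ne_zero _ h5
  subst hn
  have hm : m = 3 := by
    have h5 := Module.finrank_eq_card_basis b
    rw [finrank_V0 I] at h5
    simp at h5
    omega
  subst hm
  have hneg : (-1 : F) = 1 := by linear_combination -(add_self I.card (1 : F))
  refine ⟨fun s => (b (Sum.inl s) : Fin 6 → F), fun s => (b (Sum.inl s)).2, ?_⟩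
  have key : ∀ s s' : Fin 3 ⊕ Fin 3, ((form I (b (Sum.inl s)) (b (Sum.inl s')) : k2 ρ) : F) =
      Matrix.J (Fin 3) F s s' := by
    rintro (i | i) (j | j)
    · rw [h2]
      simp [Matrix.J]
    · rw [h1]
      simp only [Matrix.J, Matrix.fromBlocks_apply₁₂, Matrix.neg_apply, Matrix.one_apply]
      split_ifs
      · exact hneg.symm
      · simp
    · have h5 : form I (b (Sum.inl (Sum.inr i))) (b (Sum.inl (Sum.inl j))) =
          form I (b (Sum.inl (Sum.inl j))) (b (Sum.inl (Sum.inr i))) := by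
        apply Subtype.ext
        rw [coe_form, coe_form]
        exact herm_comm I (b (Sum.inl (Sum.inl j))).2 (b (Sum.inl (Sum.inr i))).2
      rw [h5, h1]
      simp only [Matrix.J, Matrix.fromBlocks_apply₂₁, Matrix.one_apply]
      by_cases hij : i = j
      · subst hij
        simp
      · rw [if_neg hij, if_neg (Ne.symm hij)]
        rfl
    · rw [h3]
      simp [Matrix.J]
  intro s s'
  rw [← coe_form I]
  exact key s s'

/-- the columns are a symplectic basis -/
structure Sb (A : GU 6 F 2) (ρ : F ≃+* F) (P : Matrix (Fin 6) (Fin 3 ⊕ Fin 3) F) : Prop where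
  mem : ∀ s, (fun i => P i s) ∈ V0 A ρ
  gram : Pᵀ * P.map (fun x => x ^ 2) = Matrix.J (Fin 3) F

theorem exists_sb (h : ∀ x : V0 A ρ, lam I x = 0) : ∃ P, Sb A ρ P := by
  obtain ⟨v, h1, h2⟩ := exists_basis I h
  refine ⟨fun i s => v s i, h1, ?_⟩
  ext s s'
  rw [Matrix.mul_apply, ← h2 s s']
  rfl

variable {P : Matrix (Fin 6) (Fin 3 ⊕ Fin 3) F} (S : Sb A ρ P)

/-- the inverse of `P` -/
def Q (P : Matrix (Fin 6) (Fin 3 ⊕ Fin 3) F) : Matrix (Fin 3 ⊕ Fin 3) (Fin 6) F :=
  Matrix.J (Fin 3) F * (P.map (fun x => x ^ 2))ᵀ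

include S in
theorem Q_mul : Q P * P = 1 := by
  have h1 : (P.map (fun x => x ^ 2))ᵀ * P = -Matrix.J (Fin 3) F := by
    rw [← Matrix.J_transpose, ← S.gram, Matrix.transpose_mul, Matrix.transpose_transpose]
  rw [Q, Matrix.mul_assoc, h1, Matrix.mul_neg, Matrix.J_squared, neg_neg]

include S in
theorem mul_Q : P * Q P = 1 := (Matrix.mul_eq_one_comm_of_card_eq _ _ _ (by simp)).mp (Q_mul S)

include S in
theorem tt_P (y : Fin 3 ⊕ Fin 3 → F) : tt A ρ (P *ᵥ y) = P *ᵥ (fun s => ρ (y s)) := by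
  have h1 : ∀ z : Fin 3 ⊕ Fin 3 → F, P *ᵥ z = ∑ s, z s • (fun i => P i s) := by
    intro z
    funext i
    simp [Matrix.mulVec, dotProduct, mul_comm]
  have h2 : ∀ (T : Finset (Fin 3 ⊕ Fin 3)) (f : Fin 3 ⊕ Fin 3 → (Fin 6 → F)),
      tt A ρ (∑ s ∈ T, f s) = ∑ s ∈ T, tt A ρ (f s) := by
    intro T f
    induction T using Finset.induction_on with
    | empty => simp [tt_zero]
    | insert a T ha ih => rw [Finset.sum_insert ha, Finset.sum_insert ha, tt_add, ih]
  rw [h1, h2, h1]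
  refine Finset.sum_congr rfl fun s _ => ?_
  rw [tt_smul, mem_V0.mp (S.mem s)]

include S in
theorem herm_P (y z : Fin 3 ⊕ Fin 3 → F) (hF : Fintype.card F = 2 ^ 2) :
    hermForm 6 F 2 (P *ᵥ y) (P *ᵥ z) = y ⬝ᵥ (Matrix.J (Fin 3) F *ᵥ (fun s => z s ^ 2)) := by
  have h1 : hermForm 6 F 2 (P *ᵥ y) (P *ᵥ z) = (P *ᵥ y) ⬝ᵥ (fun i => ((P *ᵥ z) i) ^ 2) := rfl
  have h2 : (fun i => ((P *ᵥ z) i) ^ 2) = P.map (fun x => x ^ 2) *ᵥ (fun s => z s ^ 2) := by
    funext i
    simp only [Matrix.mulVec, dotProduct, Matrix.map_apply]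
    rw [sum_pow_q hF]
    exact Finset.sum_congr rfl fun s _ => mul_pow _ _ _
  rw [h1, h2, ← S.gram, ← Matrix.mulVec_mulVec, Matrix.dotProduct_mulVec _ Pᵀ, Matrix.vecMul_transpose]

/-- the matrix of `M` on `V` -/
def fm (P : Matrix (Fin 6) (Fin 3 ⊕ Fin 3) F) (M : Matrix (Fin 3 ⊕ Fin 3) (Fin 3 ⊕ Fin 3) (k2 ρ)) :
    Matrix (Fin 6) (Fin 6) F := P * M.map (fun x => (x : F)) * Q P

include S in
theorem fm_mul (M N : Matrix (Fin 3 ⊕ Fin 3) (Fin 3 ⊕ Fin 3) (k2 ρ)) : fm P (M * N) = fm P M * fm P N := by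
  have h1 : (M * N).map (fun x : k2 ρ => (x : F)) = M.map (fun x => (x : F)) * N.map (fun x => (x : F)) :=
    Matrix.map_mul (f := (k2 ρ).subtype)
  rw [fm, fm, fm, h1]
  generalize M.map (fun x : k2 ρ => (x : F)) = M'
  generalize N.map (fun x : k2 ρ => (x : F)) = N'
  have h2 : P * M' * Q P * (P * N' * Q P) = P * M' * (Q P * P) * N' * Q P := by simp only [Matrix.mul_assoc]
  rw [h2, Q_mul S, Matrix.mul_one]
  simp only [Matrix.mul_assoc]

include S in
theorem fm_one : fm P (1 : Matrix (Fin 3 ⊕ Fin 3) (Fin 3 ⊕ Fin 3) (k2 ρ)) = 1 := by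
  have h1 : (1 : Matrix (Fin 3 ⊕ Fin 3) (Fin 3 ⊕ Fin 3) (k2 ρ)).map (fun x : k2 ρ => (x : F)) = 1 :=
    Matrix.map_one (k2 ρ).subtype (map_zero _) (map_one _)
  rw [fm, h1, Matrix.mul_one, mul_Q S]

include S in
theorem fm_P (M : Matrix (Fin 3 ⊕ Fin 3) (Fin 3 ⊕ Fin 3) (k2 ρ)) (y : Fin 3 ⊕ Fin 3 → F) :
    fm P M *ᵥ (P *ᵥ y) = P *ᵥ (M.map (fun x => (x : F)) *ᵥ y) := by
  rw [fm, ← Matrix.mulVec_mulVec, ← Matrix.mulVec_mulVec, Matrix.mulVec_mulVec y (Q P) P, Q_mul S, Matrix.one_mulVec]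

include S in
theorem exists_P (x : Fin 6 → F) : ∃ y, x = P *ᵥ y :=
  ⟨Q P *ᵥ x, by rw [Matrix.mulVec_mulVec, mul_Q S, Matrix.one_mulVec]⟩

include S in
theorem fm_tt (M : Matrix (Fin 3 ⊕ Fin 3) (Fin 3 ⊕ Fin 3) (k2 ρ)) (x : Fin 6 → F) :
    fm P M *ᵥ tt A ρ x = tt A ρ (fm P M *ᵥ x) := by
  obtain ⟨y, rfl⟩ := exists_P S x
  rw [tt_P S, fm_P S, fm_P S, tt_P S]
  congr 1
  funext s
  simp only [Matrix.mulVec, dotProduct, Matrix.map_apply, map_sum, map_mul]
  exact Finset.sum_congr rfl fun s' _ => by rw [mem_k2.mp (M s s').2]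

include S I in
theorem fm_herm {M : Matrix (Fin 3 ⊕ Fin 3) (Fin 3 ⊕ Fin 3) (k2 ρ)}
    (hM : M ∈ Matrix.symplecticGroup (Fin 3) (k2 ρ)) (u v : Fin 6 → F) :
    hermForm 6 F 2 (fm P M *ᵥ u) (fm P M *ᵥ v) = hermForm 6 F 2 u v := by
  obtain ⟨y, rfl⟩ := exists_P S u
  obtain ⟨z, rfl⟩ := exists_P S v
  rw [fm_P S, fm_P S, herm_P S _ _ I.card, herm_P S _ _ I.card]
  have h1 : (fun s => (M.map (fun x : k2 ρ => (x : F)) *ᵥ z) s ^ 2) =
      M.map (fun x : k2 ρ => (x : F)) *ᵥ (fun s => z s ^ 2) := by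
    funext s
    simp only [Matrix.mulVec, dotProduct, Matrix.map_apply]
    rw [sum_pow_q I.card]
    refine Finset.sum_congr rfl fun s' _ => ?_
    rw [mul_pow, ← I.frob (M s s' : F), mem_k2.mp (M s s').2]
  have h3 : M.map (fun x : k2 ρ => (x : F)) ∈ Matrix.symplecticGroup (Fin 3) F :=
    SymplecticGroup.map_mem hM (k2 ρ).subtype
  have h2 := SymplecticGroup.mem_iff'.mp h3
  rw [h1, ← Matrix.vecMul_transpose, Matrix.dotProduct_mulVec, Matrix.vecMul_vecMul, Matrix.dotProduct_mulVec,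
    Matrix.vecMul_vecMul, h2, ← Matrix.dotProduct_mulVec]

include S I in
theorem fm_det {M : Matrix (Fin 3 ⊕ Fin 3) (Fin 3 ⊕ Fin 3) (k2 ρ)}
    (hM : M ∈ Matrix.symplecticGroup (Fin 3) (k2 ρ)) : (fm P M).det = 1 := by
  have h1 : fm P M * gm A = gm A * (fm P M).map ρ := by
    apply Matrix.ext_of_mulVec_single
    intro i
    rw [← Matrix.mulVec_mulVec, ← Matrix.mulVec_mulVec]
    have h2 := fm_tt S M (Pi.single i 1)
    have h3 : (fun j => ρ ((Pi.single i 1 : Fin 6 → F) j)) = Pi.single i 1 := by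
      funext j
      by_cases hj : j = i
      · subst hj; simp
      · rw [Pi.single_eq_of_ne hj, map_zero]
    have h4 : (fun j => ρ ((fm P M *ᵥ Pi.single i 1) j)) = (fm P M).map ρ *ᵥ Pi.single i 1 := by
      funext j
      rw [Matrix.mulVec_single_one, Matrix.mulVec_single_one]
      rfl
    rw [tt, tt, h3, h4] at h2
    exact h2
  have h2 := congrArg Matrix.det h1
  rw [det_mul, det_mul, mul_comm] at h2
  have hd : (gm A).det ≠ 0 := by
    have h3 := congrArg Matrix.det (gm_mul_inv A)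
    rw [det_mul, det_one] at h3
    intro h4
    rw [h4, zero_mul] at h3
    exact zero_ne_one h3
  have h3 := mul_left_cancel₀ hd h2
  have h4 : ((fm P M).map ρ).det = ρ (fm P M).det := (RingHom.map_det (ρ : F →+* F) (fm P M)).symm
  rw [h4, I.frob] at h3
  have h5 : (fm P M).det ≠ 0 := by
    intro h6
    obtain ⟨v, hv, hv0⟩ := Matrix.exists_mulVec_eq_zero_iff.mpr h6
    apply hv
    refine herm_nondeg I.card fun u => ?_
    rw [← fm_herm I S hM, hv0, herm_zero_left]
  have h6 : (fm P M).det * ((fm P M).det - 1) = 0 := by linear_combination -h3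
  exact sub_eq_zero.mp ((mul_eq_zero.mp h6).resolve_left h5)

/-- `Sp₆(2)` in `C(t)` -/
noncomputable def phi (I : Inv A ρ) (S : Sb A ρ P) : Matrix.symplecticGroup (Fin 3) (k2 ρ) →* Gam A ρ where
  toFun M := ⟨mkSU (fm P M.1) (fm_det I S M.2) (fm_herm I S M.2), fun x => fm_tt S M.1 x⟩
  map_one' := by
    apply Subtype.ext
    apply mat_injective
    rw [mat_mkSU]
    exact fm_one S
  map_mul' M N := by
    apply Subtype.ext
    apply mat_injective
    rw [mat_mkSU, Subgroup.coe_mul, mat_mul, mat_mkSU, mat_mkSU]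
    exact fm_mul S M.1 N.1

theorem phi_injective : Function.Injective (phi I S) := by
  intro M N h
  have h1 : fm P M.1 = fm P N.1 := congrArg (fun g : Gam A ρ => mat (g : SU 6 F 2)) h
  have h2 : ∀ K : Matrix (Fin 3 ⊕ Fin 3) (Fin 3 ⊕ Fin 3) (k2 ρ),
      Q P * fm P K * P = K.map (fun x => (x : F)) := by
    intro K
    rw [fm]
    generalize K.map (fun x : k2 ρ => (x : F)) = K'
    have h3 : Q P * (P * K' * Q P) * P = (Q P * P) * K' * (Q P * P) := by simp only [Matrix.mul_assoc]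
    rw [h3, Q_mul S, Matrix.one_mul, Matrix.mul_one]
  have h3 := h2 M.1
  rw [h1, h2 N.1] at h3
  apply Subtype.ext
  ext i j
  exact (congrFun (congrFun h3 i) j).symm

include I in
/-- **The form is alternating: `2⁹ ∣ |C(t)|`.** -/
theorem alt_case (h : ∀ x : V0 A ρ, lam I x = 0) : 2 ^ 9 ∣ Nat.card (Gam A ρ) := by
  obtain ⟨P, S⟩ := exists_sb I h
  have h1 := Subgroup.card_dvd_of_injective (phi I S) (phi_injective I S)
  have : Fintype (k2 ρ) := Fintype.ofFinite _
  have h2 := card_k2 I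
  rw [Nat.card_eq_fintype_card] at h2
  rw [S0245.result h2 3] at h1
  exact (Dvd.intro _ rfl).trans h1

end Alt

end Cfsg.Agent.OddHalf.NI3.Ex.USix

end

-- merged: Cfsg.Agent.OddHalf.NI3.Ex.USixRow
section

/-!
# (EX), (EX3): the row `U₆(2)` (helper5)

* `psu_cases`: an involutory automorphism of `U₆(2)` is inner, or the order of its centralizer is not divisible by 27,
  or it is divisible by `2⁹` and not by `3⁶`.
* `no3_u62`.
-/

set_option autoImplicit false
set_option linter.unusedSectionVars false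

namespace Cfsg.Agent.OddHalf.NI3.Ex.USix

open Cfsg Cfsg.Agent.LieClassical.HermBasic Cfsg.Agent.LieClassical.HermSiegel
  Cfsg.Agent.LieClassical.HermGen Cfsg.Agent.LieClassical.SUBasic
  Cfsg.Agent.ClassicalGeometry.UnitAutBasic Cfsg.Agent.LieClassical.FieldTransfer
  Cfsg.Agent.ClassicalGeometry.PSUAutCount
  Cfsg.Agent.ClassicalGeometry.PSUAutMain Matrix

/-- the action on vectors -/
local notation "ac" => Cfsg.Agent.LieClassical.HermSiegel.act

/-- the fixed points of an automorphism -/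
local notation "fx" => Cfsg.Agent.OddHalf.NI.Ex.fix

section Row

variable {F : Type*} [Field F] [Fintype F] {A : GU 6 F 2} {ρ : F ≃+* F} (I : Inv A ρ)

theorem tt_surjective (y : Fin 6 → F) : ∃ x, y = tt A ρ x := by
  refine ⟨fun i => ρ.symm ((gm A⁻¹ *ᵥ y) i), ?_⟩
  have h1 : (fun i => ρ (ρ.symm ((gm A⁻¹ *ᵥ y) i))) = gm A⁻¹ *ᵥ y := by
    funext i
    simp
  rw [tt, h1, gm_mulVec_inv]

theorem semiConj_tt (g : SU 6 F 2) (x : Fin 6 → F) : ac (semiConj A ρ g) (tt A ρ x) = tt A ρ (ac g x) :=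
  act_semiConj A ρ g x

theorem pr_mem {g : SU 6 F 2} (hg : g ∈ Gam A ρ) : pr 6 F 2 g ∈ fx (toAut A ρ) := by
  rw [NI.Ex.mem_fix, toAut_pr]
  congr 1
  apply ext_act
  intro y
  obtain ⟨x, rfl⟩ := tt_surjective (A := A) (ρ := ρ) y
  rw [semiConj_tt, mem_Gam.mp hg]

include I in
theorem exists_lift {z : PSU 6 F 2} (hz : z ∈ fx (toAut A ρ)) : ∃ g ∈ Gam A ρ, pr 6 F 2 g = z := by
  obtain ⟨g, rfl⟩ := pr_surjective z
  rw [NI.Ex.mem_fix, toAut_pr] at hz
  obtain ⟨c, hc0, hc⟩ : ∃ c : F, c ≠ 0 ∧ ∀ x, ac (semiConj A ρ g) x = c • ac g x := by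
    obtain ⟨c, h1, h2⟩ := exists_scalar_of_pr_eq I.card (by norm_num) hz.symm
    refine ⟨c, ?_, h2⟩
    rintro rfl
    simp at h1
  have hd0 : c⁻¹ ≠ 0 := inv_ne_zero hc0
  have hd3 := cube I.card hd0
  have hd6 : c⁻¹ ^ 6 = 1 := by
    have : c⁻¹ ^ 6 = (c⁻¹ ^ 3) ^ 2 := by ring
    rw [this, hd3, one_pow]
  have hact : ∀ x, ac (g * suScalar 2 c⁻¹ hd6 hd3) x = c⁻¹ • ac g x := by
    intro x
    rw [act_mul, Cfsg.Agent.ClassicalGeometry.PSUAutBasic.act_suScalar, act_smul]
  refine ⟨g * suScalar 2 c⁻¹ hd6 hd3, ?_, ?_⟩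
  · rw [mem_Gam]
    intro x
    rw [hact, hact, tt_smul, ← semiConj_tt, hc, smul_smul, I.frob]
    congr 1
    field_simp
  · exact (pr_eq_of_scalar hact).symm

include I in
theorem card_fix : Nat.card (fx (toAut A ρ)) = Nat.card (Gam A ρ) := by
  let f : Gam A ρ → fx (toAut A ρ) := fun g => ⟨pr 6 F 2 g.1, pr_mem g.2⟩
  have hf : Function.Bijective f := by
    constructor
    · intro g h hgh
      have h1 : pr 6 F 2 g.1 = pr 6 F 2 h.1 := congrArg Subtype.val hgh
      obtain ⟨c, h2, h3⟩ := exists_scalar_of_pr_eq I.card (by norm_num) h1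
      apply Subtype.ext
      apply ext_act
      -- `c = 1`
      have hc : ρ c = c := by
        obtain ⟨x, hx⟩ : ∃ x : Fin 6 → F, ac g.1 (tt A ρ x) ≠ 0 := by
          refine ⟨Pi.single 0 1, fun h => ?_⟩
          have h6 := tt_injective A ρ (((act_eq_zero g.1).mp h).trans (tt_zero A ρ).symm)
          have h7 := congrFun h6 0
          rw [Pi.single_eq_same, Pi.zero_apply] at h7
          exact one_ne_zero h7
        have h4 := mem_Gam.mp h.2 x
        rw [h3, h3, tt_smul, ← mem_Gam.mp g.2] at h4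
        have h5 := sub_eq_zero.mpr h4
        rw [← sub_smul] at h5
        exact (sub_eq_zero.mp ((smul_eq_zero.mp h5).resolve_right hx)).symm
      have hc0 : c ≠ 0 := by
        rintro rfl
        rw [zero_mul] at h2
        exact zero_ne_one h2
      have hc1 : c = 1 := by
        rw [I.frob] at hc
        have h4 : c * (c - 1) = 0 := by linear_combination hc
        exact sub_eq_zero.mp ((mul_eq_zero.mp h4).resolve_left hc0)
      intro y
      rw [h3, hc1, one_smul]
    · rintro ⟨z, hz⟩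
      obtain ⟨g, hg, rfl⟩ := exists_lift I hz
      exact ⟨⟨g, hg⟩, rfl⟩
  exact (Nat.card_congr (Equiv.ofBijective f hf)).symm

end Row

/-- **The involutory automorphisms of `U₆(2)`.** -/
theorem psu_cases {F : Type*} [Field F] [Fintype F] (hF : Fintype.card F = 2 ^ 2) (α : MulAut (PSU 6 F 2))
    (hα : orderOf α = 2) :
    (∃ x, α = MulAut.conj x) ∨ ¬ 27 ∣ Nat.card (fx α) ∨ (2 ^ 9 ∣ Nat.card (fx α) ∧ ¬ 729 ∣ Nat.card (fx α)) := by
  have h1 : α * α = 1 := by
    have h2 := pow_orderOf_eq_one α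
    rw [hα, pow_two] at h2
    exact h2
  obtain ⟨A, ρ, rfl⟩ := exists_toAut hF (by norm_num) (by norm_num) α
  by_cases hρ : ρ = RingEquiv.refl F
  · subst hρ
    exact Or.inl (inner_of_refl hF h1)
  · have I := inv_of hF hρ h1
    right
    rw [card_fix I]
    by_cases h : ∀ x : V0 A ρ, lam I x = 0
    · exact Or.inr ⟨alt_case I h, not_729 I⟩
    · push Not at h
      obtain ⟨v, hv⟩ := h
      exact Or.inl (odd_case I hv)

open Subgroup Cfsg.Agent.OddHalf.Iface Cfsg.Agent.OddHalf.NI Cfsg.Agent.OddHalf.NI.Ex Cfsg.Agent.OddHalf.D9.Cut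

universe u

theorem ct_u62 {X : Type u} [Group X] [Finite X] (hs : IsSimpleGroup X) (hna : ¬ IsMulCommutative X)
    (h : XU62 X) : CT X := by
  obtain ⟨F, i, j, hF, ⟨e⟩⟩ := h
  have h2 := charP_two (F := F) (f := 2) (by rw [hF]; norm_num)
  exact CT.of_filt hs hna (Or.inr (Or.inr (Or.inl ⟨F, i, j, h2, 6, 2, by rw [hF]; norm_num, by norm_num, by norm_num,
    ⟨e⟩⟩)))

/-- the cases for `X ≃ U₆(2)` -/
theorem u62_cases {X : Type u} [Group X] (h : XU62 X) (α : MulAut X) (hα : orderOf α = 2) :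
    (∃ x, α = MulAut.conj x) ∨ ¬ 27 ∣ Nat.card (fx α) ∨ (2 ^ 9 ∣ Nat.card (fx α) ∧ ¬ 729 ∣ Nat.card (fx α)) := by
  obtain ⟨F, i, j, hF, ⟨e⟩⟩ := h
  have hα' : orderOf (MulAut.congr e α) = 2 := by
    rw [MulEquiv.orderOf_eq]; exact hα
  have hc : Nat.card (fx (MulAut.congr e α)) = Nat.card (fx α) := by
    rw [fix_congr]
    exact (Nat.card_congr ((fix α).equivMapOfInjective e.toMonoidHom e.injective).toEquiv).symm
  rcases psu_cases (by rw [hF]; norm_num) (MulAut.congr e α) hα' with ⟨x, hx⟩ | h | h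
  · left
    refine ⟨e.symm x, ?_⟩
    ext y
    apply e.injective
    have h1 : e (α y) = (MulAut.congr e α) (e y) := by
      change e (α y) = e (α (e.symm (e y)))
      rw [e.symm_apply_apply]
    rw [h1, hx, MulAut.conj_apply, MulAut.conj_apply, map_mul, map_mul, map_inv, e.apply_symm_apply]
  · rw [hc] at h
    exact Or.inr (Or.inl h)
  · rw [hc] at h
    exact Or.inr (Or.inr h)

/-- **The row `U₆(2)`.** -/
theorem no3_u62 {X : Type u} [Group X] [Finite X] (hs : IsSimpleGroup X) (hna : ¬ IsMulCommutative X)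
    (h : XU62 X) : No3 X := by
  intro α hα J hJ h81 hr
  by_contra hg
  have C := ct_u62 hs hna h
  have hd : Nat.card (↥J ⧸ center ↥J) ∣ Nat.card (fix α) := by
    refine dvd_trans ?_ (card_dvd_of_le hJ.le)
    rw [← (center ↥J).card_mul_index]
    exact Dvd.intro_left _ rfl
  rcases u62_cases h α hα with ⟨x, rfl⟩ | h1 | ⟨h1, h2⟩
  · exact inner_false C.char C.center hα hJ
  · exact h1 ((dvd_trans (by norm_num) h81).trans hd)
  · have hdX : Nat.card (↥J ⧸ center ↥J) ∣ 9196830720 := by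
      rw [← D8.Fi22.OrdEven.card_u62 h]
      exact hd.trans (card_subgroup_dvd_card _)
    have hα' : α * α = 1 := by rw [← pow_two, ← hα, pow_orderOf_eq_one]
    rcases Three.cases hr h81 hg with ⟨-, h3, h4⟩ | ⟨h3, h4⟩ | ⟨h3, h4⟩ | ⟨h3, h4⟩ | h3
    · have h5 := pow_dvd C.char C.center hα' hJ (by
        rw [← (center ↥J).card_mul_index]
        refine Dvd.dvd.mul_left ?_ _
        change 2 ∣ Nat.card (↥J ⧸ center ↥J)
        rw [h3]
        norm_num) h1
      rw [h4] at h5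
      revert h5
      norm_num
    · rw [h3] at hdX
      revert hdX
      norm_num
    · exact h2 ((by rw [h3]; norm_num : 729 ∣ _).trans hd)
    · rw [h3] at hdX
      revert hdX
      norm_num
    · have h4 := h3.trans hdX
      revert h4
      norm_num

end Cfsg.Agent.OddHalf.NI3.Ex.USix

end
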