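import Cfsg.Agent.OddHalf.NI3.Ex.Defs
import Cfsg.Agent.OddHalf.D8.Fi22.OrdEven
import Cfsg.Agent.MTwelveType.SylowModel
import Cfsg.Agent.SporadicA.MathieuRecog
import Cfsg.Agent.LeechPack.X100
import Cfsg.Agent.S1619
import Cfsg.Agent.S1627
import Cfsg.Agent.KFacts.SuzFix
import Cfsg.Agent.KFacts.SuzLarge
import Cfsg.Agent.OddHalf.NI.Ex.Balance
import Cfsg.Agent.KFacts.M24Two.CentW
import Cfsg.Agent.SporadicA.Norm64
import Cfsg.Agent.SporadicA.Co1Simple
import Cfsg.Agent.CoOneType.InvMain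
import Cfsg.Agent.CoOneType.CoOneE
import Cfsg.Agent.Leech.Co0Elts
import Cfsg.Agent.S0394
import Cfsg.Agent.Co2Type.Quad
import Cfsg.Agent.KFacts.Co1.SheetCo1
import Cfsg.Agent.CoOneType.ClosingCo1
import Cfsg.Agent.ConwayFacts.AutCo1
import Cfsg.Agent.OddHalf.NI.Ex.Defs
import Cfsg.Agent.OddHalf.NI3.Ex.SpSix
import Cfsg.Agent.OddHalf.NI3.Ex.Three
import Cfsg.Agent.TwoESix.SheetD
import Cfsg.Agent.S0280
import Cfsg.Agent.OddHalf.NI3.Ex.FiRow.Outer
import Cfsg.Agent.R08.CohUniq
import Cfsg.Agent.TSp.Orders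
import Cfsg.Agent.OddHalf.D3.EvDiag
import Cfsg.Agent.OddHalf.NI3.Ex.Cut
import Cfsg.Agent.OddHalf.NI3.K.Congr
import Cfsg.Agent.OddHalf.NI3.Ex.USixRow
import Cfsg.Agent.OddHalf.NI3.Ex.OEight
import Cfsg.Agent.OddHalf.NI3.Ex.FFourRow

-- merged: Cfsg.Agent.OddHalf.NI3.Ex.Void
section

/-!
# (EX3): the rows of order prime to 81 (helper5)
-/

set_option autoImplicit false

namespace Cfsg.Agent.OddHalf.NI3.Ex

open Subgroup Cfsg Cfsg.Agent.OddHalf.D9.Cut

universe u

variable {X : Type u} [Group X]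

theorem no3_of_eq {n : ℕ} (h : Nat.card X = n) (hn : ¬ 81 ∣ n) : No3 X := No3.of_card (by rwa [h])

theorem no3_g24 (h : XG24 X) : No3 X := no3_of_eq (D8.Fi22.OrdEven.card_g24 h) (by norm_num)

theorem no3_l34 (h : XL34 X) : No3 X := no3_of_eq (D8.Fi22.OrdEven.card_l34 h) (by norm_num)

theorem no3_sz (h : XSz X) : No3 X :=
  No3.of_card fun h' => D8.Fi22.OrdEven.sz h (dvd_trans (by norm_num) h')

theorem no3_m12 (h : Spor.IsoM12 X) : No3 X := by
  obtain ⟨e⟩ := h
  exact no3_of_eq ((Nat.card_congr e.toEquiv).trans MTwelveType.SylowModel.card_M12) (by norm_num)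

theorem no3_m22 (h : Spor.IsoM22 X) : No3 X := by
  obtain ⟨e⟩ := h
  exact no3_of_eq ((Nat.card_congr e.toEquiv).trans SporadicA.MathieuRecog.card_M22) (by norm_num)

theorem no3_j2 (h : Spor.IsoJ2 X) : No3 X := by
  obtain ⟨e⟩ := h
  exact no3_of_eq ((Nat.card_congr e.toEquiv).trans S1619.result.2.2.2) (by norm_num)

theorem no3_ru (h : Spor.IsoRu X) : No3 X := by
  obtain ⟨e⟩ := h
  exact no3_of_eq ((Nat.card_congr e.toEquiv).trans S1627.result.2.1) (by norm_num)

theorem no3_hs (h : Spor.IsoHS X) : No3 X := by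
  obtain ⟨e⟩ := h
  obtain ⟨f⟩ := LeechPack.X100.isoHS_G2
  exact no3_of_eq ((Nat.card_congr (e.trans f.symm).toEquiv).trans LeechPack.X100.card_G2) (by norm_num)

end Cfsg.Agent.OddHalf.NI3.Ex

end

-- merged: Cfsg.Agent.OddHalf.NI3.Ex.RowSuz
section

/-!
# Row `No3` of (EX3): `Suz` (helper88)

`81` divides the order of the centralizer of an involutory automorphism only for the class 2A, whose centralizer is
2-constrained (`comp_false`).
-/

set_option autoImplicit false

namespace Cfsg.Agent.OddHalf.NI3.Ex.RowSuz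

open Subgroup Cfsg Cfsg.Agent.OddHalf.Iface Cfsg.Agent.OddHalf.NI Cfsg.Agent.OddHalf.NI.Ex
open Cfsg.Agent.Co2Type.Quad

/-- An involution with a large extraspecial 2-group: its centralizer has no component. -/
theorem comp_false {K X : Type*} [Group K] [Group X] [Finite X] {z : K} {Q : Subgroup K} (hL : Large Q z)
    (f : K ≃* X) {J : Subgroup X} (hJ : CompIn (fix (MulAut.conj (f z))) J) : False := by
  have hz : f z * f z = 1 := by rw [← map_mul, hL.z_sq, map_one]
  have hfix : ∀ x, x ∈ fix (MulAut.conj (f z)) ↔ x * f z = f z * x := by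
    intro x
    rw [mem_fix, MulAut.conj_apply, mul_inv_eq_iff_eq_mul, eq_comm]
  have hQ : IsPGroup 2 Q := by
    intro x
    refine ⟨2, Subtype.ext ?_⟩
    have h4 : (x : K) ^ 2 ^ 2 = (x * x) * (x * x) := by
      rw [show (2 : ℕ) ^ 2 = 4 by norm_num, pow_succ, pow_succ, pow_succ, pow_one]
      group
    change (x : K) ^ 2 ^ 2 = 1
    rw [h4]
    rcases hL.sq x x.2 with h | h
    · rw [h, mul_one]
    · rw [h, hL.z_sq]
  have hsz : ∀ g : X, g * f z = f z * g → f.symm g * z = z * f.symm g := by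
    intro g hg
    have h1 := congrArg f.symm hg
    rwa [map_mul, map_mul, f.symm_apply_apply] at h1
  refine Balance.no_sub (a := MulAut.conj (f z)) (by rw [← map_mul, hz, map_one]) (z := f z)
    (by rw [MulAut.conj_apply, mul_inv_cancel_right]) (Q := Q.map f.toMonoidHom) (hQ.map _) ?_ ?_ ?_
    (D := J) (fun d hd => hJ.le hd) (fun d hd => (hfix d).1 (hJ.le hd))
    (hJ.mono (fun j hj => ⟨hJ.le hj, mem_centralizer_singleton_iff.2 ((hfix j).1 (hJ.le hj))⟩) inf_le_left)
  · rintro _ ⟨q, hq, rfl⟩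
    change f q * f z = f z * f q
    rw [← map_mul, hL.comm_z q hq, map_mul]
  · rintro g hg _ ⟨q, hq, rfl⟩
    refine ⟨f.symm g * q * (f.symm g)⁻¹, hL.conj_mem _ (hsz g hg) q hq, ?_⟩
    change f (f.symm g * q * (f.symm g)⁻¹) = g * f q * g⁻¹
    rw [map_mul, map_mul, map_inv, f.apply_symm_apply]
  · intro g hg hc
    refine ⟨f.symm g, hL.self _ (hsz g hg) fun q hq => ?_, f.apply_symm_apply g⟩
    have h1 := congrArg f.symm (hc (f q) ⟨q, hq, rfl⟩)
    rwa [map_mul, map_mul, f.symm_apply_apply] at h1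

/-- transport of automorphisms -/
theorem card_fix_congr {K X : Type*} [Group K] [Group X] (e : X ≃* K) (α : MulAut X) :
    Nat.card ↥(fix α) = Nat.card ↥(fix (MulAut.congr e α)) := by
  refine Nat.card_congr
    { toFun := fun x => ⟨e x, ?_⟩
      invFun := fun x => ⟨e.symm x, ?_⟩
      left_inv := fun x => Subtype.ext (e.symm_apply_apply x)
      right_inv := fun x => Subtype.ext (e.apply_symm_apply x) }
  · change e (α (e.symm (e x))) = e x
    rw [e.symm_apply_apply, mem_fix.1 x.2]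
  · have h1 : e (α (e.symm x)) = x := x.2
    rw [mem_fix]
    apply e.injective
    rw [h1, e.apply_symm_apply]

theorem card_fix_conj {K : Type*} [Group K] (α : MulAut K) (g : K) :
    Nat.card ↥(fix (MulAut.conj g * α * (MulAut.conj g)⁻¹)) = Nat.card ↥(fix α) := by
  have h := card_fix_congr (MulAut.conj g) α
  rw [h]
  rfl

open Cfsg.Spor Cfsg.Agent.KFacts.SuzFix Cfsg.Agent.KFacts.SuzRho Cfsg.Agent.KFacts.SuzLFour in
/-- **Row `Suz`.** -/
theorem no3_suz {X : Type*} [Group X] [Finite X] (h : Spor.IsoSuz X) : No3 X := by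
  obtain ⟨e⟩ := h
  intro α hα J hc hJ _
  exfalso
  have h81 : 81 ∣ Nat.card ↥(fix α) := (card_dvd_of_card_quo hJ).trans (card_dvd_of_le hc.le)
  set β := MulAut.congr e α with hβ
  rw [card_fix_congr e α, ← hβ] at h81
  have hαα : α * α = 1 := by
    have := pow_orderOf_eq_one α
    rwa [hα, pow_two] at this
  have hββ : β * β = 1 := by rw [hβ, ← map_mul, hαα, map_one]
  have hβ1 : β ≠ 1 := by
    intro h1
    have h2 : α = 1 := (MulAut.congr e).injective (by rw [← hβ, h1, map_one])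
    rw [h2, orderOf_one] at hα
    omega
  by_cases hin : ∃ s, β = MulAut.conj s
  · obtain ⟨s, hs⟩ := hin
    have hss : s * s = 1 := Cfsg.Agent.KFacts.SuzInvol.conj_eq_one (by rw [map_mul, ← hs, hββ])
    have hs1 : s ≠ 1 := by
      rintro rfl
      exact hβ1 (by rw [hs, map_one])
    rcases Cfsg.Agent.SporRec.SuzCl.two s hss hs1 with ⟨g, hg⟩ | ⟨g, hg⟩
    · -- class 2A
      let f : Suz ≃* X := (MulAut.conj g).trans e.symm
      have hf : f Cfsg.Agent.SuzThree.CentA.z0 = e.symm s := by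
        change e.symm (g * _ * g⁻¹) = _
        rw [Cfsg.Agent.SuzThree.CentCard.z0_eq, hg]
      have hαs : α = MulAut.conj (f Cfsg.Agent.SuzThree.CentA.z0) := by
        rw [hf]
        ext x
        apply e.injective
        have h1 : e (α (e.symm (e x))) = s * e x * s⁻¹ := congrArg (fun b : MulAut Suz => b (e x)) hs
        rw [e.symm_apply_apply] at h1
        rw [h1, MulAut.conj_apply, map_mul, map_mul, map_inv, e.apply_symm_apply]
      rw [hαs] at hc
      exact comp_false Cfsg.Agent.KFacts.SuzLarge.large f hc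
    · -- class 2B
      have h1 : MulAut.conj s = MulAut.conj g * MulAut.conj e0 * (MulAut.conj g)⁻¹ := by
        rw [← map_mul, ← map_inv, ← map_mul]
        congr 1
        rw [← hg]
        rfl
      rw [hs, h1, card_fix_conj] at h81
      have h2 : fix (MulAut.conj e0) = Cfsg.Agent.KFacts.SuzTwoB.CE := by
        ext x
        rw [mem_fix, MulAut.conj_apply, mul_inv_eq_iff_eq_mul, Cfsg.Agent.KFacts.SuzTwoB.mem_CE, eq_comm]
      rw [h2, Cfsg.Agent.KFacts.SuzTwoB.card_CE] at h81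
      revert h81
      norm_num
  · push Not at hin
    rcases Cfsg.Agent.KFacts.SuzInvol.outer hββ hin with ⟨g, hg⟩ | ⟨g, hg⟩
    · rw [hg, card_fix_conj] at h81
      exact card_rho (fun _ => Iff.rfl) h81
    · rw [hg, card_fix_conj] at h81
      have h1 : rho * MulAut.conj (PresentedGroup.of Suz.Gen.e) = Cfsg.Agent.KFacts.SuzFix.tau := by
        rw [Cfsg.Agent.KFacts.SuzFix.tau]
        rfl
      rw [h1, card_tau (F := fix Cfsg.Agent.KFacts.SuzFix.tau) (fun _ => Iff.rfl)] at h81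
      revert h81
      norm_num

end Cfsg.Agent.OddHalf.NI3.Ex.RowSuz

end

-- merged: Cfsg.Agent.KFacts.Co1.TwoBThree
section

/-!
# The class 2B of `Co1`: `81` does not divide the order of the centralizer (helper907)

`k ∈ Co0` with `k² = -1`. A nontrivial element of order 3 of `Co0` commuting with `k` fixes no minimal vector `v`
(it fixes `v + k v` and `v - k v`, which lie in one cross, so it is monomial together with `k`; an element of order 3
of `M24` commuting with an involution without fixed points has no fixed point). As `81` does not divide 196560, the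
centralizer of the image of `k` in `Co1` has no subgroup of order 81.
-/

set_option autoImplicit false
open Cfsg
open scoped Pointwise

namespace Cfsg.Agent.KFacts.Co1.TwoBThree

section M24

open Cfsg.Agent.SporadicA.GolayBase Cfsg.Agent.SporadicA.GolayPerm
open Cfsg.Agent.SporadicStructure.M24El Cfsg.Agent.KFacts.M24Two
open Cfsg.Agent.KFacts.M24Two.CentW (w ww w_ne QP TP qe te qe_ok te_ok qe_comm te_comm w_qe card_Cw)

theorem chk_q : ∀ i < 24, ∃ m < 64, ∃ j < 120, papp (TP.getD j idP) (papp (QP.getD m idP) i) = 0 := by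
  decide +kernel

/-- `C(w)` is transitive on the 24 points. -/
theorem trans_w (p : GolayPt) : ∃ c : M24, c * w = w * c ∧ c • p = pt 0 := by
  obtain ⟨m, hm, j, hj, h⟩ := chk_q (idx p) (idx_lt p)
  refine ⟨te j * qe m, ?_, ?_⟩
  · have h1 : qe m * w = w * qe m := by rw [w_qe]; exact qe_comm hm (by norm_num)
    rw [mul_assoc, h1, ← mul_assoc, te_comm hj, mul_assoc]
  · apply idx_injective
    rw [mul_smul]
    unfold te qe
    rw [idx_el_smul (te_ok j), idx_el_smul (qe_ok m), h, idx_pt (by norm_num)]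

/-- An element of order 3 of `C(w)` has no fixed point. -/
theorem three_fix_w {g : M24} (hc : g * w = w * g) (h3 : g ^ 3 = 1) {p : GolayPt} (hp : g • p = p) : g = 1 := by
  by_contra hg
  set C := Subgroup.centralizer ({w} : Set M24) with hC
  have horb : (MulAction.orbit C p) = Set.univ := by
    rw [Set.eq_univ_iff_forall]
    intro q
    obtain ⟨c, hc1, hc2⟩ := trans_w p
    obtain ⟨d, hd1, hd2⟩ := trans_w q
    have hcC : c ∈ C := Subgroup.mem_centralizer_singleton_iff.2 hc1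
    have hdC : d ∈ C := Subgroup.mem_centralizer_singleton_iff.2 hd1
    refine ⟨⟨d, hdC⟩⁻¹ * ⟨c, hcC⟩, ?_⟩
    show (d⁻¹ * c) • p = q
    rw [mul_smul, hc2, ← hd2, inv_smul_smul]
  have h1 := MulAction.index_stabilizer C p
  rw [horb, Set.ncard_univ, Nat.card_eq_fintype_card, Cfsg.Agent.Leech.Code.card_golayPt] at h1
  have h2 := (MulAction.stabilizer C p).card_mul_index
  rw [h1, hC, card_Cw] at h2
  have h4 : orderOf (⟨⟨g, Subgroup.mem_centralizer_singleton_iff.2 hc⟩, hp⟩ : MulAction.stabilizer C p) = 3 := by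
    apply orderOf_eq_prime
    · exact Subtype.ext (Subtype.ext h3)
    · intro h
      exact hg (congrArg (fun x : MulAction.stabilizer C p => ((x : C) : M24)) h)
  have h5 : 3 ∣ Nat.card (MulAction.stabilizer C p) := h4 ▸ orderOf_dvd_natCard _
  have h6 : Nat.card (MulAction.stabilizer C p) = 320 := by
    rw [hC]; omega
  rw [h6] at h5
  omega

/-- An element of order 3 of `M24` commuting with an involution without fixed points has no fixed point. -/
theorem three_fix {g b : M24} (hb : b * b = 1) (hf : ∀ p : GolayPt, b • p ≠ p) (hc : g * b = b * g)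
    (h3 : g ^ 3 = 1) {p : GolayPt} (hp : g • p = p) : g = 1 := by
  have hb1 : b ≠ 1 := by
    rintro rfl
    exact hf p (one_smul _ _)
  obtain ⟨x, hx⟩ : ∃ x : M24, x * b * x⁻¹ = w := by
    obtain ⟨x, hx⟩ := Count.conj_w_of_no_fix hb hb1 hf
    obtain ⟨y, hy⟩ := Count.conj_w_of_no_fix ww w_ne CentW.w_no_fix
    refine ⟨y⁻¹ * x, ?_⟩
    calc y⁻¹ * x * b * (y⁻¹ * x)⁻¹ = y⁻¹ * (x * b * x⁻¹) * y := by group
      _ = y⁻¹ * (y * w * y⁻¹) * y := by rw [hx, hy]
      _ = w := by group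
  have h1 : x * g * x⁻¹ = 1 := by
    refine three_fix_w (p := x • p) ?_ ?_ ?_
    · rw [← hx]
      calc x * g * x⁻¹ * (x * b * x⁻¹) = x * (g * b) * x⁻¹ := by group
        _ = x * (b * g) * x⁻¹ := by rw [hc]
        _ = _ := by group
    · rw [conj_pow, h3]; group
    · rw [mul_smul, mul_smul, inv_smul_smul, hp]
  calc g = x⁻¹ * (x * g * x⁻¹) * x := by group
    _ = 1 := by rw [h1]; group

end M24

open Cfsg.Agent.SporadicA.Co0Mono Cfsg.Agent.SporadicA.Co1Simple
open Cfsg.Agent.SporadicStructure.Co0Base (e8 e8_coe)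
open Cfsg.Agent.CoOneType.InvMain (sp_inj sp_mul)

/-- An element of order 3 commuting with `k`, `k² = -1`, fixes no minimal vector. -/
theorem no_three {k g : Co0} (hk : k * k = signCo0 allOne) (hc : g * k = k * g) (h3 : g ^ 3 = 1)
    {v : leechLattice} (hv : sqNorm (v : GolayPt → ℤ) = 32) (hg : g • v = v) : g = 1 := by
  have hkk : ∀ u : leechLattice, k • k • u = -u := fun u => by rw [← mul_smul, hk, allOne_smul]
  have hgk : g • k • v = k • v := by rw [← mul_smul, hc, mul_smul, hg]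
  have hn0 : dotInt (v : GolayPt → ℤ) ((k • v : leechLattice) : GolayPt → ℤ) = 0 := by
    have h1 := Cfsg.Agent.Leech.Co0Elts.dotInt_smul k v (k • v)
    rw [hkk] at h1
    have h2 : ((-v : leechLattice) : GolayPt → ℤ) = -(v : GolayPt → ℤ) := rfl
    rw [h2, Cfsg.Agent.Leech.Basic.dotInt_neg_right, Cfsg.Agent.Leech.Basic.dotInt_comm] at h1
    omega
  have hw : sqNorm ((v + k • v : leechLattice) : GolayPt → ℤ) = 64 := by
    rw [AddSubgroup.coe_add, Cfsg.Agent.Leech.Basic.sqNorm_add, hn0, sqNorm_smul, hv]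
    norm_num
  obtain ⟨h, hh⟩ := Cfsg.Agent.SporadicA.Norm64.orbit64 _ (e8 none) hw (sqNorm_e8 _)
  set g' := h * g * h⁻¹ with hg'
  set k' := h * k * h⁻¹ with hk'
  have e1 : g' • e8 none = e8 none := by
    rw [hg', mul_smul, mul_smul, ← hh, inv_smul_smul, Cfsg.Agent.SporadicA.Co0Mono.smul_add g, hg, hgk]
  have e2 : k' • e8 none = -e8 none + (2 : ℕ) • (h • k • v) := by
    rw [hk', mul_smul, mul_smul, ← hh, inv_smul_smul, Cfsg.Agent.SporadicA.Co0Mono.smul_add k, hkk, Cfsg.Agent.SporadicA.Co0Mono.smul_add h, Cfsg.Agent.SporadicA.Co0Mono.smul_add h,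
      Cfsg.Agent.SporadicA.Co0Mono.smul_neg]
    abel
  have hk'c : k' • e8 none ∈ crossSet := by
    have h1 : -(k' • e8 none) ∈ crossSet := by
      refine mem_crossSet_of_congr _ (-(h • k • v)) none ?_ ?_
      · have h2 : ((-(k' • e8 none) : leechLattice) : GolayPt → ℤ) =
            -((k' • e8 none : leechLattice) : GolayPt → ℤ) := rfl
        rw [h2, Cfsg.Agent.Leech.Basic.sqNorm_neg, sqNorm_smul, sqNorm_e8]
      · rw [e2]
        abel
    have h2 := neg_mem_crossSet h1
    rwa [neg_neg] at h2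
  have hgN : g' ∈ N := by
    apply mem_N_of_e8
    intro i
    obtain ⟨u, hu⟩ := e8_sub i none
    refine mem_crossSet_of_congr _ (g' • u) none ?_ ?_
    · rw [sqNorm_smul, sqNorm_e8]
    · rw [hu, Cfsg.Agent.SporadicA.Co0Mono.smul_add g', e1, smul_nsmul]
  have hkN : k' ∈ N := by
    apply mem_N_of_e8
    intro i
    obtain ⟨u, hu⟩ := e8_sub i none
    obtain ⟨j, hj⟩ := (mem_crossSet _).1 hk'c
    rcases hj with hj | hj
    · refine mem_crossSet_of_congr _ (k' • u) j ?_ ?_
      · rw [sqNorm_smul, sqNorm_e8]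
      · rw [hu, Cfsg.Agent.SporadicA.Co0Mono.smul_add k', hj, smul_nsmul]
    · have h1 : -(k' • e8 i) ∈ crossSet := by
        refine mem_crossSet_of_congr _ (-(k' • u)) j ?_ ?_
        · have h2 : ((-(k' • e8 i) : leechLattice) : GolayPt → ℤ) =
              -((k' • e8 i : leechLattice) : GolayPt → ℤ) := rfl
          rw [h2, Cfsg.Agent.Leech.Basic.sqNorm_neg, sqNorm_smul, sqNorm_e8]
        · rw [hu, Cfsg.Agent.SporadicA.Co0Mono.smul_add k', hj, smul_nsmul]
          abel
      have h2 := neg_mem_crossSet h1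
      rwa [neg_neg] at h2
  obtain ⟨c, σ, hσ⟩ := exists_sign_perm hgN
  obtain ⟨d, τ, hτ⟩ := exists_sign_perm hkN
  have hcomm : g' * k' = k' * g' := by
    rw [hg', hk']
    calc h * g * h⁻¹ * (h * k * h⁻¹) = h * (g * k) * h⁻¹ := by group
      _ = h * (k * g) * h⁻¹ := by rw [hc]
      _ = _ := by group
  have hστ : σ * τ = τ * σ := by
    have h1 := hcomm
    rw [hσ, hτ, sp_mul, sp_mul] at h1
    exact (sp_inj h1).2
  have hg3 : g' ^ 3 = 1 := by rw [hg', conj_pow, h3]; group
  have hσ3 : σ ^ 3 = 1 := by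
    obtain ⟨e, he⟩ := sign_perm_pow c σ 3
    rw [← hσ, hg3] at he
    exact perm_eq_one he.symm
  have hk2 : k' * k' = signCo0 allOne := by
    have h1 : k' * k' = h * (k * k) * h⁻¹ := by rw [hk']; group
    rw [h1, hk, Subgroup.mem_center_iff.1 allOne_mem_center h, mul_inv_cancel_right]
  have hτ2 : τ * τ = 1 := by
    have h1 := hk2
    rw [hτ, sp_mul] at h1
    have h2 : signCo0 allOne = signCo0 allOne * permCo0 1 := by rw [map_one, mul_one]
    rw [h2] at h1
    exact (sp_inj h1).2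
  have hτf : ∀ p : GolayPt, τ • p ≠ p := by
    intro p hp
    have hp' : (τ : Equiv.Perm GolayPt) p = p := hp
    have h1 : k' • e8 p = e8 p ∨ k' • e8 p = -e8 p := by
      rw [hτ, mul_smul, perm_smul_e8, hp']
      exact sgn_smul_e8 d p
    have h2 : k' • k' • e8 p = -e8 p := by rw [← mul_smul, hk2, allOne_smul]
    have h4 : k' • k' • e8 p = e8 p := by
      rcases h1 with h1 | h1
      · rw [h1, h1]
      · rw [h1, Cfsg.Agent.SporadicA.Co0Mono.smul_neg, h1, neg_neg]
    rw [h4] at h2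
    exact e8_ne_neg p p h2
  have hσp : σ • (none : GolayPt) = none := by
    have h1 := e1
    rw [hσ, mul_smul, perm_smul_e8] at h1
    rcases sgn_smul_e8 c ((σ : Equiv.Perm GolayPt) none) with h2 | h2
    · rw [h2] at h1
      exact e8_inj h1
    · rw [h2] at h1
      exact absurd h1.symm (e8_ne_neg _ _)
  have hσ1 : σ = 1 := three_fix hτ2 hτf hστ hσ3 hσp
  have hg1 : g' = 1 := by
    have h1 : g' = signCo0 c := by rw [hσ, hσ1, map_one, mul_one]
    have h2 : g' * g' = 1 := by rw [h1, signCo0_mul_self]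
    calc g' = g' ^ 3 * (g' * g')⁻¹ := by group
      _ = 1 := by rw [hg3, h2]; group
  calc g = h⁻¹ * g' * h := by rw [hg']; group
    _ = 1 := by rw [hg1]; group

/-- The minimal vectors. -/
abbrev Mn : Type := {v : leechLattice // sqNorm (v : GolayPt → ℤ) = 32}

theorem card_Mn : Nat.card Mn = 196560 := by
  rw [← Cfsg.Agent.S0394.result, ← Nat.card_coe_set_eq]
  exact Nat.card_congr ⟨fun w => ⟨w.1.1, w.1.2, w.2⟩, fun x => ⟨⟨x.1, x.2.1⟩, x.2.2⟩, fun _ => rfl, fun _ => rfl⟩

instance : MulAction Co0 Mn where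
  smul g v := ⟨g • v.1, by rw [sqNorm_smul, v.2]⟩
  one_smul v := Subtype.ext (one_smul _ _)
  mul_smul g h v := Subtype.ext (mul_smul _ _ _)

theorem coe_smul_Mn (g : Co0) (v : Mn) : ((g • v : Mn) : leechLattice) = g • (v : leechLattice) := rfl

/-- No subgroup of order 81 of `Co0` commutes with `k`, `k² = -1`. -/
theorem no_81 {k : Co0} (hk : k * k = signCo0 allOne) (K : Subgroup Co0) (hc : ∀ g ∈ K, g * k = k * g)
    (hK : Nat.card K = 81) : False := by
  have hfin : Finite K := Nat.finite_of_card_ne_zero (by rw [hK]; norm_num)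
  have hfree : ∀ b : Mn, MulAction.stabilizer K b = ⊥ := by
    intro b
    by_contra hne
    have h3 : IsPGroup 3 (MulAction.stabilizer K b) := by
      have h1 : IsPGroup 3 K := IsPGroup.of_card (n := 4) (by rw [hK]; norm_num)
      exact h1.to_subgroup _
    have : Fact (Nat.Prime 3) := ⟨Nat.prime_three⟩
    have hnt : Nontrivial (MulAction.stabilizer K b) := (Subgroup.nontrivial_iff_ne_bot _).2 hne
    have h4 : 3 ∣ Nat.card (MulAction.stabilizer K b) := by
      obtain ⟨n, h5⟩ := IsPGroup.iff_card.1 h3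
      rw [h5]
      apply dvd_pow_self 3
      rintro rfl
      rw [pow_zero] at h5
      have := Finite.one_lt_card (α := MulAction.stabilizer K b)
      omega
    obtain ⟨x, hx⟩ := exists_prime_orderOf_dvd_card' 3 h4
    have hx3 : (((x : K) : Co0)) ^ 3 = 1 := by
      have h5 := pow_orderOf_eq_one x
      rw [hx] at h5
      exact congrArg (fun y : MulAction.stabilizer K b => ((y : K) : Co0)) h5
    have hxb : ((x : K) : Co0) • (b : leechLattice) = b := congrArg Subtype.val x.2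
    have h6 := no_three hk (hc _ (x : K).2) hx3 b.2 hxb
    have h7 : x = 1 := Subtype.ext (Subtype.ext h6)
    rw [h7, orderOf_one] at hx
    omega
  have h1 := Nat.card_congr (MulAction.selfEquivOrbitsQuotientProd (G := K) (X := Mn) hfree)
  rw [card_Mn, Nat.card_prod, hK] at h1
  omega

open Cfsg.Agent.CoOneType.CoOneE (pr pr_surjective pr_eq_iff)

/-- **`81` does not divide the order of the centralizer of an involution of class 2B of `Co1`.** -/
theorem not_dvd {k : Co0} (hk : k * k = signCo0 allOne) :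
    ¬ 81 ∣ Nat.card (Subgroup.centralizer ({pr k} : Set Spor.Co1)) := by
  intro h81
  set D := (Subgroup.centralizer ({pr k} : Set Spor.Co1)).comap pr with hD
  have h1 : 81 ∣ Nat.card D := by
    refine h81.trans ?_
    have h2 := Subgroup.card_map_dvd (H := D) pr
    rwa [hD, Subgroup.map_comap_eq_self_of_surjective pr_surjective] at h2
  have : Fact (Nat.Prime 3) := ⟨Nat.prime_three⟩
  obtain ⟨K, hK⟩ := Sylow.exists_subgroup_card_pow_prime (G := D) 3 (n := 4) (by norm_num; exact h1)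
  refine no_81 hk (K.map D.subtype) ?_ ?_
  · rintro _ ⟨x, hx, rfl⟩
    have hx1 : ((x : Co0)) * k = k * x ∨ (x : Co0) * k = k * x * signCo0 allOne := by
      have h2 : pr (x : Co0) * pr k = pr k * pr (x : Co0) := Subgroup.mem_centralizer_singleton_iff.1 x.2
      rw [← map_mul, ← map_mul] at h2
      exact (pr_eq_iff _ _).1 h2.symm
    have hx81 : (x : Co0) ^ 81 = 1 := by
      have h2 : (⟨x, hx⟩ : K) ^ 81 = 1 := by
        have h3 := pow_card_eq_one' (x := (⟨x, hx⟩ : K))
        rwa [hK, show 3 ^ 4 = 81 by norm_num] at h3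
      exact congrArg (fun y : K => ((y : D) : Co0)) h2
    show (x : Co0) * k = k * x
    rcases hx1 with h2 | h2
    · exact h2
    · have hz : ∀ y : Co0, y * signCo0 allOne = signCo0 allOne * y :=
        fun y => Subgroup.mem_center_iff.1 allOne_mem_center y
      have h3 : (x : Co0) ^ 2 * k = k * (x : Co0) ^ 2 := by
        calc (x : Co0) ^ 2 * k = x * (x * k) := by rw [pow_two, mul_assoc]
          _ = x * (k * x * signCo0 allOne) := by rw [h2]
          _ = (x * k) * (x * signCo0 allOne) := by group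
          _ = k * x * signCo0 allOne * (x * signCo0 allOne) := by rw [h2]
          _ = k * x * (signCo0 allOne * x) * signCo0 allOne := by group
          _ = k * x * (x * signCo0 allOne) * signCo0 allOne := by rw [← hz x]
          _ = k * x ^ 2 * (signCo0 allOne * signCo0 allOne) := by
            rw [pow_two]
            simp only [mul_assoc]
          _ = k * (x : Co0) ^ 2 := by rw [signCo0_mul_self, mul_one]
      have h4 : (x : Co0) = ((x : Co0) ^ 2) ^ 41 := by
        rw [← pow_mul, show 2 * 41 = 81 + 1 by norm_num, pow_succ, hx81, one_mul]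
      have h5 : Commute ((x : Co0) ^ 2) k := h3
      rw [h4]
      exact (h5.pow_left 41).eq
  · rw [Subgroup.card_map_of_injective D.subtype_injective, hK]
    norm_num

end Cfsg.Agent.KFacts.Co1.TwoBThree

end

-- merged: Cfsg.Agent.OddHalf.NI3.Ex.RowTools
section

/-!
# Tools for the rows of (EX3)

* `comp_false`: an involution with a large extraspecial 2-group has no component in its centralizer;
* `card_fix_congr`, `card_fix_conj`: transport of the order of `fix α`;
* `dvd_card_fix`: `81` divides the order of `fix α` in a configuration of `No3`.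
-/

set_option autoImplicit false

namespace Cfsg.Agent.OddHalf.NI3.Ex.RowTools

open Subgroup Cfsg Cfsg.Agent.OddHalf.Iface Cfsg.Agent.OddHalf.NI Cfsg.Agent.OddHalf.NI.Ex
open Cfsg.Agent.Co2Type.Quad

/-- An involution with a large extraspecial 2-group: its centralizer has no component. -/
theorem comp_false {K X : Type*} [Group K] [Group X] [Finite X] {z : K} {Q : Subgroup K} (hL : Large Q z)
    (f : K ≃* X) {J : Subgroup X} (hJ : CompIn (fix (MulAut.conj (f z))) J) : False := by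
  have hz : f z * f z = 1 := by rw [← map_mul, hL.z_sq, map_one]
  have hfix : ∀ x, x ∈ fix (MulAut.conj (f z)) ↔ x * f z = f z * x := by
    intro x
    rw [mem_fix, MulAut.conj_apply, mul_inv_eq_iff_eq_mul, eq_comm]
  have hQ : IsPGroup 2 Q := by
    intro x
    refine ⟨2, Subtype.ext ?_⟩
    have h4 : (x : K) ^ 2 ^ 2 = (x * x) * (x * x) := by
      rw [show (2 : ℕ) ^ 2 = 4 by norm_num, pow_succ, pow_succ, pow_succ, pow_one]
      group
    change (x : K) ^ 2 ^ 2 = 1
    rw [h4]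
    rcases hL.sq x x.2 with h | h
    · rw [h, mul_one]
    · rw [h, hL.z_sq]
  have hsz : ∀ g : X, g * f z = f z * g → f.symm g * z = z * f.symm g := by
    intro g hg
    have h1 := congrArg f.symm hg
    rwa [map_mul, map_mul, f.symm_apply_apply] at h1
  refine Balance.no_sub (a := MulAut.conj (f z)) (by rw [← map_mul, hz, map_one]) (z := f z)
    (by rw [MulAut.conj_apply, mul_inv_cancel_right]) (Q := Q.map f.toMonoidHom) (hQ.map _) ?_ ?_ ?_
    (D := J) (fun d hd => hJ.le hd) (fun d hd => (hfix d).1 (hJ.le hd))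
    (hJ.mono (fun j hj => ⟨hJ.le hj, mem_centralizer_singleton_iff.2 ((hfix j).1 (hJ.le hj))⟩) inf_le_left)
  · rintro _ ⟨q, hq, rfl⟩
    change f q * f z = f z * f q
    rw [← map_mul, hL.comm_z q hq, map_mul]
  · rintro g hg _ ⟨q, hq, rfl⟩
    refine ⟨f.symm g * q * (f.symm g)⁻¹, hL.conj_mem _ (hsz g hg) q hq, ?_⟩
    change f (f.symm g * q * (f.symm g)⁻¹) = g * f q * g⁻¹
    rw [map_mul, map_mul, map_inv, f.apply_symm_apply]
  · intro g hg hc
    refine ⟨f.symm g, hL.self _ (hsz g hg) fun q hq => ?_, f.apply_symm_apply g⟩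
    have h1 := congrArg f.symm (hc (f q) ⟨q, hq, rfl⟩)
    rwa [map_mul, map_mul, f.symm_apply_apply] at h1

/-- transport of automorphisms -/
theorem card_fix_congr {K X : Type*} [Group K] [Group X] (e : X ≃* K) (α : MulAut X) :
    Nat.card ↥(fix α) = Nat.card ↥(fix (MulAut.congr e α)) := by
  refine Nat.card_congr
    { toFun := fun x => ⟨e x, ?_⟩
      invFun := fun x => ⟨e.symm x, ?_⟩
      left_inv := fun x => Subtype.ext (e.symm_apply_apply x)
      right_inv := fun x => Subtype.ext (e.apply_symm_apply x) }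
  · change e (α (e.symm (e x))) = e x
    rw [e.symm_apply_apply, mem_fix.1 x.2]
  · have h1 : e (α (e.symm x)) = x := x.2
    rw [mem_fix]
    apply e.injective
    rw [h1, e.apply_symm_apply]

theorem card_fix_conj {K : Type*} [Group K] (α : MulAut K) (g : K) :
    Nat.card ↥(fix (MulAut.conj g * α * (MulAut.conj g)⁻¹)) = Nat.card ↥(fix α) := by
  have h := card_fix_congr (MulAut.conj g) α
  rw [h]
  rfl

theorem fix_conj {K : Type*} [Group K] (s : K) : fix (MulAut.conj s) = centralizer ({s} : Set K) := by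
  ext x
  rw [mem_fix, MulAut.conj_apply, mul_inv_eq_iff_eq_mul, mem_centralizer_singleton_iff, eq_comm]

theorem dvd_card_fix {X : Type*} [Group X] {α : MulAut X} {J : Subgroup X} (hc : CompIn (fix α) J)
    (hJ : 81 ∣ Nat.card (↥J ⧸ center ↥J)) : 81 ∣ Nat.card ↥(fix α) :=
  (card_dvd_of_card_quo hJ).trans (card_dvd_of_le hc.le)

end Cfsg.Agent.OddHalf.NI3.Ex.RowTools

end

-- merged: Cfsg.Agent.OddHalf.NI3.Ex.RowCo1
section

/-!
# Row `No3` of (EX3): `Co1` (helper907)

All automorphisms are inner. Class 2A (octads): the centralizer is 2-constrained; class 2C (dodecads): it is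
contained in `2^11:M24`; class 2B: `Co1.TwoBThree.not_dvd`.
-/

set_option autoImplicit false

namespace Cfsg.Agent.OddHalf.NI3.Ex.RowCo1

open Subgroup Cfsg Cfsg.Agent.OddHalf.Iface Cfsg.Agent.OddHalf.NI Cfsg.Agent.OddHalf.NI.Ex
open Cfsg.Agent.SporadicA.Co0Mono
open Cfsg.Agent.CoOneType.SignFacts (sup wt)
open Cfsg.Agent.CoOneType.ClosingFacts (mk mk_mul mk_eq_one exists_mk inv_cases isConj_dvd)
open Cfsg.Agent.OddHalf.NI3.Ex.RowTools

theorem not_dvd_dodecad {d : golayCode} (hd : wt d = 12) :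
    ¬ 81 ∣ Nat.card (centralizer ({mk (signCo0 d)} : Set Spor.Co1)) := by
  intro h
  have h1 := card_dvd_of_le (Cfsg.Agent.CoOneType.CoOneE.centralizer_dodecad_le d hd)
  have h2 : Nat.card (Cfsg.Agent.SporadicA.Co1Simple.N.map Cfsg.Agent.CoOneType.CoOneE.pr) ∣
      Nat.card Cfsg.Agent.SporadicA.Co1Simple.N := card_map_dvd _ _
  have h3 := (h.trans h1).trans h2
  rw [Cfsg.Agent.S0399.card_N] at h3
  norm_num at h3

/-- **Row `Co1`.** -/
theorem no3_co1 {X : Type*} [Group X] [Finite X] (h : Spor.IsoCo1 X) : No3 X := by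
  obtain ⟨e⟩ := h
  intro α hα J hc hJ _
  exfalso
  have h81 := dvd_card_fix hc hJ
  set β := MulAut.congr e α with hβ
  rw [card_fix_congr e α, ← hβ] at h81
  have hαα : α * α = 1 := by
    have := pow_orderOf_eq_one α
    rwa [hα, pow_two] at this
  have hββ : β * β = 1 := by rw [hβ, ← map_mul, hαα, map_one]
  have hβ1 : β ≠ 1 := by
    intro h1
    have h2 : α = 1 := (MulAut.congr e).injective (by rw [← hβ, h1, map_one])
    rw [h2, orderOf_one] at hα
    omega
  obtain ⟨s, hs⟩ := Cfsg.Agent.ConwayFacts.AutCo1.inner β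
  have hβs : β = MulAut.conj s := MulEquiv.ext fun g => by rw [MulAut.conj_apply, hs]
  have hss : s * s = 1 := by
    apply Cfsg.Agent.KFacts.Co1.SheetCo1.eq_one_of_central
    intro g
    have h1 := congrArg (fun b : MulAut Spor.Co1 => b g) hββ
    change β (β g) = g at h1
    rw [hs, hs] at h1
    calc s * s * g = (s * (s * g * s⁻¹) * s⁻¹) * (s * s) := by group
      _ = g * (s * s) := by rw [h1]
  have hs1 : s ≠ 1 := by
    rintro rfl
    exact hβ1 (by rw [hβs, map_one])
  rw [hβs, fix_conj] at h81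
  obtain ⟨o, ho⟩ := Cfsg.Agent.CoOneType.ClosingCo1.exists_octad
  obtain ⟨d, hd⟩ := Cfsg.Agent.CoOneType.ClosingCo1.exists_dodecad
  obtain ⟨t, rfl⟩ := exists_mk s
  rw [← mk_mul, mk_eq_one] at hss
  rcases hss with hss | hss
  · rcases inv_cases o d Cfsg.Agent.CoOneType.ClosingCo1.a1 ho hd t hss hs1 with h | h
    · -- class 2A
      obtain ⟨g, hg⟩ := isConj_iff.1 h
      let f : Spor.Co1 ≃* X := (MulAut.conj g).trans e.symm
      have hf : f (mk (signCo0 o)) = e.symm (mk t) := by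
        change e.symm (g * mk (signCo0 o) * g⁻¹) = _
        rw [hg]
      have hαs : α = MulAut.conj (f (mk (signCo0 o))) := by
        rw [hf]
        ext x
        apply e.injective
        have h1 : e (α (e.symm (e x))) = mk t * e x * (mk t)⁻¹ := hs (e x)
        rw [e.symm_apply_apply] at h1
        rw [h1, MulAut.conj_apply, map_mul, map_mul, map_inv, e.apply_symm_apply]
      rw [hαs] at hc
      exact comp_false (Cfsg.Agent.KFacts.Co1.InCo1.large ho) f hc
    · -- class 2C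
      exact not_dvd_dodecad hd (isConj_dvd h.symm h81)
  · -- class 2B
    exact Cfsg.Agent.KFacts.Co1.TwoBThree.not_dvd hss h81

end Cfsg.Agent.OddHalf.NI3.Ex.RowCo1

end

-- merged: Cfsg.Agent.OddHalf.NI3.Ex.Extra
section

/-!
# Fixed points of an automorphism on the centralizer of an involution with a large extraspecial subgroup

`pow_dvd_fix`: `γ² = 1`, `Q ≤ H` invariant under `γ`, `Q` normal in `H`, `|Q| ≥ 2^(2n+1)`, `q² ∈ {1, z}` for `q ∈ Q` with
`z` central in `Q`, `|H : Q|` even: `2^(n+1)` divides `|C(γ)|`.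
-/

set_option autoImplicit false

namespace Cfsg.Agent.OddHalf.NI3.Ex

open Subgroup Cfsg.Agent.OddHalf.NI.Ex

variable {G : Type*} [Group G]

/-- An involutory automorphism of a group of even order has an even number of fixed points. -/
theorem two_dvd_fix [Finite G] {γ : MulAut G} (hγ : γ * γ = 1) (h2 : 2 ∣ Nat.card G) : 2 ∣ Nat.card ↥(fix γ) := by
  classical
  have := Fintype.ofFinite G
  have : Fact (Nat.Prime 2) := ⟨Nat.prime_two⟩
  obtain ⟨f, hf⟩ : ∃ f : Function.End G, ∀ g, f g = γ g := ⟨fun g => γ g, fun _ => rfl⟩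
  have hf2 : f ^ 2 ^ 1 = 1 := by
    rw [pow_one, pow_two]
    funext g
    show f (f g) = g
    rw [hf, hf, ← MulAut.mul_apply, hγ, MulAut.one_apply]
  have h1 := Equiv.Perm.card_fixedPoints_modEq (p := 2) (n := 1) hf2
  rw [← Nat.card_eq_fintype_card] at h1
  have h3 : Fintype.card ↥(Function.fixedPoints f) = Nat.card ↥(fix γ) := by
    rw [← Nat.card_eq_fintype_card]
    exact Nat.card_congr (Equiv.subtypeEquivRight fun g => by
      rw [mem_fix, ← hf]
      exact Iff.rfl)
  have h4 : Nat.card G ≡ Nat.card ↥(fix γ) [MOD 2] := by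
    refine h1.trans ?_
    have h5 : ∀ a b : ℕ, a = b → a ≡ b [MOD 2] := fun a b e => e ▸ Nat.ModEq.refl a
    exact h5 _ _ h3
  exact Nat.modEq_zero_iff_dvd.1 (h4.symm.trans (Nat.modEq_zero_iff_dvd.2 h2))

section Main

variable {γ : MulAut G} {Q H : Subgroup G} {z : G}

/-- `q γ(q)⁻¹` -/
def dl (γ : MulAut G) (q : G) : G := q * (γ q)⁻¹

theorem dl_inv (hγ : ∀ g, γ (γ g) = g) (q : G) : γ (dl γ q) = (dl γ q)⁻¹ := by
  unfold dl
  rw [map_mul, map_inv, hγ]
  group

theorem dl_eq_iff {a b : G} : dl γ a = dl γ b ↔ a⁻¹ * b ∈ fix γ := by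
  unfold dl
  rw [mem_fix, map_mul, map_inv]
  constructor
  · intro h
    calc (γ a)⁻¹ * γ b = a⁻¹ * (a * (γ a)⁻¹) * γ b := by group
      _ = a⁻¹ * (b * (γ b)⁻¹) * γ b := by rw [h]
      _ = a⁻¹ * b := by group
  · intro h
    calc a * (γ a)⁻¹ = a * ((γ a)⁻¹ * γ b) * (γ b)⁻¹ := by group
      _ = a * (a⁻¹ * b) * (γ b)⁻¹ := by rw [h]
      _ = b * (γ b)⁻¹ := by group

/-- the elements of `Q` inverted by `γ` -/
def Iv (γ : MulAut G) (Q : Subgroup G) : Set G := {q | q ∈ Q ∧ γ q = q⁻¹}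

theorem card_Q [Finite G] (Q : Subgroup G) (γ : MulAut G) :
    Nat.card ↥Q = Nat.card ↥(fix γ ⊓ Q) * (dl γ '' (Q : Set G)).ncard := by
  have h1 : Nat.card ↥Q = Nat.card ↥((fix γ).subgroupOf Q) * ((fix γ).subgroupOf Q).index :=
    (card_mul_index _).symm
  have h2 : Nat.card ↥((fix γ).subgroupOf Q) = Nat.card ↥(fix γ ⊓ Q) := by
    rw [← inf_subgroupOf_right]
    exact Nat.card_congr (subgroupOfEquivOfLe inf_le_right).toEquiv
  rw [h1, h2]
  congr 1
  rw [← Nat.card_coe_set_eq]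
  refine Nat.card_congr (Equiv.ofBijective (Quotient.lift (fun q : ↥Q => (⟨dl γ q, q, q.2, rfl⟩ :
    ↥(dl γ '' (Q : Set G)))) ?_) ⟨?_, ?_⟩)
  · intro a b hab
    have h3 := QuotientGroup.leftRel_apply.1 hab
    exact Subtype.ext (dl_eq_iff.2 (mem_subgroupOf.1 h3))
  · intro a b
    induction a using Quotient.inductionOn with | _ a
    induction b using Quotient.inductionOn with | _ b
    intro h
    apply Quotient.sound
    apply QuotientGroup.leftRel_apply.2
    rw [mem_subgroupOf]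
    exact dl_eq_iff.1 (congrArg Subtype.val h)
  · rintro ⟨_, q, hq, rfl⟩
    exact ⟨Quotient.mk _ ⟨q, hq⟩, rfl⟩

theorem card_Iv_le [Finite G] (hcz : ∀ q ∈ Q, q * z = z * q) (hsq : ∀ q ∈ Q, q * q = 1 ∨ q * q = z)
    (hzz : z * z = 1) : (Iv γ Q).ncard ≤ 2 * Nat.card ↥(fix γ ⊓ Q) := by
  have hC : ((fix γ ⊓ Q : Subgroup G) : Set G).ncard = Nat.card ↥(fix γ ⊓ Q) := (Nat.card_coe_set_eq _).symm
  have key : ∀ q ∈ Iv γ Q, γ q = q ∨ γ q = q * z := by
    rintro q ⟨hq, h⟩
    rcases hsq q hq with h1 | h1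
    · left
      rw [h]
      exact inv_eq_of_mul_eq_one_left h1
    · right
      rw [h]
      apply inv_eq_of_mul_eq_one_left
      rw [mul_assoc, ← hcz q hq, ← mul_assoc, h1, hzz]
  by_cases hw : ∃ w ∈ Iv γ Q, γ w ≠ w
  · obtain ⟨w, hw, hne⟩ := hw
    have hw1 := (key w hw).resolve_left hne
    have h1 : Iv γ Q ⊆ ((fix γ ⊓ Q : Subgroup G) : Set G) ∪ (fun c => w * c) '' ((fix γ ⊓ Q : Subgroup G) : Set G) := by
      intro q hq
      rcases key q hq with h | h
      · exact Or.inl (mem_inf.2 ⟨h, hq.1⟩)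
      · right
        refine ⟨w⁻¹ * q, mem_inf.2 ⟨?_, mul_mem (inv_mem hw.1) hq.1⟩, by group⟩
        show γ (w⁻¹ * q) = w⁻¹ * q
        rw [map_mul, map_inv, hw1, h, hcz w hw.1, hcz q hq.1]
        group
    calc (Iv γ Q).ncard ≤ _ := Set.ncard_le_ncard h1 (Set.toFinite _)
      _ ≤ _ := Set.ncard_union_le _ _
      _ ≤ Nat.card ↥(fix γ ⊓ Q) + Nat.card ↥(fix γ ⊓ Q) := by
        refine Nat.add_le_add hC.le ?_
        rw [← hC]
        exact Set.ncard_image_le (Set.toFinite _)
      _ = 2 * Nat.card ↥(fix γ ⊓ Q) := by ring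
  · push Not at hw
    have h1 : Iv γ Q ⊆ ((fix γ ⊓ Q : Subgroup G) : Set G) := fun q hq => mem_inf.2 ⟨hw q hq, hq.1⟩
    calc (Iv γ Q).ncard ≤ _ := Set.ncard_le_ncard h1 (Set.toFinite _)
      _ = Nat.card ↥(fix γ ⊓ Q) := hC
      _ ≤ _ := by omega

theorem pow_dvd_fix [Finite G] (hγ : γ * γ = 1) {n : ℕ} (hQH : Q ≤ H) (hn : ∀ h ∈ H, ∀ q ∈ Q, h * q * h⁻¹ ∈ Q)
    (hγQ : ∀ q ∈ Q, γ q ∈ Q) (hγH : ∀ h ∈ H, γ h ∈ H) (hcz : ∀ q ∈ Q, q * z = z * q)
    (hsq : ∀ q ∈ Q, q * q = 1 ∨ q * q = z) (hzz : z * z = 1) (hcard : 2 ^ (2 * n + 1) ≤ Nat.card ↥Q)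
    (heven : 2 ∣ Q.relIndex H) : 2 ^ (n + 1) ∣ Nat.card ↥(fix γ) := by
  have : Fact (Nat.Prime 2) := ⟨Nat.prime_two⟩
  have hγγ : ∀ g, γ (γ g) = g := fun g => by rw [← MulAut.mul_apply, hγ, MulAut.one_apply]
  have hC2 : IsPGroup 2 ↥(fix γ ⊓ Q) := by
    rintro ⟨c, hc⟩
    refine ⟨2, Subtype.ext ?_⟩
    show c ^ (2 ^ 2) = 1
    have h1 : c ^ (2 ^ 2) = (c * c) * (c * c) := by
      rw [← pow_two, ← pow_two, ← pow_mul]
      norm_num
    rw [h1]
    rcases hsq c (mem_inf.1 hc).2 with h | h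
    · rw [h, one_mul]
    · rw [h, hzz]
  obtain ⟨k, hk⟩ := IsPGroup.iff_card.1 hC2
  have h1 := card_Q Q γ
  have h2 : dl γ '' (Q : Set G) ⊆ Iv γ Q := by
    rintro _ ⟨q, hq, rfl⟩
    exact ⟨mul_mem hq (inv_mem (hγQ q hq)), dl_inv hγγ q⟩
  have h3 : (dl γ '' (Q : Set G)).ncard ≤ (Iv γ Q).ncard := Set.ncard_le_ncard h2 (Set.toFinite _)
  have h4 := card_Iv_le (γ := γ) hcz hsq hzz
  rw [hk] at h1 h4
  by_cases hkn : n + 1 ≤ k
  · refine (pow_dvd_pow 2 hkn).trans ?_
    rw [← hk]
    exact card_dvd_of_le inf_le_left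
  rw [not_le] at hkn
  have h5 : 2 ^ (2 * n + 1) ≤ 2 ^ k * (2 * 2 ^ k) := by
    calc 2 ^ (2 * n + 1) ≤ _ := hcard
      _ = _ := h1
      _ ≤ _ := Nat.mul_le_mul_left _ (h3.trans h4)
  have h6 : 2 ^ k * (2 * 2 ^ k) = 2 ^ (2 * k + 1) := by ring
  rw [h6] at h5
  have h7 := (Nat.pow_le_pow_iff_right (a := 2) (by norm_num)).1 h5
  have h8 : k = n := by omega
  subst h8
  -- equality: every inverted element of `Q` is a `dl γ q`
  have h9 : dl γ '' (Q : Set G) = Iv γ Q := by
    apply Set.eq_of_subset_of_ncard_le h2 _ (Set.toFinite _)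
    have h10 : 2 ^ k * (2 * 2 ^ k) ≤ 2 ^ k * (dl γ '' (Q : Set G)).ncard := by
      rw [h6, ← h1]
      exact hcard
    exact h4.trans (Nat.le_of_mul_le_mul_left h10 (by positivity))
  -- the quotient
  have hN : (Q.subgroupOf H).Normal := by
    refine ⟨fun q hq h => ?_⟩
    rw [mem_subgroupOf] at hq ⊢
    exact hn h h.2 q hq
  let γH : ↥H ≃* ↥H :=
    { toFun := fun h => ⟨γ h, hγH h h.2⟩
      invFun := fun h => ⟨γ h, hγH h h.2⟩
      left_inv := fun h => Subtype.ext (hγγ h)
      right_inv := fun h => Subtype.ext (hγγ h)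
      map_mul' := fun a b => Subtype.ext (map_mul γ (a : G) b) }
  have hmap : (Q.subgroupOf H).map γH.toMonoidHom = Q.subgroupOf H := by
    ext h
    constructor
    · rintro ⟨q, hq, rfl⟩
      exact hγQ _ hq
    · intro hh
      exact ⟨γH h, hγQ _ hh, Subtype.ext (hγγ h)⟩
  let γL : MulAut (↥H ⧸ Q.subgroupOf H) := QuotientGroup.congr _ _ γH hmap
  have hγL : ∀ h : ↥H, γL (QuotientGroup.mk' (Q.subgroupOf H) h) = QuotientGroup.mk' (Q.subgroupOf H) (γH h) :=
    fun h => rfl
  have hγL2 : γL * γL = 1 := by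
    ext x
    obtain ⟨h, rfl⟩ := QuotientGroup.mk'_surjective _ x
    rw [MulAut.mul_apply, hγL, hγL]
    rw [show γH (γH h) = h from Subtype.ext (hγγ h)]
    rfl
  have h10 : 2 ∣ Nat.card ↥(fix γL) := two_dvd_fix hγL2 heven
  let π : ↥(fix γ ⊓ H) →* ↥H ⧸ Q.subgroupOf H :=
    (QuotientGroup.mk' (Q.subgroupOf H)).comp (inclusion inf_le_right)
  have hr : π.range = fix γL := by
    ext x
    constructor
    · rintro ⟨d, rfl⟩
      show γL (π d) = π d
      have : γL (π d) = QuotientGroup.mk' (Q.subgroupOf H) (γH (inclusion inf_le_right d)) := rfl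
      rw [this]
      exact congrArg (QuotientGroup.mk' (Q.subgroupOf H)) (Subtype.ext (mem_inf.1 d.2).1 :
        γH (inclusion inf_le_right d) = inclusion inf_le_right d)
    · intro hx
      obtain ⟨h, rfl⟩ := QuotientGroup.mk'_surjective _ x
      have h11 : γL (QuotientGroup.mk' (Q.subgroupOf H) h) = QuotientGroup.mk' (Q.subgroupOf H) h := hx
      rw [hγL] at h11
      have h12 : (h : G)⁻¹ * γ h ∈ Q := (QuotientGroup.eq (s := Q.subgroupOf H) (a := h) (b := γH h)).1 h11.symm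
      have h13 : (h : G)⁻¹ * γ h ∈ Iv γ Q := ⟨h12, by rw [map_mul, map_inv, hγγ]; group⟩
      rw [← h9] at h13
      obtain ⟨q, hq, e⟩ := h13
      have hq' : q ∈ Q := hq
      have h14 : γ ((h : G) * q) = h * q := by
        have e' : q * (γ q)⁻¹ = (h : G)⁻¹ * γ h := e
        rw [map_mul]
        calc γ h * γ q = h * ((h : G)⁻¹ * γ h) * γ q := by group
          _ = h * (q * (γ q)⁻¹) * γ q := by rw [e']
          _ = h * q := by group
      refine ⟨⟨(h : G) * q, mem_inf.2 ⟨h14, mul_mem h.2 (hQH hq')⟩⟩, ?_⟩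
      show QuotientGroup.mk' (Q.subgroupOf H) _ = _
      apply QuotientGroup.eq.2
      rw [mem_subgroupOf]
      have h15 : (((inclusion (inf_le_right : fix γ ⊓ H ≤ H) ⟨(h : G) * q, mem_inf.2 ⟨h14, mul_mem h.2 (hQH hq')⟩⟩)⁻¹ *
          h : ↥H) : G) = q⁻¹ := by
        show ((h : G) * q)⁻¹ * h = q⁻¹
        group
      rw [h15]
      exact inv_mem hq'
  have hker : Nat.card ↥π.ker = 2 ^ k := by
    rw [← hk]
    refine Nat.card_congr ⟨fun d => ⟨(d : ↥(fix γ ⊓ H)), mem_inf.2 ⟨(mem_inf.1 d.1.2).1, ?_⟩⟩,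
      fun c => ⟨⟨c, mem_inf.2 ⟨(mem_inf.1 c.2).1, hQH (mem_inf.1 c.2).2⟩⟩, ?_⟩, fun d => rfl, fun c => rfl⟩
    · have h11 : (inclusion (inf_le_right : fix γ ⊓ H ≤ H) (d : ↥(fix γ ⊓ H))) ∈ Q.subgroupOf H :=
        (QuotientGroup.eq_one_iff _).1 d.2
      exact h11
    · apply (QuotientGroup.eq_one_iff _).2
      rw [mem_subgroupOf]
      exact (mem_inf.1 c.2).2
  have h11 : Nat.card ↥(fix γ ⊓ H) = 2 ^ k * Nat.card ↥(fix γL) := by
    rw [← hr, ← hker, ← π.ker.card_mul_index, Subgroup.index_ker]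
  refine Dvd.dvd.trans ?_ (card_dvd_of_le (inf_le_left : fix γ ⊓ H ≤ fix γ))
  rw [h11, pow_succ]
  exact Nat.mul_dvd_mul_left _ h10

end Main

end Cfsg.Agent.OddHalf.NI3.Ex

end

-- merged: Cfsg.Agent.OddHalf.NI3.Ex.TwESix
section

/-!
# (EX3), the row `²E₆(2)`: `2¹¹` divides `|C_X(α)|` for every `α ∈ Aut X`, `α² = 1`
-/

set_option autoImplicit false

namespace Cfsg.Agent.OddHalf.NI3.Ex

open Subgroup Cfsg.Agent.OddHalf.NI.Ex

section Conj

variable {G : Type*} [Group G]

/-- An automorphism `α`, `α² = 1`, preserving a conjugacy class of odd length, fixes a member. -/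
theorem exists_fixed_conj [Finite G] {r : G} (hodd : Odd (centralizer ({r} : Set G)).index) {α : MulAut G}
    (hα : α * α = 1) (hr : ∃ k, α r = k * r * k⁻¹) : ∃ g, α (g * r * g⁻¹) = g * r * g⁻¹ := by
  classical
  have hαα : ∀ g, α (α g) = g := fun g => by rw [← MulAut.mul_apply, hα, MulAut.one_apply]
  obtain ⟨k, hk⟩ := hr
  let T : Set G := {t | ∃ g, t = g * r * g⁻¹}
  have hT : ∀ t ∈ T, α t ∈ T := by
    rintro _ ⟨g, rfl⟩
    exact ⟨α g * k, by rw [map_mul, map_mul, map_inv, hk]; group⟩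
  have hcard : Nat.card ↥T = (centralizer ({r} : Set G)).index := by
    symm
    refine Nat.card_congr (Equiv.ofBijective (Quotient.lift (fun g : G => (⟨g * r * g⁻¹, g, rfl⟩ : ↥T)) ?_) ⟨?_, ?_⟩)
    · intro a b hab
      have h1 := QuotientGroup.leftRel_apply.1 hab
      rw [mem_centralizer_singleton_iff] at h1
      apply Subtype.ext
      show a * r * a⁻¹ = b * r * b⁻¹
      calc a * r * a⁻¹ = a * (r * (a⁻¹ * b)) * b⁻¹ := by group
        _ = a * (a⁻¹ * b * r) * b⁻¹ := by rw [h1]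
        _ = b * r * b⁻¹ := by group
    · intro a b
      induction a using Quotient.inductionOn with | _ a
      induction b using Quotient.inductionOn with | _ b
      intro h
      have h1 : a * r * a⁻¹ = b * r * b⁻¹ := congrArg Subtype.val h
      apply Quotient.sound
      apply QuotientGroup.leftRel_apply.2
      rw [mem_centralizer_singleton_iff]
      calc a⁻¹ * b * r = a⁻¹ * (b * r * b⁻¹) * b := by group
        _ = a⁻¹ * (a * r * a⁻¹) * b := by rw [h1]
        _ = r * (a⁻¹ * b) := by group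
    · rintro ⟨_, g, rfl⟩
      exact ⟨Quotient.mk _ g, rfl⟩
  have := Fintype.ofFinite ↥T
  have : Fact (Nat.Prime 2) := ⟨Nat.prime_two⟩
  let σ : Equiv.Perm ↥T := ⟨fun t => ⟨α t, hT t t.2⟩, fun t => ⟨α t, hT t t.2⟩, fun t => Subtype.ext (hαα t),
    fun t => Subtype.ext (hαα t)⟩
  obtain ⟨⟨_, g, rfl⟩, ha⟩ := Equiv.Perm.exists_fixed_point_of_prime (p := 2) (n := 1) (α := ↥T) (by
    rw [← Nat.card_eq_fintype_card, hcard]
    exact fun h => (Nat.not_even_iff_odd.2 hodd) (even_iff_two_dvd.2 h)) (σ := σ) (by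
      rw [pow_one, pow_two]
      ext t
      exact hαα t)
  exact ⟨g, congrArg Subtype.val ha⟩

theorem card_fix_conj (α : MulAut G) (g : G) :
    Nat.card ↥(fix (MulAut.conj g⁻¹ * α * MulAut.conj g)) = Nat.card ↥(fix α) := by
  have key : ∀ x, (MulAut.conj g⁻¹ * α * MulAut.conj g) x = x ↔ α (g * x * g⁻¹) = g * x * g⁻¹ := by
    intro x
    rw [MulAut.mul_apply, MulAut.mul_apply, MulAut.conj_apply, MulAut.conj_apply, inv_inv]
    constructor
    · intro h
      nth_rewrite 2 [← h]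
      group
    · intro h
      rw [h]; group
  refine Nat.card_congr ⟨fun x => ⟨g * x * g⁻¹, (key x).1 x.2⟩, fun y => ⟨g⁻¹ * y * g, (key _).2 ?_⟩, fun x => ?_,
    fun y => ?_⟩
  · have e : g * (g⁻¹ * (y : G) * g) * g⁻¹ = y := by group
    rw [e]
    exact y.2
  · apply Subtype.ext
    show g⁻¹ * (g * (x : G) * g⁻¹) * g = x
    group
  · apply Subtype.ext
    show g * (g⁻¹ * (y : G) * g) * g⁻¹ = y
    group

end Conj

open Cfsg Cfsg.Lie Cfsg.Agent.TwoESix Cfsg.Agent.TwoESix.LongCard Cfsg.Agent.TwoESix.SheetA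
open Cfsg.Agent.TwoESix.KeyExtra Cfsg.Agent.TwoESix.SheetD Cfsg.Agent.TwoESix.FlagH Cfsg.Agent.TwoESix.LeviA

universe u

theorem card_PSU_six {F : Type u} [Field F] [Fintype F] (hF : Fintype.card F = 2 ^ 2) :
    Nat.card (PSU 6 F 2) = 9196830720 := by
  have h := Cfsg.Agent.S0280.result hF 6 (by norm_num)
  simp only [Finset.prod_range_succ, Finset.prod_range_zero] at h
  have e1 : Nat.gcd 6 3 = 3 := by decide
  norm_num [e1] at h
  omega

/-- **`²E₆(2)`: `2¹¹` divides `|C(α)|`.** -/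
theorem pow_dvd_fix_twE6 {K : Type u} [Field K] [Fintype K] (hK : Fintype.card K = 4)
    {α : MulAut ↥(twistedE6 K 2)} (hα : α * α = 1) : 2 ^ 11 ∣ Nat.card ↥(fix α) := by
  obtain ⟨-, φ, F⟩ := LeviA.exists_four K hK
  have := finite_E (K := K)
  have hr : r0 F ∈ BabyU.rootClass K := xe_T F 71 (by decide +kernel)
  obtain ⟨g, hg⟩ := exists_fixed_conj (r := r0 F) (by rw [index_cent F]; decide) hα (by
    obtain ⟨k, hk⟩ := exists_conj F ((ExtTwisted.auto K K F.card F.card α (r0 F)).1 hr)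
    exact ⟨k, hk.symm⟩)
  rw [← card_fix_conj α g]
  obtain ⟨γ, hγ⟩ : ∃ γ, γ = MulAut.conj g⁻¹ * α * MulAut.conj g := ⟨_, rfl⟩
  rw [← hγ]
  have hγ2 : γ * γ = 1 := by
    have h1 : (MulAut.conj g⁻¹ * α * MulAut.conj g) * (MulAut.conj g⁻¹ * α * MulAut.conj g) =
        MulAut.conj g⁻¹ * (α * α) * MulAut.conj g := by
      rw [map_inv]; group
    rw [hγ, h1, hα, map_inv]; group
  have hγr : γ (r0 F) = r0 F := by
    rw [hγ]
    show MulAut.conj g⁻¹ (α (MulAut.conj g (r0 F))) = r0 F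
    rw [MulAut.conj_apply g, hg, MulAut.conj_apply]
    group
  have hγγ : ∀ y, γ (γ y) = y := fun y => by rw [← MulAut.mul_apply, hγ2, MulAut.one_apply]
  have hH : ∀ h ∈ centralizer ({r0 F} : Set ↥(twistedE6 K 2)), γ h ∈ centralizer ({r0 F} : Set ↥(twistedE6 K 2)) := by
    intro h hh
    rw [mem_centralizer_singleton_iff] at hh ⊢
    have := congrArg γ hh
    rwa [map_mul, map_mul, hγr] at this
  let β : MulAut ↥(centralizer ({r0 F} : Set ↥(twistedE6 K 2))) :=
    { toFun := fun h => ⟨γ h, hH h h.2⟩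
      invFun := fun h => ⟨γ h, hH h h.2⟩
      left_inv := fun h => Subtype.ext (hγγ h)
      right_inv := fun h => Subtype.ext (hγγ h)
      map_mul' := fun a b => Subtype.ext (map_mul γ (a : ↥(twistedE6 K 2)) b) }
  have hRH : RE K ≤ centralizer ({r0 F} : Set ↥(twistedE6 K 2)) := fun q hq =>
    mem_centralizer_singleton_iff.2 (RE_comm_r0 F hq)
  obtain ⟨ψ, hsurj, hker, -⟩ := exists_chart F
  have hker' : ψ.ker = (RE K).subgroupOf (centralizer ({r0 F} : Set ↥(twistedE6 K 2))) := by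
    ext y
    rw [MonoidHom.mem_ker]
    exact hker y
  have hidx : (RE K).relIndex (centralizer ({r0 F} : Set ↥(twistedE6 K 2))) = 9196830720 := by
    rw [relIndex, ← hker', index_ker, MonoidHom.range_eq_top.2 hsurj, card_top]
    exact card_PSU_six (hF4 F)
  have hcR : Nat.card ↥(RE K) = 2 ^ (2 * 10 + 1) := by
    have h1 : Nat.card ↥(RE K) * (RE K).relIndex (centralizer ({r0 F} : Set ↥(twistedE6 K 2))) =
        Nat.card ↥(centralizer ({r0 F} : Set ↥(twistedE6 K 2))) := by
      rw [← Nat.card_congr (subgroupOfEquivOfLe hRH).toEquiv]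
      exact card_mul_index _
    rw [hidx, card_cent F] at h1
    have h2 : Nat.card ↥(RE K) * 9196830720 = 2 ^ (2 * 10 + 1) * 9196830720 := by rw [h1]; norm_num
    exact Nat.eq_of_mul_eq_mul_right (by norm_num) h2
  exact pow_dvd_fix (n := 10) hγ2 hRH (fun h hh q hq => R_norm F h (mem_centralizer_singleton_iff.1 hh) q hq)
    (fun q hq => RE_char F β ⟨q, hRH hq⟩ hq) hH (fun q hq => RE_comm_r0 F hq) (fun q hq => sq_RE F q hq)
    (r0_sq' F) hcR.ge (by rw [hidx]; norm_num)

/-! ### The row -/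

theorem card_fix_congr {X Y : Type*} [Group X] [Group Y] (e : X ≃* Y) (α : MulAut X) :
    Nat.card ↥(fix (MulAut.congr e α)) = Nat.card ↥(fix α) := by
  have h : ∀ x, x ∈ fix α ↔ e x ∈ fix (MulAut.congr e α) := by
    intro x
    have h1 : MulAut.congr e α (e x) = e (α x) := by
      show e (α (e.symm (e x))) = _
      rw [e.symm_apply_apply]
    rw [mem_fix, mem_fix, h1]
    exact e.injective.eq_iff.symm
  exact (Nat.card_congr (e.toEquiv.subtypeEquiv h)).symm

theorem pow_dvd_fix_te62 {X : Type u} [Group X] (h : D9.Cut.X2E62 X) {α : MulAut X} (hα : α * α = 1) :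
    2 ^ 11 ∣ Nat.card ↥(fix α) := by
  obtain ⟨F, i, j, hF, ⟨e⟩⟩ := h
  rw [← card_fix_congr e]
  exact pow_dvd_fix_twE6 hF (by rw [← map_mul, hα, map_one])

theorem card_te62 {X : Type u} [Group X] (h : D9.Cut.X2E62 X) : Nat.card X = 76532479683774853939200 := by
  obtain ⟨F, i, j, hF, ⟨e⟩⟩ := h
  obtain ⟨-, φ, H⟩ := LeviA.exists_four F hF
  rw [Nat.card_congr e.toEquiv, card_E H]

theorem ct_te62 {X : Type u} [Group X] [Finite X] (hs : IsSimpleGroup X) (hna : ¬ IsMulCommutative X)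
    (h : D9.Cut.X2E62 X) : CT X := by
  obtain ⟨F, i, j, hF, ⟨e⟩⟩ := h
  have h2 := charP_two (F := F) (f := 2) (by rw [hF]; norm_num)
  exact CT.of_filt hs hna (Or.inr (Or.inr (Or.inr (Or.inr (Or.inr (Or.inr (Or.inr
    ⟨F, i, j, h2, 2, Nat.prime_two.isPrimePow, Or.inl ⟨by rw [hF]; norm_num, ⟨e⟩⟩⟩)))))))

/-- **The row `²E₆(2)`.** -/
theorem no3_te62 {X : Type u} [Group X] [Finite X] (hs : IsSimpleGroup X) (hna : ¬ IsMulCommutative X)
    (h : D9.Cut.X2E62 X) : No3 X := by
  intro α hα J hJ h81 hr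
  by_contra hg
  have hX := ct_te62 hs hna h
  have hα2 : α * α = 1 := by rw [← pow_two, ← hα, pow_orderOf_eq_one]
  have hJX : Nat.card (↥J ⧸ center ↥J) ∣ Nat.card X := by
    refine Dvd.dvd.trans ?_ (card_subgroup_dvd_card J)
    exact ⟨Nat.card ↥(center ↥J), by rw [mul_comm]; exact (center ↥J).card_mul_index.symm⟩
  rw [card_te62 h] at hJX
  have key : 2 ∣ Nat.card (↥J ⧸ center ↥J) → 2 ^ 11 ∣ Nat.card (MulAut (↥J ⧸ center ↥J)) := fun he =>
    pow_dvd hX.char hX.center hα2 hJ (he.trans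
      ⟨Nat.card ↥(center ↥J), by rw [mul_comm]; exact (center ↥J).card_mul_index.symm⟩) (pow_dvd_fix_te62 h hα2)
  rcases Three.cases hr h81 hg with ⟨-, h1, h2⟩ | ⟨h1, h2⟩ | ⟨h1, h2⟩ | ⟨h1, h2⟩ | h1
  · have := key (by rw [h1]; norm_num)
    rw [h2] at this
    norm_num at this
  · have := key (by rw [h1]; norm_num)
    rw [h2] at this
    norm_num at this
  · have := key (by rw [h1]; norm_num)
    rw [h2] at this
    norm_num at this
  · have := key (by rw [h1]; norm_num)
    rw [h2] at this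
    norm_num at this
  · have := h1.trans hJX
    norm_num at this

end Cfsg.Agent.OddHalf.NI3.Ex

end

-- merged: Cfsg.Agent.OddHalf.NI3.Ex.FiRow.Inner
section

/-!
# (EX3), row `Fi22`: the inner automorphisms (helper286)

`inner`: the centralizer of an involution of `Fi22` has no component, or it is `2.U₆(2)`.
-/

set_option autoImplicit false
set_option linter.style.haveILetI false

namespace Cfsg.Agent.OddHalf.NI3.Ex.FiRow.Inner

open Subgroup Cfsg Cfsg.Agent.OddHalf.NI Cfsg.Agent.OddHalf.NI.Ex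
open Cfsg.Agent.OddHalf.NI3.Ex.FiRow.Base
open Cfsg.Agent.OddHalf.D3.EvDiag (qi)

theorem cube {x y : Spor.Fi22} (hx : x ∈ T) (hy : y ∈ T) : x * y = y * x ∨ (x * y) ^ 3 = 1 := by
  rcases kt.three x hx y hy with h | h
  · exact Or.inl h
  · right
    have xx := kt.sq x hx
    have yy := kt.sq y hy
    calc (x * y) ^ 3 = (x * y * x) * (y * x * y) := by rw [pow_succ, pow_two]; group
      _ = (y * x * y) * (y * x * y) := by rw [h]
      _ = y * x * (y * y) * x * y := by group
      _ = y * (x * x) * y := by rw [yy]; group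
      _ = 1 := by rw [xx, mul_one, yy]

/-- commuting triples -/
structure Tri (s a b c : Spor.Fi22) : Prop where
  ma : a ∈ T
  mb : b ∈ T
  mc : c ∈ T
  ab : a ≠ b
  ac : a ≠ c
  bc : b ≠ c
  cab : a * b = b * a
  cac : a * c = c * a
  cbc : b * c = c * b
  eq : s = a * b * c

theorem Tri.comm {s a b c x : Spor.Fi22} (h : Tri s a b c) (hx : x ∈ T) (hc : x * s = s * x) : x * a = a * x := by
  have sx := kt.sq x hx
  have sa := kt.sq a h.ma
  have sb := kt.sq b h.mb
  have sc := kt.sq c h.mc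
  have hc' : x * (a * b * c) = a * b * c * x := by rw [← h.eq]; exact hc
  rcases R08.CohUniq.three_abs sx sa sb sc h.cbc hc' (cube hx h.ma) (cube hx h.mb) (cube hx h.mc) with h1 | h1 | h1
  · exact h1
  · -- `x` commutes with `b`, so with `a c`
    have h2 : x * (a * c) = a * c * x := by
      have e : a * c = b * (a * b * c) := by
        calc a * c = (b * b) * a * c := by rw [sb, one_mul]
          _ = b * (b * a) * c := by group
          _ = b * (a * b * c) := by rw [← h.cab]; group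
      rw [e]
      calc x * (b * (a * b * c)) = (x * b) * (a * b * c) := by group
        _ = b * (x * (a * b * c)) := by rw [h1]; group
        _ = b * (a * b * c) * x := by rw [hc']; group
    exact (R08.CohUniq.two_abs sx sa sc h.ac h2 (cube hx h.ma) (cube hx h.mc)).1
  · have h2 : x * (a * b) = a * b * x := by
      have e : a * b = (a * b * c) * c := by
        calc a * b = a * b * (c * c) := by rw [sc, mul_one]
          _ = a * b * c * c := by group
      rw [e]
      calc x * (a * b * c * c) = (x * (a * b * c)) * c := by group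
        _ = a * b * c * (x * c) := by rw [hc']; group
        _ = a * b * c * c * x := by rw [h1]; group
    exact (R08.CohUniq.two_abs sx sa sb h.ab h2 (cube hx h.ma) (cube hx h.mb)).1

theorem Tri.conj {s a b c g : Spor.Fi22} (h : Tri s a b c) (hg : g * s = s * g) :
    Tri s (g * a * g⁻¹) (g * b * g⁻¹) (g * c * g⁻¹) := by
  have ne : ∀ {x y : Spor.Fi22}, x ≠ y → g * x * g⁻¹ ≠ g * y * g⁻¹ := fun hxy h1 =>
    hxy (mul_left_cancel (mul_right_cancel h1))
  have cm : ∀ {x y : Spor.Fi22}, x * y = y * x → (g * x * g⁻¹) * (g * y * g⁻¹) = (g * y * g⁻¹) * (g * x * g⁻¹) :=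
    fun hxy => Twin.comm_conj hxy
  refine ⟨kt.conj g a h.ma, kt.conj g b h.mb, kt.conj g c h.mc, ne h.ab, ne h.ac, ne h.bc, cm h.cab, cm h.cac,
    cm h.cbc, ?_⟩
  have h1 : s = g * s * g⁻¹ := by rw [hg, mul_inv_cancel_right]
  calc s = g * s * g⁻¹ := h1
    _ = g * (a * b * c) * g⁻¹ := by rw [h.eq]
    _ = (g * a * g⁻¹) * (g * b * g⁻¹) * (g * c * g⁻¹) := by group

theorem Tri.rot {s a b c : Spor.Fi22} (h : Tri s a b c) : Tri s b a c :=
  ⟨h.mb, h.ma, h.mc, h.ab.symm, h.bc, h.ac, h.cab.symm, h.cbc, h.cac, by rw [h.eq, h.cab]⟩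

theorem Tri.self {s a b c : Spor.Fi22} (h : Tri s a b c) : a * s = s * a := by
  rw [h.eq]
  calc a * (a * b * c) = a * (a * b) * c := by group
    _ = a * (b * a) * c := by rw [h.cab]
    _ = a * b * (a * c) := by group
    _ = a * b * (c * a) := by rw [h.cac]
    _ = a * b * c * a := by group

theorem quasi_cent {s : Spor.Fi22} (hs : s ∈ T) : IsQuasisimple ↥(centralizer ({s} : Set Spor.Fi22)) ∧
    qi (centralizer ({s} : Set Spor.Fi22)) = 9196830720 := by
  obtain ⟨c, hc, hne, -, hcs, -⟩ := kt.nb s hs s hs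
  obtain ⟨R, Fa⟩ := KFacts.FiTT.facts_of_iso (MulEquiv.refl Spor.Fi22) (a := s) (b := c)
    ⟨s, hs, rfl⟩ ⟨c, hc, rfl⟩ hne.symm hcs.symm
  refine ⟨Fa.quasi, ?_⟩
  obtain ⟨F, i, j, hF, ⟨e⟩⟩ := Fa.quo
  show (center ↥(centralizer ({s} : Set Spor.Fi22))).index = _
  rw [Subgroup.index, Nat.card_congr e.toEquiv, TSp.Orders.card_PSU hF]

/-- **The inner involutory automorphisms.** -/
theorem inner {s : Spor.Fi22} (hss : s * s = 1) (hs1 : s ≠ 1) {J : Subgroup Spor.Fi22}
    (hJ : CompIn (fix (MulAut.conj s)) J) : J = centralizer ({s} : Set Spor.Fi22) ∧ qi J = 9196830720 := by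
  have hfin : Finite Spor.Fi22 := Base.fin
  have hα : MulAut.conj s * MulAut.conj s = 1 := by rw [← map_mul, hss, map_one]
  have hfix : ∀ x, x ∈ fix (MulAut.conj s) ↔ s * x = x * s := by
    intro x
    rw [mem_fix, MulAut.conj_apply, mul_inv_eq_iff_eq_mul]
  rcases kt.inv s hss with h | h | ⟨a, ha, b, hb, hne, hab, rfl⟩ |
    ⟨a, ha, b, hb, c, hc, nab, nac, nbc, cab, cac, cbc, e⟩
  · exact absurd h hs1
  · obtain ⟨hq, hn⟩ := quasi_cent h
    have hF : fix (MulAut.conj s) = centralizer ({s} : Set Spor.Fi22) := by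
      ext x
      rw [hfix, mem_centralizer_singleton_iff]
      exact eq_comm
    rw [hF] at hJ
    have h1 := hJ.eq_of_le hq le_rfl hJ.le
    refine ⟨h1, ?_⟩
    rw [h1]; exact hn
  · exfalso
    obtain ⟨-, j, hj, hjne⟩ := pair_moves hα ha hb hne hab (by rw [MulAut.conj_apply]; group) hJ
    exact hjne ((hfix j).1 (hJ.le hj))
  · exfalso
    have hT : Tri s a b c := ⟨ha, hb, hc, nab, nac, nbc, cab, cac, cbc, e⟩
    set P : Set Spor.Fi22 := {x | ∃ y z, Tri s x y z} with hP
    have hPc : ∀ x ∈ P, ∀ y ∈ P, x * y = y * x := by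
      rintro x ⟨x1, x2, hx⟩ y ⟨y1, y2, hy⟩
      exact hy.comm hx.ma hx.self
    have hPs : ∀ x ∈ P, x * x = 1 := by
      rintro x ⟨x1, x2, hx⟩
      exact kt.sq x hx.ma
    have hPa : ∀ x ∈ P, x ∈ fix (MulAut.conj s) := by
      rintro x ⟨x1, x2, hx⟩
      exact (hfix x).2 hx.self.symm
    have hPn : ∀ g ∈ fix (MulAut.conj s), ∀ x ∈ P, g * x * g⁻¹ ∈ P := by
      rintro g hg x ⟨x1, x2, hx⟩
      exact ⟨_, _, hx.conj ((hfix g).1 hg).symm⟩
    have hV2 := D8.Fi22.SylAut.isPGroup_closure hPs hPc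
    have hVn : ∀ g ∈ fix (MulAut.conj s), ∀ x ∈ closure P, g * x * g⁻¹ ∈ closure P := by
      intro g hg
      have h1 : closure P ≤ (closure P).comap (MulAut.conj g).toMonoidHom := by
        rw [closure_le]
        exact fun x hx => subset_closure (hPn g hg x hx)
      exact fun x hx => h1 hx
    set F := fix (MulAut.conj s) with hF
    have h3 := Cfsg.Agent.Lib.ComponentSolvable.commutator_component_solvable_eq_bot hJ.comp
      (R := (closure P).subgroupOf F)
      (by
        haveI : Fact (Nat.Prime 2) := ⟨Nat.prime_two⟩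
        haveI : Group.IsNilpotent ↥((closure P).subgroupOf F) :=
          (hV2.comap_of_injective _ F.subtype_injective).isNilpotent
        infer_instance)
      (by
        intro x _
        rw [mem_normalizer_iff]
        have h5 : ∀ x : F, ∀ y ∈ (closure P).subgroupOf F, x * y * x⁻¹ ∈ (closure P).subgroupOf F :=
          fun x y hy => hVn x x.2 y hy
        intro y
        refine ⟨h5 x y, fun h6 => ?_⟩
        have h7 := h5 x⁻¹ _ h6
        rwa [inv_inv, show x⁻¹ * (x * y * x⁻¹) * x = y by group] at h7)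
    rw [commutator_eq_bot_iff_le_centralizer] at h3
    have haP : a ∈ P := ⟨b, c, hT⟩
    have hbP : b ∈ P := ⟨a, c, hT.rot⟩
    obtain ⟨-, j, hj, hjne⟩ := pair_moves hα ha hb nab cab (by
      rw [MulAut.conj_apply, mul_inv_eq_iff_eq_mul]
      have e1 := hT.self
      have e2 := hT.rot.self
      calc s * (a * b) = (s * a) * b := by group
        _ = a * (s * b) := by rw [← e1]; group
        _ = a * b * s := by rw [← e2]; group) hJ
    apply hjne
    have hcj : ∀ x ∈ P, x * j = j * x := by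
      intro x hx
      have h4 := mem_centralizer_iff.1 (h3 (show (⟨j, hJ.le hj⟩ : F) ∈ J.subgroupOf F from hj))
        ⟨x, hPa x hx⟩ (subset_closure hx)
      exact congrArg Subtype.val h4
    calc a * b * j = a * (b * j) := by group
      _ = (a * j) * b := by rw [hcj b hbP]; group
      _ = j * (a * b) := by rw [hcj a haP]; group

end Cfsg.Agent.OddHalf.NI3.Ex.FiRow.Inner

end

-- merged: Cfsg.Agent.OddHalf.NI3.Ex.FiRow.Row
section

/-!
# (EX3): the row `Fi22` (helper286)
-/

set_option autoImplicit false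
set_option linter.style.haveILetI false

namespace Cfsg.Agent.OddHalf.NI3.Ex.FiRow.Row

open Subgroup Cfsg Cfsg.Agent.OddHalf.NI Cfsg.Agent.OddHalf.NI.Ex Cfsg.Agent.OddHalf.NI3.Ex
open Cfsg.Agent.OddHalf.NI3.Ex.FiRow.Base Cfsg.Agent.OddHalf.NI3.Ex.FiRow
open Cfsg.Agent.OddHalf.D3.EvDiag (qi)
open Cfsg.Agent.Co2Type.Setup (Sp6 card_sp6)

universe u

theorem qi_dvd (J : Subgroup Spor.Fi22) : qi J ∣ Nat.card ↥J := (center ↥J).index_dvd_card

theorem card_dvd (J : Subgroup Spor.Fi22) : Nat.card ↥J ∣ 64561751654400 := by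
  rw [← kt.card]
  exact card_subgroup_dvd_card J

/-- the arithmetic -/
theorem arith {c m n k : ℕ} (hc : c = 25920 ∨ c = 6065280 ∨ c = 3265920 ∨ c = 4585351680) (h1 : 1451520 ∣ m)
    (h2 : m ∣ 2 * 1451520) (h3 : m ∣ c) (hk : k ≤ n * m) (hn : n ≤ 2101) (hc' : c ≤ k) : False := by
  obtain ⟨a, rfl⟩ := h1
  have ha : a ∣ 2 := by
    have h4 : 1451520 * a ∣ 1451520 * 2 := by rwa [mul_comm 2] at h2
    exact Nat.dvd_of_mul_dvd_mul_left (by norm_num) h4
  have ha2 : a ≤ 2 := Nat.le_of_dvd (by norm_num) ha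
  obtain ⟨b, hb⟩ := h3
  have h4 : n * (1451520 * a) ≤ 2101 * (1451520 * a) := Nat.mul_le_mul_right _ hn
  interval_cases a
  · omega
  · omega
  · omega

/-- **No automorphism of `Fi22` of order two has a component over the field with three elements.** -/
theorem no3 : No3 Spor.Fi22 := by
  intro α hα J hJ h81 hRk
  by_contra hG
  have hfin : Finite Spor.Fi22 := Base.fin
  have h1 : α * α = 1 := by rw [← pow_two, ← hα, pow_orderOf_eq_one]
  have hne : α ≠ 1 := by
    rintro rfl
    rw [orderOf_one] at hα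
    omega
  have hqd := qi_dvd J
  have hJd := card_dvd J
  have hc : qi J = 25920 ∨ qi J = 6065280 ∨ qi J = 3265920 ∨ qi J = 4585351680 := by
    rcases Three.cases hRk h81 hG with h | h | h | h | h
    · exact Or.inl h.2.1
    · exact Or.inr (Or.inl h.1)
    · exact Or.inr (Or.inr (Or.inl h.1))
    · exact Or.inr (Or.inr (Or.inr h.1))
    · exfalso
      have h2 : 3 ^ 10 ∣ 64561751654400 := (Dvd.dvd.trans h hqd).trans hJd
      norm_num at h2
  have h2 : 2 ∣ Nat.card ↥J := by
    refine dvd_trans ?_ hqd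
    rcases hc with h | h | h | h <;> rw [h] <;> norm_num
  by_cases hin : ∃ y, α = MulAut.conj y
  · obtain ⟨y, rfl⟩ := hin
    have hyy : y * y = 1 := by
      apply Semi.conj_inj
      rw [map_mul, h1, map_one]
    have hy1 : y ≠ 1 := by
      rintro rfl
      exact hne (map_one _)
    have h3 := (Inner.inner hyy hy1 hJ).2
    rw [h3] at hc
    omega
  push Not at hin
  rcases Outer.outer h1 hin hJ h2 with h | ⟨t, ht, q, hq, B, -⟩
  · rw [h] at hc
    omega
  · have e1 := B.card_dvd hJ.le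
    have e2 := SType.Bc.card_dvd' (J := J) hq hJ.le
    have e3 := B.card_dvd_qi hq hJ.le
    have e4 := SType.Bc.card_le Outer.tr ht.1 ht.2 hJ.le
    have e5 : {x | x ∈ Base.T ∧ α x = x}.ncard ≤ 2101 := ncard_fixed_le hne
    rw [card_sp6] at e1 e2
    exact arith hc e1 e2 e3 e4 e5 (Nat.le_of_dvd Nat.card_pos hqd)

/-! ### Transport -/

section transport

open Cfsg.Agent.OddHalf.LieOddFam

universe v

variable {X : Type u} {Y : Type v} [Group X] [Group Y]

theorem fG2_congr' (e : X ≃* Y) {q : ℕ} (h : FG2 X q) : FG2 Y q := by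
  obtain ⟨F, i, j, h1, ⟨f⟩⟩ := h
  exact ⟨F, i, j, h1, ⟨e.symm.trans f⟩⟩

theorem No3.congr (e : X ≃* Y) (h : No3 Y) : No3 X := by
  intro α hα J hJ h81 hRk
  have hfix : (fix α).map e.toMonoidHom = fix (MulAut.congr e α) := by
    ext y
    constructor
    · rintro ⟨x, hx, rfl⟩
      show e (α (e.symm (e x))) = e x
      rw [e.symm_apply_apply, show α x = x from hx]
    · intro hy
      refine ⟨e.symm y, ?_, e.apply_symm_apply y⟩
      apply e.injective
      show e (α (e.symm y)) = e (e.symm y)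
      rw [e.apply_symm_apply]
      exact hy
  have hJ' := NI3.K.Congr.compIn_equiv e hJ
  rw [hfix] at hJ'
  let f : ↥J ≃* ↥(J.map e.toMonoidHom) := J.equivMapOfInjective e.toMonoidHom e.injective
  have hf : (center ↥J).map f.toMonoidHom = center ↥(J.map e.toMonoidHom) := by
    ext y
    obtain ⟨x, rfl⟩ := f.surjective y
    rw [Subgroup.mem_map_equiv, f.symm_apply_apply, mem_center_iff, mem_center_iff]
    constructor
    · intro h1 z
      obtain ⟨z, rfl⟩ := f.surjective z
      rw [← map_mul, ← map_mul, h1 z]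
    · intro h1 z
      apply f.injective
      rw [map_mul, map_mul, h1 (f z)]
  let g : (↥J ⧸ center ↥J) ≃* (↥(J.map e.toMonoidHom) ⧸ center ↥(J.map e.toMonoidHom)) :=
    QuotientGroup.congr _ _ f hf
  have h2 : orderOf (MulAut.congr e α) = 2 := by rw [MulEquiv.orderOf_eq, hα]
  have h3 := h (MulAut.congr e α) h2 _ hJ' (by rw [← Nat.card_congr g.toEquiv]; exact h81)
    (LieOddFam.rk_congr g hRk)
  exact fG2_congr' g.symm h3

end transport

/-- **The row `Fi22`.** -/
theorem no3_fi22 {X : Type u} [Group X] (h : Spor.IsoFi22 X) : No3 X := by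
  obtain ⟨e⟩ := h
  exact No3.congr e no3

theorem fi22 : XRow3.{u} (fun X _ => Spor.IsoFi22 X) := fun _ _ _ _ _ h => no3_fi22 h

end Cfsg.Agent.OddHalf.NI3.Ex.FiRow.Row

end

-- merged: Cfsg.Agent.OddHalf.NI3.Ex.Rows
section

/-!
# (EX3): assembly of the rows (helper5)

`rows3`: `Rows3` from the row `B`.
-/

set_option autoImplicit false

namespace Cfsg.Agent.OddHalf.NI3.Ex

open Subgroup Cfsg Cfsg.Agent.OddHalf.D9.Cut

universe u

/-- The open rows. -/
structure Rows3Open : Prop where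
  b : XRow3.{u} (fun X _ => Spor.IsoB X)

/-- **The rows of (EX3).** -/
theorem rows3 (R : Rows3Open.{u}) : Rows3.{u} where
  u62 := fun _ _ _ hs hna h => USix.no3_u62 hs hna h
  sp62 := fun _ _ _ hs hna h => no3_sp62 hs hna h
  o82 := fun _ _ _ hs hna h => no3_o82 hs hna h
  g24 := fun _ _ _ _ _ h => no3_g24 h
  f42 := FFour.f42'
  te62 := fun _ _ _ hs hna h => no3_te62 hs hna h
  m12 := fun _ _ _ _ _ h => no3_m12 h
  j2 := fun _ _ _ _ _ h => no3_j2 h
  hs := fun _ _ _ _ _ h => no3_hs h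
  suz := fun _ _ _ _ _ h => RowSuz.no3_suz h
  ru := fun _ _ _ _ _ h => no3_ru h
  fi22 := FiRow.Row.fi22
  co1 := fun _ _ _ _ _ h => RowCo1.no3_co1 h
  b := R.b
  m22 := fun _ _ _ _ _ h => no3_m22 h
  sz := fun _ _ _ _ _ h => no3_sz h
  l34 := fun _ _ _ _ _ h => no3_l34 h

end Cfsg.Agent.OddHalf.NI3.Ex

end
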